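import Cfsg.Agent.H183.SpCount

/-!
# The number of semisimple classes of `SU_n(q)`
-/

set_option autoImplicit false

namespace Cfsg.Agent.H183.SemisCount

open Polynomial Cfsg.Agent.H183.PolyCount Cfsg.Agent.H183.Semis Cfsg.Agent.H186 Cfsg.Agent.ClassicalGeometry.GUBasic

section SUn

variable {K : Type*} [Field K] [Fintype K] {q : ℕ}

/-- fixed points of a semilinear involution -/
theorem card_fix (hK : Fintype.card K = q ^ 2) {m : ℕ} (τ : (Fin m → K) → (Fin m → K))
    (hadd : ∀ u v, τ (u + v) = τ u + τ v) (hsmul : ∀ (c : K) v, τ (c • v) = c ^ q • τ v) (hτ : ∀ v, τ (τ v) = v) :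
    Nat.card {v : Fin m → K // τ v = v} = q ^ m := by
  obtain ⟨w, hw⟩ := exists_pow_ne (q := q) hK
  obtain ⟨σ, hσ⟩ := exists_powHom hK
  have hw' : w - w ^ q ≠ 0 := sub_ne_zero.2 (Ne.symm hw)
  have hsub : ∀ u v, τ (u - v) = τ u - τ v := by
    intro u v
    have := hadd (u - v) v
    rw [sub_add_cancel] at this
    rw [this, add_sub_cancel_right]
  let Φ : {v : Fin m → K // τ v = v} × {v : Fin m → K // τ v = v} → (Fin m → K) := fun x => x.1.1 + w • x.2.1
  have hΦ : Function.Bijective Φ := by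
    constructor
    · rintro ⟨⟨u, hu⟩, ⟨v, hv⟩⟩ ⟨⟨u', hu'⟩, ⟨v', hv'⟩⟩ h
      have h1 : u + w • v = u' + w • v' := h
      have h2 := congrArg τ h1
      rw [hadd, hadd, hsmul, hsmul, hu, hv, hu', hv'] at h2
      have h3 : (w - w ^ q) • (v - v') = 0 := by
        have : (w - w ^ q) • (v - v') = (u + w • v) - (u' + w • v') - ((u + w ^ q • v) - (u' + w ^ q • v')) := by
          rw [sub_smul, smul_sub, smul_sub]; abel
        rw [this, h1, h2, sub_self, sub_self, sub_self]
      have h4 : v = v' := by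
        rcases smul_eq_zero.1 h3 with h | h
        · exact absurd h hw'
        · exact sub_eq_zero.1 h
      subst h4
      have h5 : u = u' := add_right_cancel h1
      subst h5
      rfl
    · intro a
      have hq : (w - w ^ q) ^ q = w ^ q - w := by
        rw [← hσ, map_sub, hσ, hσ, pow_pow_q hK]
      have hv : τ ((w - w ^ q)⁻¹ • (a - τ a)) = (w - w ^ q)⁻¹ • (a - τ a) := by
        rw [hsmul, inv_pow, hq, hsub, hτ, ← neg_sub w (w ^ q), inv_neg, neg_smul, ← smul_neg, neg_sub]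
      have h6 : (w - w ^ q) • ((w - w ^ q)⁻¹ • (a - τ a)) = a - τ a := by
        rw [smul_smul, mul_inv_cancel₀ hw', one_smul]
      generalize (w - w ^ q)⁻¹ • (a - τ a) = b at hv h6
      rw [sub_smul] at h6
      refine ⟨⟨⟨a - w • b, ?_⟩, ⟨b, hv⟩⟩, ?_⟩
      · rw [hsub, hsmul, hv]
        have h7 : τ a = a - (w • b - w ^ q • b) := by
          rw [h6]; abel
        rw [h7]
        abel
      · show a - w • b + w • b = a
        rw [sub_add_cancel]
  have h8 := Nat.card_congr (Equiv.ofBijective Φ hΦ)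
  rw [Nat.card_prod, Nat.card_fun, Nat.card_eq_fintype_card (α := K), Nat.card_fin, hK, ← pow_mul, mul_comm 2 m, pow_mul,
    ← sq] at h8
  exact Nat.pow_left_injective (by norm_num : 2 ≠ 0) h8

/-- the polynomials which occur -/
def Pol (K : Type*) [Field K] (q m : ℕ) : Set K[X] :=
  {f | f.Monic ∧ f.natDegree = m + 1 ∧ f.coeff 0 = (-1) ^ (m + 1) ∧
    ∀ i, 1 ≤ i → i ≤ m → f.coeff (m + 1 - i) = (-1) ^ (m + 1) * f.coeff i ^ q}

theorem neg_one_pow_q (hK : Fintype.card K = q ^ 2) (k : ℕ) : ((-1 : K) ^ k) ^ q = (-1) ^ k := by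
  obtain ⟨σ, hσ⟩ := exists_powHom hK
  rw [← hσ, map_pow, map_neg, map_one]

omit [Fintype K] in
theorem neg_one_pow_sq (k : ℕ) : ((-1 : K) ^ k) * (-1) ^ k = 1 := by
  rw [← mul_pow]; simp

theorem card_pol (hK : Fintype.card K = q ^ 2) (m : ℕ) : Nat.card (Pol K q m) = q ^ m := by
  obtain ⟨σ, hσ⟩ := exists_powHom hK
  let τ : (Fin m → K) → (Fin m → K) := fun a i => (-1) ^ (m + 1) * (a (Fin.rev i)) ^ q
  rw [← card_fix hK τ (m := m)]
  rotate_left
  · intro u v
    funext i
    simp only [τ, Pi.add_apply, ← hσ, map_add]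
    ring
  · intro c v
    funext i
    simp only [τ, Pi.smul_apply, smul_eq_mul, mul_pow]
    ring
  · intro v
    funext i
    simp only [τ, mul_pow, Fin.rev_rev]
    rw [neg_one_pow_q hK, pow_pow_q hK, ← mul_assoc, neg_one_pow_sq, one_mul]
  refine Nat.card_congr
    { toFun := fun f => ⟨fun i => f.1.coeff (i + 1), ?_⟩
      invFun := fun a => ⟨mp (m + 1) (Fin.cons ((-1) ^ (m + 1)) a.1), mp_monic _ _, mp_natDegree _ _, ?_, ?_⟩
      left_inv := ?_
      right_inv := ?_ }
  · obtain ⟨f, hf1, hf2, hf3, hf4⟩ := f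
    funext i
    show (-1) ^ (m + 1) * (f.coeff ((Fin.rev i : Fin m) + 1)) ^ q = f.coeff (i + 1)
    have h1 := hf4 ((Fin.rev i : Fin m) + 1) (by omega) (by have := (Fin.rev i).2; omega)
    rw [← h1]
    congr 1
    rw [Fin.val_rev]
    have := i.2
    omega
  · have h1 := mp_coeff (m + 1) (Fin.cons ((-1) ^ (m + 1)) a.1 : Fin (m + 1) → K) 0
    simpa using h1
  · intro i hi1 hi2
    have hc : ∀ j : Fin m, (mp (m + 1) (Fin.cons ((-1) ^ (m + 1)) a.1 : Fin (m + 1) → K)).coeff (j + 1) = a.1 j := by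
      intro j
      have h1 := mp_coeff (m + 1) (Fin.cons ((-1) ^ (m + 1)) a.1 : Fin (m + 1) → K) j.succ
      simpa using h1
    have e1 : m + 1 - i = ((Fin.rev ⟨i - 1, by omega⟩ : Fin m) : ℕ) + 1 := by
      rw [Fin.val_rev]; show m + 1 - i = (m - (i - 1 + 1)) + 1; omega
    have e2 : i = ((⟨i - 1, by omega⟩ : Fin m) : ℕ) + 1 := by show i = i - 1 + 1; omega
    rw [e1, hc]
    conv_rhs => rw [e2, hc]
    have h2 := congrFun a.2 (Fin.rev ⟨i - 1, by omega⟩)
    simp only [τ, Fin.rev_rev] at h2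
    exact h2.symm
  · rintro ⟨f, hf1, hf2, hf3, hf4⟩
    apply Subtype.ext
    show mp (m + 1) _ = f
    conv_rhs => rw [eq_mp (m + 1) hf1 hf2]
    congr 1
    funext i
    refine Fin.cases ?_ (fun j => ?_) i
    · simp [hf3]
    · simp
  · rintro ⟨a, ha⟩
    apply Subtype.ext
    funext j
    have h1 := mp_coeff (m + 1) (Fin.cons ((-1) ^ (m + 1)) a : Fin (m + 1) → K) j.succ
    simpa using h1

/-- the condition in terms of the reversed polynomial -/
theorem mem_pol_iff (hK : Fintype.card K = q ^ 2) (σ : K →+* K) (hσ : ∀ x, σ x = x ^ q) {m : ℕ} {f : K[X]} (hf : f.Monic)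
    (hd : f.natDegree = m + 1) (h0 : f.coeff 0 = (-1) ^ (m + 1)) :
    f ∈ Pol K q m ↔ f.map σ = C ((-1) ^ (m + 1)) * f.reverse := by
  have hlead : f.coeff (m + 1) = 1 := by have := hf.coeff_natDegree; rwa [hd] at this
  constructor
  · rintro ⟨-, -, -, h4⟩
    ext i
    rw [coeff_map, coeff_C_mul, hσ]
    rcases le_or_gt i (m + 1) with hi | hi
    · rw [coeff_reverse, hd, revAt_le hi]
      rcases Nat.eq_zero_or_pos i with rfl | hi0
      · rw [h0, Nat.sub_zero, hlead, mul_one, neg_one_pow_q hK]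
      · rcases Nat.lt_or_ge m i with hm | hm
        · obtain rfl : i = m + 1 := by omega
          rw [hlead, Nat.sub_self, h0, one_pow, neg_one_pow_sq]
        · rw [h4 i hi0 hm, ← mul_assoc, neg_one_pow_sq, one_mul]
    · rw [coeff_eq_zero_of_natDegree_lt (by rw [hd]; exact hi), zero_pow (by have := two_le hK; omega),
        coeff_eq_zero_of_natDegree_lt (lt_of_le_of_lt (reverse_natDegree_le f) (by rw [hd]; exact hi)), mul_zero]
  · intro h
    refine ⟨hf, hd, h0, fun i hi1 hi2 => ?_⟩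
    have h1 := congrArg (fun g => g.coeff i) h
    simp only [coeff_map, coeff_C_mul] at h1
    rw [hσ, coeff_reverse, hd, revAt_le (by omega : i ≤ m + 1)] at h1
    rw [h1, ← mul_assoc, neg_one_pow_sq, one_mul]

theorem st_pow {ι : Type*} [Fintype ι] [DecidableEq ι] (hK : Fintype.card K = q ^ 2) (M : Matrix ι ι K) (k : ℕ) :
    st q (M ^ k) = st q M ^ k := by
  induction k with
  | zero => rw [pow_zero, pow_zero, st_one hK]
  | succ k ih => rw [pow_succ, st_mul hK, ih, pow_succ']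

omit [Fintype K] in
theorem charpoly_st {ι : Type*} [Fintype ι] [DecidableEq ι] (σ : K →+* K) (hσ : ∀ x, σ x = x ^ q) (M : Matrix ι ι K) :
    (st q M).charpoly = M.charpoly.map σ := by
  have h1 : st q M = (M.map σ).transpose := by
    ext i j
    simp [st_apply, hσ]
  rw [h1, Matrix.charpoly_transpose, Matrix.charpoly_map]

omit [Fintype K] in
theorem charpoly_inv_of_det {ι : Type*} [Fintype ι] [DecidableEq ι] (M : Matrix ι ι K) (h : M.det = 1) :
    M⁻¹.charpoly = C ((-1) ^ Fintype.card ι) * M.charpoly.reverse := by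
  have hu : IsUnit M := by rw [Matrix.isUnit_iff_isUnit_det, h]; exact isUnit_one
  rw [Matrix.charpoly_inv M hu, h, Ring.inverse_one, C_1, mul_one, Matrix.reverse_charpoly]
  simp

/-- **Statement S2386.** -/
theorem card_su (hK : Fintype.card K = q ^ 2) (p : ℕ) [Fact p.Prime] [CharP K p] (n : ℕ) (hn : 1 ≤ n) :
    Nat.card {c : ConjClasses ↥(Cfsg.SU n K q) // ∃ g : ↥(Cfsg.SU n K q), ConjClasses.mk g = c ∧ (orderOf g).Coprime p} =
      q ^ (n - 1) := by
  classical
  obtain ⟨σ, hσ⟩ := exists_powHom hK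
  obtain ⟨m, rfl⟩ : ∃ m, n = m + 1 := ⟨n - 1, by omega⟩
  let ρ : ↥(Cfsg.SU (m + 1) K q) →* Matrix (Fin (m + 1)) (Fin (m + 1)) K :=
    { toFun := fun g => ((g : Matrix.SpecialLinearGroup (Fin (m + 1)) K) : Matrix (Fin (m + 1)) (Fin (m + 1)) K)
      map_one' := rfl
      map_mul' := fun _ _ => rfl }
  have ofSU : ∀ s : ↥(Cfsg.SU (m + 1) K q), st q (ρ s) * ρ s = 1 := by
    intro s
    have h1 : ((s : Matrix.SpecialLinearGroup (Fin (m + 1)) K) : GL (Fin (m + 1)) K) ∈ Cfsg.GU (m + 1) K q := s.2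
    exact (mem_GU_iff_st hK _).1 h1
  rw [card_classes (F := K) p ρ (fun g h hg hh hc => su_isConj hK p g h hg hh hc)]
  rw [show m + 1 - 1 = m from rfl, ← card_pol hK m]
  congr 1
  congr 1
  ext f
  have hcoef : ∀ M : Matrix (Fin (m + 1)) (Fin (m + 1)) K, M.det = 1 → M.charpoly.coeff 0 = (-1) ^ (m + 1) := by
    intro M hM
    have h1 := Matrix.det_eq_sign_charpoly_coeff M
    rw [hM, Fintype.card_fin] at h1
    calc M.charpoly.coeff 0 = ((-1 : K) ^ (m + 1)) * (((-1 : K) ^ (m + 1)) * M.charpoly.coeff 0) := by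
          rw [← mul_assoc, neg_one_pow_sq, one_mul]
      _ = (-1) ^ (m + 1) := by rw [← h1, mul_one]
  have hnd : ∀ M : Matrix (Fin (m + 1)) (Fin (m + 1)) K, M.charpoly.natDegree = m + 1 := by
    intro M
    rw [Matrix.charpoly_natDegree_eq_dim, Fintype.card_fin]
  constructor
  · rintro ⟨s, rfl⟩
    have hdet : (ρ s).det = 1 := (s : Matrix.SpecialLinearGroup (Fin (m + 1)) K).2
    show (ρ s).charpoly ∈ Pol K q m
    rw [mem_pol_iff hK σ hσ (Matrix.charpoly_monic _) (hnd _) (hcoef _ hdet), ← charpoly_st σ hσ,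
      show st q (ρ s) = (ρ s)⁻¹ from (Matrix.inv_eq_left_inv (ofSU s)).symm, charpoly_inv_of_det _ hdet, Fintype.card_fin]
  · intro hf
    obtain ⟨hf1, hf2, hf3, -⟩ := id hf
    rw [mem_pol_iff hK σ hσ hf1 hf2 hf3] at hf
    obtain ⟨M, hM⟩ := exists_charpoly (m + 1) hf1 hf2
    have hdet : M.det = 1 := by
      rw [Matrix.det_eq_sign_charpoly_coeff, Fintype.card_fin, hM, hf3, neg_one_pow_sq]
    -- the `p'`-part
    let g : Matrix.SpecialLinearGroup (Fin (m + 1)) K := ⟨M, hdet⟩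
    obtain ⟨k, hk⟩ := exists_pow_coprime (F := K) p g
    set a := g ^ (Fintype.card K ^ k) with ha
    have hac : (a : Matrix (Fin (m + 1)) (Fin (m + 1)) K).charpoly = f := by
      rw [ha, Matrix.SpecialLinearGroup.coe_pow, charpoly_pow]
      exact hM
    have hadet : (a : Matrix (Fin (m + 1)) (Fin (m + 1)) K).det = 1 := a.2
    have hapow : (a : Matrix (Fin (m + 1)) (Fin (m + 1)) K) ^ orderOf a = 1 := by
      rw [← Matrix.SpecialLinearGroup.coe_pow, pow_orderOf_eq_one]; rfl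
    set A : GL (Fin (m + 1)) K := (a : GL (Fin (m + 1)) K) with hA
    have hAa : (A : Matrix (Fin (m + 1)) (Fin (m + 1)) K) = (a : Matrix (Fin (m + 1)) (Fin (m + 1)) K) := rfl
    have hu : IsUnit (st q (a : Matrix (Fin (m + 1)) (Fin (m + 1)) K)).det := by
      rw [det_st hK, hadet, one_pow]; exact isUnit_one
    have hst1 : (st q (a : Matrix (Fin (m + 1)) (Fin (m + 1)) K))⁻¹ = st q ((a : Matrix (Fin (m + 1)) (Fin (m + 1)) K)⁻¹) := by
      apply Matrix.inv_eq_left_inv
      rw [← st_mul hK, Matrix.mul_nonsing_inv _ (by rw [hadet]; exact isUnit_one), st_one hK]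
    -- `(st A)⁻¹` has the same characteristic polynomial
    have hch : ((st q (a : Matrix (Fin (m + 1)) (Fin (m + 1)) K))⁻¹).charpoly = f := by
      rw [hst1, charpoly_st σ hσ, charpoly_inv_of_det _ hadet, hac, Fintype.card_fin, ← hf, Polynomial.map_map]
      have : σ.comp σ = RingHom.id K := by
        ext x
        rw [RingHom.comp_apply, hσ, hσ, pow_pow_q hK]; rfl
      rw [this, Polynomial.map_id]
    have hpw2 : ((st q (a : Matrix (Fin (m + 1)) (Fin (m + 1)) K))⁻¹) ^ orderOf a = 1 := by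
      rw [Matrix.inv_pow', ← st_pow hK]
      erw [hapow]
      rw [st_one hK, inv_one]
    obtain ⟨x, hx⟩ := similar_of_charpoly _ _ hapow (natCast_ne_zero p hk) hpw2 (natCast_ne_zero p hk) (hac.trans hch.symm)
    obtain ⟨B, hB⟩ := (exists_isConj_iff hK A).2 (by
      show IsConj (a : Matrix (Fin (m + 1)) (Fin (m + 1)) K) (st q (a : Matrix (Fin (m + 1)) (Fin (m + 1)) K))⁻¹
      exact ⟨x, hx⟩)
    obtain ⟨c, hc⟩ := isConj_iff.1 hB
    have hBc : ((B : GL (Fin (m + 1)) K) : Matrix (Fin (m + 1)) (Fin (m + 1)) K).charpoly = f := by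
      rw [← hc, Units.val_mul, Matrix.charpoly_mul_comm, ← Units.val_mul, ← mul_assoc, inv_mul_cancel, one_mul]
      exact hac
    have hBdet : ((B : GL (Fin (m + 1)) K) : Matrix (Fin (m + 1)) (Fin (m + 1)) K).det = 1 := by
      rw [Matrix.det_eq_sign_charpoly_coeff, Fintype.card_fin, hBc, hf3, neg_one_pow_sq]
    let s : Matrix.SpecialLinearGroup (Fin (m + 1)) K := ⟨((B : GL (Fin (m + 1)) K) : Matrix (Fin (m + 1)) (Fin (m + 1)) K), hBdet⟩
    have hs : s ∈ Cfsg.SU (m + 1) K q := by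
      intro u' v'
      exact B.2 u' v'
    exact ⟨⟨s, hs⟩, hBc⟩

end SUn

end Cfsg.Agent.H183.SemisCount
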