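import Mathlib
import Cfsg.Agent.H183.OutAbs
import Cfsg.Agent.ClassicalGeometry.Sp4GraphAut
import Cfsg.Agent.ClassicalGeometry.AutPSpCount
import Cfsg.Agent.StdAlt.Six.AutLemmas
import Cfsg.Agent.S0247
import Cfsg.Agent.S0814

/-!
The outer automorphism group of `PSp_4(2^f)` is cyclic of order `2f`.
-/

set_option autoImplicit false
set_option linter.unusedSectionVars false

namespace Cfsg.Agent.H183.OutSp4

open Matrix Cfsg
open Cfsg.Agent.ClassicalGeometry.Sp4Graph Cfsg.Agent.ClassicalGeometry.SympBasic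
open Cfsg.Agent.ClassicalGeometry.Sp4GraphAut
open Cfsg.Agent.H183.OutAbs

section six

open Cfsg.Agent.StdAlt.Six

/-- the restriction of an automorphism of `S_6` to `A_6` -/
theorem exists_restr (α : MulAut (Equiv.Perm (Fin 6))) :
    ∃ β : MulAut A6, ∀ x : A6, ((β x : A6) : Equiv.Perm (Fin 6)) = α x := by
  have hmap : ∀ α : MulAut (Equiv.Perm (Fin 6)), ∀ x ∈ alternatingGroup (Fin 6), α x ∈ alternatingGroup (Fin 6) := by
    intro α x hx
    have hcomm : commutator (Equiv.Perm (Fin 6)) = alternatingGroup (Fin 6) := by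
      apply alternatingGroup.commutator_perm_eq
      simp
    rw [← hcomm] at hx ⊢
    have h : (commutator (Equiv.Perm (Fin 6))).map α.toMonoidHom ≤ commutator (Equiv.Perm (Fin 6)) := by
      rw [commutator_def, Subgroup.map_commutator]
      exact Subgroup.commutator_mono le_top le_top
    exact h ⟨x, hx, rfl⟩
  refine ⟨{ toFun := fun x => ⟨α x, hmap α x x.2⟩
            invFun := fun x => ⟨α⁻¹ x, hmap α⁻¹ x x.2⟩
            left_inv := fun x => Subtype.ext (α.symm_apply_apply x)
            right_inv := fun x => Subtype.ext (α.apply_symm_apply x)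
            map_mul' := fun x y => Subtype.ext
              (map_mul α (x : Equiv.Perm (Fin 6)) (y : Equiv.Perm (Fin 6))) }, fun x => rfl⟩

theorem centralizer_A6 (w : Equiv.Perm (Fin 6)) (h : ∀ x : A6, w * x = x * w) : w = 1 := by
  have key : ∀ w : Equiv.Perm (Fin 6), w * c0 = c0 * w → w * d0 = d0 * w → w * f0 = f0 * w →
      w * a0 = a0 * w → w * z0 = z0 * w → w * b0 = b0 * w → w = 1 := by
    decide +kernel
  exact key w (h C0) (h D0) (h F0) (h A0) (h Z0) (h B0)

/-- automorphisms of `S_6` whose restriction is induced by a permutation are inner -/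
theorem inner_of_NS {α : MulAut (Equiv.Perm (Fin 6))} {β : MulAut A6}
    (hβ : ∀ x : A6, ((β x : A6) : Equiv.Perm (Fin 6)) = α x) (h : NS β) :
    α ∈ Cfsg.Inn (Equiv.Perm (Fin 6)) := by
  obtain ⟨σ, hσ⟩ := h
  refine ⟨σ, ?_⟩
  apply MulEquiv.ext
  intro x
  rw [MulAut.conj_apply]
  have hα : ∀ a : A6, α a = σ * a * σ⁻¹ := fun a => by rw [← hβ, hσ]
  have h1 : (α x)⁻¹ * (σ * x * σ⁻¹) = 1 := by
    apply centralizer_A6
    intro a
    -- write `a = σ b σ⁻¹` with `b = x⁻¹ ... `
    have hn : (alternatingGroup (Fin 6)).Normal := inferInstance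
    have hb : σ⁻¹ * a * σ ∈ alternatingGroup (Fin 6) := by
      have := hn.conj_mem a a.2 σ⁻¹
      rwa [inv_inv] at this
    have hb' : x * (σ⁻¹ * a * σ) * x⁻¹ ∈ alternatingGroup (Fin 6) := hn.conj_mem _ hb x
    have h3 := hα ⟨_, hb'⟩
    have h4 := hα ⟨_, hb⟩
    simp only [map_mul, map_inv] at h3 h4
    -- h4 : α (σ⁻¹ a σ) = σ (σ⁻¹ a σ) σ⁻¹ = a
    have h5 : (α σ)⁻¹ * α a * α σ = a := by
      rw [h4]; group
    have h6 : α x * a * (α x)⁻¹ = (σ * x * σ⁻¹) * a * (σ * x * σ⁻¹)⁻¹ := by
      have h7 : α x * ((α σ)⁻¹ * α a * α σ) * (α x)⁻¹ = σ * (x * (σ⁻¹ * a * σ) * x⁻¹) * σ⁻¹ := h3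
      rw [h5] at h7
      rw [h7]
      group
    have h8 : (σ * x * σ⁻¹) * (a : Equiv.Perm (Fin 6)) = α x * a * (α x)⁻¹ * (σ * x * σ⁻¹) := by
      rw [h6]; group
    calc (α x)⁻¹ * (σ * x * σ⁻¹) * (a : Equiv.Perm (Fin 6))
        = (α x)⁻¹ * ((σ * x * σ⁻¹) * a) := by group
      _ = a * ((α x)⁻¹ * (σ * x * σ⁻¹)) := by rw [h8]; group
  exact (inv_mul_eq_one.1 h1).symm

/-- The product of two automorphisms of `S_6` that are not inner is inner. -/
theorem mul_inner {α β : MulAut (Equiv.Perm (Fin 6))} (hα : α ∉ Cfsg.Inn (Equiv.Perm (Fin 6)))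
    (hβ : β ∉ Cfsg.Inn (Equiv.Perm (Fin 6))) : α * β ∈ Cfsg.Inn (Equiv.Perm (Fin 6)) := by
  obtain ⟨α', h1⟩ := exists_restr α
  obtain ⟨β', h2⟩ := exists_restr β
  refine inner_of_NS (β := α' * β') (fun x => ?_)
    (NS.mul_of_not (fun h => hα (inner_of_NS h1 h)) (fun h => hβ (inner_of_NS h2 h)))
  rw [MulAut.mul_apply, h1, h2, MulAut.mul_apply]

/-- transport to a group isomorphic to `S_6` -/
theorem mul_inner' {G : Type*} [Group G] (e : G ≃* Equiv.Perm (Fin 6)) {α β : MulAut G}
    (hα : α ∉ Cfsg.Inn G) (hβ : β ∉ Cfsg.Inn G) : α * β ∈ Cfsg.Inn G := by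
  have key : ∀ γ : MulAut G, γ ∈ Cfsg.Inn G ↔ (MulAut.congr e) γ ∈ Cfsg.Inn (Equiv.Perm (Fin 6)) := by
    intro γ
    constructor
    · rintro ⟨g, rfl⟩
      refine ⟨e g, ?_⟩
      apply MulEquiv.ext
      intro x
      simp [MulAut.congr, MulAut.conj_apply]
    · rintro ⟨g, hg⟩
      refine ⟨e.symm g, ?_⟩
      apply MulEquiv.ext
      intro x
      have := congrArg (fun δ : MulAut (Equiv.Perm (Fin 6)) => e.symm (δ (e x))) hg
      simpa [MulAut.congr, MulAut.conj_apply] using this
  rw [key, map_mul]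
  exact mul_inner (fun h => hα ((key α).2 h)) (fun h => hβ ((key β).2 h))

end six

section graph

variable {F : Type*} [Field F] [CharP F 2] [Finite F]

/-- `γ^(2j)` raises the matrix entries to the power `2^j`. -/
theorem gamma_pow_mk (j : ℕ) (A : Matrix.symplecticGroup (Fin 2) F) :
    ∃ B : Matrix.symplecticGroup (Fin 2) F, (gamma F ^ (2 * j)) (QuotientGroup.mk A) = QuotientGroup.mk B ∧
      ∀ i k, (B : Matrix I4 I4 F) i k = (A : Matrix I4 I4 F) i k ^ (2 ^ j) := by
  induction j generalizing A with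
  | zero => exact ⟨A, rfl, fun i k => by rw [pow_zero, pow_one]⟩
  | succ j ih =>
    obtain ⟨B, h1, h2⟩ := ih (graphHom F (graphHom F A))
    refine ⟨B, ?_, fun i k => ?_⟩
    · rw [mul_add, mul_one, pow_add, MulAut.mul_apply, sq, MulAut.mul_apply, gamma_mk, gamma_mk]
      exact h1
    · rw [h2, graphHom_graphHom, ← pow_mul, ← pow_succ']

/-- An odd power of `γ` is not inner. -/
theorem gamma_pow_odd_not_inn (j : ℕ) : gamma F ^ (2 * j + 1) ∉ Cfsg.Inn (PSp 2 F) := by
  rintro ⟨x, hx⟩
  have h1 := congrArg (fun α : MulAut (PSp 2 F) => α (QuotientGroup.mk (transv (e1 F) 1))) hx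
  simp only [MulAut.conj_apply] at h1
  obtain ⟨v', -, h2⟩ := Cfsg.Agent.ClassicalGeometry.AutPSpCount.exists_conj_mk_transv x (e1_ne_zero (F := F)) 1
  rw [h2, pow_succ, MulAut.mul_apply, gamma_transv] at h1
  obtain ⟨B, h3, h4⟩ := gamma_pow_mk j (S (1 : F))
  rw [h3] at h1
  have h5 : B = S 1 := by
    apply Subtype.ext
    ext i k
    rw [h4, S_coe, Matrix.of_apply]
    rcases i with i | i <;> rcases k with k | k <;> fin_cases i <;> fin_cases k <;> simp
  rw [h5] at h1
  exact S_ne_transv one_ne_zero _ _ (mk_injective (by norm_num) h1.symm)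

/-- A symplectic matrix with trace `t`. -/
theorem exists_trace (t : F) : ∃ A : Matrix.symplecticGroup (Fin 2) F, (A : Matrix I4 I4 F).trace = t := by
  have h2 : (2 : F) = 0 := CharTwo.two_eq_zero
  have hadd : ∀ z : F, z + z = 0 := CharTwo.add_self_eq_zero
  let M : Matrix I4 I4 F := Matrix.of fun i k =>
    (if i = .inl 0 ∧ k = .inl 0 then t else 0) + (if i = .inl 0 ∧ k = .inr 0 then 1 else 0) +
    (if i = .inr 0 ∧ k = .inl 0 then 1 else 0) + (if i = .inl 1 ∧ k = .inl 1 then 1 else 0) +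
    (if i = .inr 1 ∧ k = .inr 1 then 1 else 0)
  refine ⟨⟨M, ?_⟩, ?_⟩
  · apply mem_of_row_rel
    intro i k
    rcases i with i | i <;> rcases k with k | k <;> fin_cases i <;> fin_cases k <;> simp [M, hadd]
  · change M.trace = t
    simp [Matrix.trace, M, Fintype.sum_sum_type, Fin.sum_univ_two, add_assoc, hadd]

/-- If `γ^(2j)` is inner then `t^(2^j) = t` for all `t`. -/
theorem pow_eq_of_inn {j : ℕ} (h : gamma F ^ (2 * j) ∈ Cfsg.Inn (PSp 2 F)) (t : F) : t ^ (2 ^ j) = t := by
  obtain ⟨x, hx⟩ := h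
  obtain ⟨A, hA⟩ := exists_trace t
  obtain ⟨X, rfl⟩ := QuotientGroup.mk_surjective x
  have h1 := congrArg (fun α : MulAut (PSp 2 F) => α (QuotientGroup.mk A)) hx
  simp only [MulAut.conj_apply] at h1
  obtain ⟨B, h3, h4⟩ := gamma_pow_mk j A
  rw [h3, ← QuotientGroup.mk_mul, ← QuotientGroup.mk_inv, ← QuotientGroup.mk_mul] at h1
  have h5 := mk_injective (by norm_num) h1
  have h6 : (B : Matrix I4 I4 F).trace = (A : Matrix I4 I4 F).trace := by
    rw [← h5]
    change ((X : Matrix I4 I4 F) * (A : Matrix I4 I4 F) * ((X⁻¹ : Matrix.symplecticGroup (Fin 2) F) : Matrix I4 I4 F)).trace = _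
    rw [Matrix.trace_mul_comm, ← mul_assoc]
    have : ((X⁻¹ : Matrix.symplecticGroup (Fin 2) F) : Matrix I4 I4 F) * (X : Matrix I4 I4 F) = 1 :=
      congrArg Subtype.val (inv_mul_cancel X)
    rw [this, one_mul]
  have h7 : (B : Matrix I4 I4 F).trace = (A : Matrix I4 I4 F).trace ^ (2 ^ j) := by
    rw [Matrix.trace, Matrix.trace, ← iterateFrobenius_def (p := 2), map_sum]
    refine Finset.sum_congr rfl fun i _ => ?_
    rw [iterateFrobenius_def]
    exact h4 i i
  rw [← hA, ← h7, h6]

theorem dvd_of_pow_eq {K : Type*} [Field K] [Fintype K] {f j : ℕ} (hf : 1 ≤ f)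
    (hF : Fintype.card K = 2 ^ f) (h : ∀ t : K, t ^ (2 ^ j) = t) : f ∣ j := by
  have hq : ∀ t : K, t ^ (2 ^ f) = t := fun t => by rw [← hF]; exact FiniteField.pow_card t
  have hmul : ∀ (m : ℕ) (t : K), t ^ (2 ^ (f * m)) = t := by
    intro m
    induction m with
    | zero => intro t; simp
    | succ m ih => intro t; rw [mul_add, mul_one, pow_add, pow_mul, ih, hq]
  have hr : ∀ t : K, t ^ (2 ^ (j % f)) = t := by
    intro t
    have h1 := h t
    rw [← Nat.div_add_mod j f, pow_add, pow_mul, hmul] at h1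
    exact h1
  by_contra hne
  have hlt : j % f < f := Nat.mod_lt _ (by omega)
  have hpos : j % f ≠ 0 := fun h0 => hne (Nat.dvd_of_mod_eq_zero h0)
  classical
  have h2 : 1 < 2 ^ (j % f) := Nat.one_lt_two_pow hpos
  have hP : (Polynomial.X ^ (2 ^ (j % f)) - Polynomial.X : Polynomial K) ≠ 0 :=
    FiniteField.X_pow_card_sub_X_ne_zero K h2
  have hdeg : (Polynomial.X ^ (2 ^ (j % f)) - Polynomial.X : Polynomial K).natDegree = 2 ^ (j % f) :=
    FiniteField.X_pow_card_sub_X_natDegree_eq K h2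
  have hsub : (Finset.univ : Finset K) ⊆
      (Polynomial.X ^ (2 ^ (j % f)) - Polynomial.X : Polynomial K).roots.toFinset := by
    intro t _
    rw [Multiset.mem_toFinset, Polynomial.mem_roots hP, Polynomial.IsRoot.def]
    simp [hr t]
  have hle := Finset.card_le_card hsub
  have hle2 : (Polynomial.X ^ (2 ^ (j % f)) - Polynomial.X : Polynomial K).roots.toFinset.card ≤ 2 ^ (j % f) := by
    exact ((Multiset.toFinset_card_le _).trans (Polynomial.card_roots' _)).trans hdeg.le
  rw [Finset.card_univ, hF] at hle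
  have := Nat.pow_lt_pow_right (a := 2) (by norm_num) hlt
  omega

end graph

/-- `Out(PSp_4(2^f))`. -/
theorem out_psp4 {F : Type*} [Field F] [Fintype F] {f : ℕ} (hf : 1 ≤ f) (hF : Fintype.card F = 2 ^ f) :
    IsCyclic (Cfsg.Out (Cfsg.PSp 2 F)) ∧ Nat.card (Cfsg.Out (Cfsg.PSp 2 F)) = 2 * f := by
  have : Fact (Nat.Prime 2) := ⟨Nat.prime_two⟩
  have hchar : CharP F 2 := charP_of_card_eq_prime_pow hF
  have hfin : Finite (PSp 2 F) := Finite.of_surjective _ (QuotientGroup.mk_surjective
    (s := Subgroup.center (Matrix.symplecticGroup (Fin 2) F)))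
  have hfinA : Finite (MulAut (PSp 2 F)) :=
    Finite.of_injective (fun α : MulAut (PSp 2 F) => (α : PSp 2 F → PSp 2 F))
      (fun α β h => MulEquiv.ext fun x => congrFun h x)
  have hfinO : Finite (Cfsg.Out (PSp 2 F)) := inferInstance
  set g : Cfsg.Out (PSp 2 F) := QuotientGroup.mk (gamma F) with hg
  -- the order of `g` is a multiple of `2 f`
  have hdvd : 2 * f ∣ orderOf g := by
    have h1 : gamma F ^ (orderOf g) ∈ Cfsg.Inn (PSp 2 F) := by
      rw [← QuotientGroup.eq_one_iff, QuotientGroup.mk_pow]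
      exact pow_orderOf_eq_one g
    rcases Nat.even_or_odd' (orderOf g) with ⟨j, hj | hj⟩
    · rw [hj] at h1 ⊢
      exact Nat.mul_dvd_mul_left 2 (dvd_of_pow_eq hf hF (fun t => pow_eq_of_inn h1 t))
    · exfalso
      rw [hj] at h1
      exact gamma_pow_odd_not_inn j h1
  have hpos : 0 < orderOf g := orderOf_pos g
  have hle : 2 * f ≤ orderOf g := Nat.le_of_dvd hpos hdvd
  have hle2 : orderOf g ≤ Nat.card (Cfsg.Out (PSp 2 F)) := Nat.le_of_dvd Nat.card_pos (orderOf_dvd_natCard g)
  -- the upper bound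
  have hcard : Nat.card (Cfsg.Out (PSp 2 F)) ≤ 2 * f := by
    rcases Nat.lt_or_ge 1 f with hf2 | hf1
    · -- `f ≥ 2`
      have hq : 4 ≤ 2 ^ f := by
        calc 4 = 2 ^ 2 := by norm_num
          _ ≤ 2 ^ f := Nat.pow_le_pow_right (by norm_num) hf2
      have hA := Cfsg.Agent.S0814.result (F := F) 2 f hf hF 2 le_rfl (fun _ => by omega)
      rw [if_pos ⟨rfl, rfl⟩] at hA
      have hgcd : Nat.gcd 2 (2 ^ f - 1) = 1 := by
        have : Odd (2 ^ f - 1) := by
          have h2 : Even (2 ^ f) := (Nat.even_pow.2 ⟨even_two, by omega⟩)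
          obtain ⟨k, hk⟩ := h2
          exact ⟨k - 1, by omega⟩
        exact Nat.coprime_two_left.2 this
      rw [hgcd, mul_one] at hA
      have hZ : Subgroup.center (PSp 2 F) = ⊥ := by
        rw [eq_bot_iff]
        intro x hx
        obtain ⟨A, rfl⟩ := QuotientGroup.mk_surjective x
        rw [Subgroup.mem_bot]
        have : A ∈ Subgroup.center (Matrix.symplecticGroup (Fin 2) F) := by
          rw [Subgroup.mem_center_iff] at hx ⊢
          intro B
          have := hx (QuotientGroup.mk B)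
          rw [← QuotientGroup.mk_mul, ← QuotientGroup.mk_mul] at this
          exact mk_injective (by norm_num) this
        rw [center_eq_bot (by norm_num), Subgroup.mem_bot] at this
        rw [this]
        rfl
      have h3 := card_out_mul hZ
      rw [hA] at h3
      exact (Nat.eq_of_mul_eq_mul_right Nat.card_pos h3).le
    · -- `f = 1`
      have hf1' : f = 1 := by omega
      subst hf1'
      obtain ⟨e⟩ := Cfsg.Agent.S0247.result (F := F) (by rw [hF, pow_one])
      have hbij : Function.Bijective (QuotientGroup.mk' (Subgroup.center (Matrix.symplecticGroup (Fin 2) F))) :=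
        ⟨fun A B h => mk_injective (by norm_num) h, QuotientGroup.mk'_surjective _⟩
      let e' : PSp 2 F ≃* Equiv.Perm (Fin 6) := (MulEquiv.ofBijective _ hbij).symm.trans e
      have key : ∀ x y : Cfsg.Out (PSp 2 F), x ≠ 1 → y ≠ 1 → x * y = 1 := by
        intro x y hx hy
        obtain ⟨α, rfl⟩ := QuotientGroup.mk_surjective x
        obtain ⟨β, rfl⟩ := QuotientGroup.mk_surjective y
        rw [← QuotientGroup.mk_mul, QuotientGroup.eq_one_iff]
        exact mul_inner' e' (fun h => hx ((QuotientGroup.eq_one_iff _).2 h))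
          (fun h => hy ((QuotientGroup.eq_one_iff _).2 h))
      have hsub : ∀ x : Cfsg.Out (PSp 2 F), x = 1 ∨ x = g := by
        intro x
        by_cases hx : x = 1
        · exact Or.inl hx
        · right
          have hg1 : g ≠ 1 := by
            intro h1
            rw [h1, orderOf_one] at hle
            omega
          have h1 := key x g hx hg1
          have h2 := key g g hg1 hg1
          exact mul_right_cancel (h1.trans h2.symm)
      have : Nat.card (Cfsg.Out (PSp 2 F)) ≤ Nat.card Bool := by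
        classical
        refine Nat.card_le_card_of_injective (fun x => decide (x = 1)) ?_
        intro x y hxy
        rcases hsub x with rfl | rfl <;> rcases hsub y with rfl | rfl
        · rfl
        · simp only [decide_true] at hxy
          exact (of_decide_eq_true hxy.symm).symm
        · simp only [decide_true] at hxy
          exact of_decide_eq_true hxy
        · rfl
      simpa using this
  have hcardeq : Nat.card (Cfsg.Out (PSp 2 F)) = 2 * f := le_antisymm hcard (hle.trans hle2)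
  refine ⟨isCyclic_of_orderOf_eq_card g ?_, hcardeq⟩
  exact le_antisymm hle2 (hcardeq.le.trans hle)

end Cfsg.Agent.H183.OutSp4
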