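import Mathlib
import Cfsg.Prelude.Def_Classical
import Cfsg.Agent.H573.Spor.Base
import Cfsg.Agent.LieClassical.HermSiegel
import Cfsg.Agent.LieClassical.SUBasic

/-!
# Heisenberg subgroups of rank two groups of Lie type of odd characteristic (helper183)

`HasHeis p G` : `G` contains elements `a, b, c` of `p`-power order with `a b = b a c`, `c ≠ 1`, `c` commuting with
`a` and `b`; then Sylow `p`-subgroups of `G` are not abelian.  Instances: `PSL₃(q)`, `PSU₃(q)` (odd characteristic).
-/

set_option autoImplicit false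

namespace Cfsg.Agent.H183.HgHeis

open Matrix Cfsg.Agent.LieClassical.HermSiegel Cfsg.Agent.LieClassical

/-- three elements of `p`-power order generating a group of class two -/
def HasHeis (p : ℕ) (G : Type*) [Group G] : Prop :=
  ∃ (a b c : G) (i j k : ℕ), a ^ p ^ i = 1 ∧ b ^ p ^ j = 1 ∧ c ^ p ^ k = 1 ∧ a * c = c * a ∧ b * c = c * b ∧
    a * b = b * a * c ∧ c ≠ 1

theorem HasHeis.not_comm {p : ℕ} [Fact p.Prime] {G : Type*} [Group G] [Finite G] (h : HasHeis p G) (P : Sylow p G) :
    ¬ IsMulCommutative (P : Subgroup G) := by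
  obtain ⟨a, b, c, i, j, k, ha, hb, hc, hac, hbc, hab, hne⟩ := h
  refine Cfsg.Agent.H573.not_comm_of_class_two ha hb hc hac hbc hab ?_ P
  intro h
  apply hne
  have h1 := hab
  rw [h] at h1
  exact (mul_eq_left.mp h1.symm)

theorem HasHeis.map {p : ℕ} {G H : Type*} [Group G] [Group H] (f : G →* H) {a b c : G} {i j k : ℕ}
    (ha : a ^ p ^ i = 1) (hb : b ^ p ^ j = 1) (hc : c ^ p ^ k = 1) (hac : a * c = c * a) (hbc : b * c = c * b)
    (hab : a * b = b * a * c) (hne : f c ≠ 1) : HasHeis p H :=
  ⟨f a, f b, f c, i, j, k, by rw [← map_pow, ha, map_one], by rw [← map_pow, hb, map_one],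
    by rw [← map_pow, hc, map_one], by rw [← map_mul, hac, map_mul], by rw [← map_mul, hbc, map_mul],
    by rw [← map_mul, hab, map_mul, map_mul], hne⟩

theorem HasHeis.of_equiv {p : ℕ} {G H : Type*} [Group G] [Group H] (e : G ≃* H) (h : HasHeis p H) : HasHeis p G := by
  obtain ⟨a, b, c, i, j, k, ha, hb, hc, hac, hbc, hab, hne⟩ := h
  exact HasHeis.map e.symm.toMonoidHom ha hb hc hac hbc hab (by simpa using hne)

section PSL
variable {F : Type*} [Field F]

/-- a transvection as an element of `SL` -/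
def tv (i j : Fin 3) (h : i ≠ j) (c : F) : SpecialLinearGroup (Fin 3) F :=
  ⟨transvection i j c, det_transvection_of_ne i j h c⟩

theorem tv_pow (i j : Fin 3) (h : i ≠ j) (c : F) (n : ℕ) : tv i j h c ^ n = tv i j h (n * c) := by
  induction n with
  | zero =>
    rw [pow_zero]
    apply Subtype.ext
    simp [tv]
  | succ n ih =>
    rw [pow_succ, ih]
    apply Subtype.ext
    change transvection i j _ * transvection i j _ = transvection i j _
    rw [transvection_mul_transvection_same (h := h)]
    congr 1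
    push_cast
    ring

theorem psl_three (p : ℕ) [Fact p.Prime] [CharP F p] :
    HasHeis p (ProjectiveSpecialLinearGroup (Fin 3) F) := by
  have hp : ∀ (i j : Fin 3) (h : i ≠ j), tv i j h (1 : F) ^ p ^ 1 = 1 := by
    intro i j h
    rw [pow_one, tv_pow, CharP.cast_eq_zero, zero_mul]
    apply Subtype.ext
    simp [tv]
  have h01 : (0 : Fin 3) ≠ 1 := by decide
  have h12 : (1 : Fin 3) ≠ 2 := by decide
  have h02 : (0 : Fin 3) ≠ 2 := by decide
  refine HasHeis.map (QuotientGroup.mk' _) (hp 0 1 h01) (hp 1 2 h12) (hp 0 2 h02) ?_ ?_ ?_ ?_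
  · apply Subtype.ext
    change transvection _ _ _ * transvection _ _ _ = transvection _ _ _ * transvection _ _ _
    ext i j
    fin_cases i <;> fin_cases j <;> simp [transvection, Matrix.mul_apply, Fin.sum_univ_three, Matrix.single, Matrix.one_apply]
  · apply Subtype.ext
    change transvection _ _ _ * transvection _ _ _ = transvection _ _ _ * transvection _ _ _
    ext i j
    fin_cases i <;> fin_cases j <;> simp [transvection, Matrix.mul_apply, Fin.sum_univ_three, Matrix.single, Matrix.one_apply]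
  · apply Subtype.ext
    change transvection _ _ _ * transvection _ _ _ = transvection _ _ _ * transvection _ _ _ * transvection _ _ _
    ext i j
    fin_cases i <;> fin_cases j <;> simp [transvection, Matrix.mul_apply, Fin.sum_univ_three, Matrix.single, Matrix.one_apply]
  · intro h
    have h1 : tv 0 2 h02 (1 : F) ∈ Subgroup.center (SpecialLinearGroup (Fin 3) F) := by
      rw [← QuotientGroup.eq_one_iff]
      exact h
    rw [Matrix.SpecialLinearGroup.mem_center_iff] at h1
    obtain ⟨r, -, hr⟩ := h1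
    have h2 := congrFun (congrFun hr 0) 2
    simp [tv, transvection, Matrix.single, Matrix.scalar_apply, Matrix.one_apply] at h2

end PSL

section PSU
variable {F : Type*} [Field F] [Fintype F] {q : ℕ}

omit [Fintype F] in
theorem mat_pow {n : ℕ} (g : SU n F q) (k : ℕ) : mat (g ^ k) = mat g ^ k := by
  induction k with
  | zero => simp [mat_one]
  | succ k ih => rw [pow_succ, mat_mul, ih, pow_succ]

theorem siegel_pow_p (hF : Fintype.card F = q ^ 2) (p : ℕ) [Fact p.Prime] [CharP F p] (hp : p ≠ 2) {u w : Fin 3 → F}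
    {μ : F} (h : IsSiegel q u w μ) : siegel hF u w μ h ^ p = 1 := by
  have h3 : 3 ≤ p := by
    have := (Fact.out : p.Prime).two_le
    omega
  apply mat_injective
  rw [mat_pow, mat_one]
  have hN : ∀ v : Fin 3 → F, (mat (siegel hF u w μ h) - 1) *ᵥ v = hermForm 3 F q v u • w +
      (μ * hermForm 3 F q v u - hermForm 3 F q v w) • u := by
    intro v
    rw [Matrix.sub_mulVec, Matrix.one_mulVec]
    have := act_siegel hF h v
    rw [act_def] at this
    rw [this]
    abel
  set N := mat (siegel hF u w μ h) - 1 with hNd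
  have hN3 : N * (N * N) = 0 := by
    apply Matrix.ext_of_mulVec_single
    intro i
    rw [← Matrix.mulVec_mulVec, ← Matrix.mulVec_mulVec, hN, hN, hN]
    simp [HermBasic.herm_add_left, HermBasic.herm_smul_left, h.iso, h.orth, h.orth' hF]
    rw [← neg_smul, HermBasic.herm_smul_left, HermBasic.herm_smul_left, h.iso, h.orth' hF]
    ext j
    simp
  have hNp : N ^ p = 0 := by
    obtain ⟨m, rfl⟩ : ∃ m, p = 3 + m := ⟨p - 3, by omega⟩
    rw [pow_add]
    have : N ^ 3 = 0 := by rw [pow_succ, pow_two, Matrix.mul_assoc]; exact hN3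
    rw [this, zero_mul]
  have h1 : mat (siegel hF u w μ h) = 1 + N := by rw [hNd]; abel
  rw [h1, add_pow_char_of_commute p (Commute.one_left N), one_pow, hNp, add_zero]

/-- a nonzero transvection is not central -/
theorem transv_not_mem (hF : Fintype.card F = q ^ 2) {u : Fin 3 → F} (hu : u ≠ 0) {ν : F} (hν : ν ≠ 0)
    (h : IsSiegel q u 0 ν) : siegel hF u 0 ν h ∉ Subgroup.center (SU 3 F q) := by
  intro hc
  obtain ⟨c, hc1, hc2⟩ := SUBasic.exists_norm_one (F := F) hF
  have hoff : ∀ i j : Fin 3, i ≠ j → mat (siegel hF u 0 ν h) i j = 0 := fun i j hij =>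
    SUBasic.offdiag_eq_zero (le_refl 3) hc1 hc2 hc hij
  have hdiag : ∀ i j : Fin 3, mat (siegel hF u 0 ν h) i i = mat (siegel hF u 0 ν h) j j := fun i j =>
    SUBasic.diag_eq (le_refl 3) hc i j
  obtain ⟨d, hd⟩ : ∃ d : F, ∀ v : Fin 3 → F, act (siegel hF u 0 ν h) v = d • v := by
    refine ⟨mat (siegel hF u 0 ν h) 0 0, fun v => ?_⟩
    ext i
    rw [act_def]
    simp only [Matrix.mulVec, dotProduct, Pi.smul_apply, smul_eq_mul]
    rw [Finset.sum_eq_single i (fun j _ hji => by rw [hoff i j (Ne.symm hji), zero_mul]) (by simp), hdiag i 0]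
  have h1 : d = 1 := by
    have h2 := hd u
    rw [act_siegel_self] at h2
    obtain ⟨i, hi⟩ := Function.ne_iff.mp hu
    have h3 := congrFun h2 i
    rw [Pi.smul_apply, smul_eq_mul] at h3
    have h4 : (d - 1) * u i = 0 := by rw [sub_mul, one_mul, ← h3, sub_self]
    rcases mul_eq_zero.mp h4 with h5 | h5
    · exact sub_eq_zero.mp h5
    · exact absurd h5 hi
  -- then `h(v, u) = 0` for all `v`
  apply hu
  have h5 : ∀ v : Fin 3 → F, hermForm 3 F q v u = 0 := by
    intro v
    have h2 := hd v
    rw [act_siegel, h1, one_smul, smul_zero, add_zero, HermBasic.herm_zero_right hF, sub_zero] at h2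
    have h6 : (ν * hermForm 3 F q v u) • u = 0 := by
      rw [add_eq_left] at h2
      exact h2
    rcases smul_eq_zero.mp h6 with h7 | h7
    · rcases mul_eq_zero.mp h7 with h8 | h8
      · exact absurd h8 hν
      · exact h8
    · exact absurd h7 hu
  ext i
  have h6 := h5 (Pi.single i 1)
  rw [HermBasic.herm_def] at h6
  rw [Finset.sum_eq_single i (fun j _ hji => by simp [hji]) (by simp)] at h6
  simp only [Pi.single_eq_same, one_mul] at h6
  exact (pow_eq_zero_iff (by have := HermBasic.two_le hF; omega)).mp h6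

theorem psu_three (hF : Fintype.card F = q ^ 2) (p : ℕ) [Fact p.Prime] [CharP F p] (hp : p ≠ 2) :
    HasHeis p (PSU 3 F q) := by
  have hq0 : q ≠ 0 := by have := HermBasic.two_le hF; omega
  have hm1 : ((-1 : F)) ^ q = -1 := by rw [HermBasic.neg_pow_q hF, one_pow]
  obtain ⟨s, hs⟩ := HermBasic.exists_norm_eq hF hm1
  obtain ⟨μ, hμ⟩ := HermBasic.exists_trace_eq hF hm1
  obtain ⟨l, hl⟩ := HermBasic.exists_not_fixed hF
  obtain ⟨μ', hμ'⟩ := HermBasic.exists_trace_eq hF (c := -(l * l ^ q))
    (by rw [HermBasic.neg_pow_q hF, HermBasic.norm_pow_q hF])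
  set u : Fin 3 → F := ![1, s, 0] with hu
  set w : Fin 3 → F := ![0, 0, 1] with hw
  set w' : Fin 3 → F := ![0, 0, l] with hw'
  have huu : hermForm 3 F q u u = 0 := by
    rw [HermBasic.herm_def, Fin.sum_univ_three]
    simp [hu, hq0, hs]
  have hwu : hermForm 3 F q w u = 0 := by
    rw [HermBasic.herm_def, Fin.sum_univ_three]
    simp [hu, hw, hq0]
  have hwu' : hermForm 3 F q w' u = 0 := by
    rw [HermBasic.herm_def, Fin.sum_univ_three]
    simp [hu, hw', hq0]
  have hww : hermForm 3 F q w w = 1 := by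
    rw [HermBasic.herm_def, Fin.sum_univ_three]
    simp [hw]
  have hww' : hermForm 3 F q w w' = l ^ q := by
    rw [HermBasic.herm_def, Fin.sum_univ_three]
    simp [hw, hw']
  have hw'w : hermForm 3 F q w' w = l := by
    rw [HermBasic.herm_def, Fin.sum_univ_three]
    simp [hw, hw']
  have hw'w' : hermForm 3 F q w' w' = l * l ^ q := by
    rw [HermBasic.herm_def, Fin.sum_univ_three]
    simp [hw']
  have ha : IsSiegel q u w μ := ⟨huu, hwu, by rw [hww, hμ]; ring⟩
  have hb : IsSiegel q u w' μ' := ⟨huu, hwu', by rw [hw'w', hμ']; ring⟩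
  have hc : IsSiegel q u 0 (l ^ q - l) := ⟨huu, HermBasic.herm_zero_left _, by
    rw [HermBasic.herm_zero_left, HermBasic.sub_pow_q hF, HermBasic.pow_q_pow_q hF]; ring⟩
  have hu0 : u ≠ 0 := by
    intro h
    have := congrFun h 0
    simp [hu] at this
  refine HasHeis.map (i := 1) (j := 1) (k := 1) (QuotientGroup.mk' (Subgroup.center (SU 3 F q)))
    (a := siegel hF u w μ ha) (b := siegel hF u w' μ' hb) (c := siegel hF u 0 (l ^ q - l) hc)
    (by rw [pow_one]; exact siegel_pow_p hF p hp ha) (by rw [pow_one]; exact siegel_pow_p hF p hp hb)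
    (by rw [pow_one]; exact siegel_pow_p hF p hp hc) ?_ ?_ ?_ ?_
  · rw [siegel_mul, siegel_mul]
    refine siegel_congr hF _ _ rfl (by rw [add_zero, zero_add]) ?_
    rw [HermBasic.herm_zero_left, HermBasic.herm_zero_right hF]
    ring
  · rw [siegel_mul, siegel_mul]
    refine siegel_congr hF _ _ rfl (by rw [add_zero, zero_add]) ?_
    rw [HermBasic.herm_zero_left, HermBasic.herm_zero_right hF]
    ring
  · rw [siegel_mul, siegel_mul, siegel_mul]
    refine siegel_congr hF _ _ rfl (by rw [add_zero, add_comm]) ?_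
    rw [HermBasic.herm_zero_left, hw'w, hww']
    ring
  · intro h
    have h1 : siegel hF u 0 (l ^ q - l) hc ∈ Subgroup.center (SU 3 F q) := by
      rw [← QuotientGroup.eq_one_iff]
      exact h
    exact transv_not_mem hF hu0 (sub_ne_zero.mpr hl) hc h1

end PSU

end Cfsg.Agent.H183.HgHeis
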