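import Mathlib
import Cfsg.Agent.H518.DghpPrim

/-!
# Arithmetic for the row `PSp_4(q)` of S5773 (helper183)
-/

set_option autoImplicit false

namespace Cfsg.Agent.H183.NF4

open Cfsg.Agent.H518.DghpPrim

/-- An odd prime dividing `q + 1`: `q` has order two. -/
theorem orderOf_eq_two {q l : ℕ} (hl : l.Prime) (hl2 : l ≠ 2) (h : l ∣ q + 1) : orderOf (q : ZMod l) = 2 := by
  have := Fact.mk hl
  have h1 : (q : ZMod l) = -1 := by
    rw [← ZMod.natCast_eq_zero_iff] at h
    push_cast at h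
    exact eq_neg_of_add_eq_zero_left h
  rw [h1]
  refine orderOf_eq_prime (by norm_num) ?_
  intro h2
  have h3 : ((2 : ℕ) : ZMod l) = 0 := by
    push_cast
    rw [← sub_eq_zero] at h2
    linear_combination -h2
  rw [ZMod.natCast_eq_zero_iff] at h3
  exact hl2 ((Nat.prime_dvd_prime_iff_eq hl Nat.prime_two).1 h3)

/-- An odd prime dividing `q ^ 2 + 1`: `q` has order four. -/
theorem orderOf_eq_four {q r : ℕ} (hr : r.Prime) (hr2 : r ≠ 2) (h : r ∣ q ^ 2 + 1) : orderOf (q : ZMod r) = 4 := by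
  have := Fact.mk hr
  have h1 : (q : ZMod r) ^ 2 = -1 := by
    rw [← ZMod.natCast_eq_zero_iff] at h
    push_cast at h
    exact eq_neg_of_add_eq_zero_left h
  have h2 : ¬ (q : ZMod r) ^ 2 ^ 1 = 1 := by
    rw [pow_one, h1]
    intro h2
    have h3 : ((2 : ℕ) : ZMod r) = 0 := by
      push_cast
      rw [← sub_eq_zero] at h2
      linear_combination -h2
    rw [ZMod.natCast_eq_zero_iff] at h3
    exact hr2 ((Nat.prime_dvd_prime_iff_eq hr Nat.prime_two).1 h3)
  have h3 : (q : ZMod r) ^ 2 ^ (1 + 1) = 1 := by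
    have : (q : ZMod r) ^ 2 ^ (1 + 1) = ((q : ZMod r) ^ 2) ^ 2 := by ring
    rw [this, h1]
    norm_num
  have h4 := orderOf_eq_prime_pow h2 h3
  rw [h4]
  norm_num

/-- For an odd prime `l` dividing `p ^ f + 1`, the `l`-part of `f` is smaller than that of `p ^ f + 1`. -/
theorem factorization_lt {p f l : ℕ} (hl : l.Prime) (hl2 : l ≠ 2) (h : l ∣ p ^ f + 1) :
    f.factorization l < (p ^ f + 1).factorization l := by
  have := Fact.mk hl
  obtain ⟨f', hf'⟩ := Nat.ordProj_dvd f l
  set b := f.factorization l with hb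
  have hodd : Odd (l ^ b) := (hl.odd_of_ne_two hl2).pow
  have hpl : ¬ l ∣ p ^ f' := by
    intro h1
    have h2 : l ∣ p ^ f := by
      rw [hf', mul_comm, pow_mul]
      exact dvd_pow h1 (pow_pos hl.pos _).ne'
    exact hl.one_lt.ne' (Nat.dvd_one.1 ((Nat.dvd_add_right h2).1 h))
  have h1 : l ∣ p ^ f' + 1 := by
    rw [← ZMod.natCast_eq_zero_iff] at h ⊢
    rw [hf', mul_comm, pow_mul] at h
    push_cast at h ⊢
    have key : ∀ (n : ℕ) (x : ZMod l), x ^ l ^ n = x := by
      intro n x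
      induction n with
      | zero => rw [pow_zero, pow_one]
      | succ n ih => rw [pow_succ, pow_mul, ih, ZMod.pow_card]
    rwa [key] at h
  have h2 := padicValNat.pow_add_pow (x := p ^ f') (y := 1) (p := l) (hl.odd_of_ne_two hl2) h1 hpl hodd
  rw [one_pow, ← pow_mul, mul_comm f', ← hf', padicValNat.prime_pow] at h2
  rw [Nat.factorization_def _ hl, h2]
  have h3 : 1 ≤ padicValNat l (p ^ f' + 1) := one_le_padicValNat_of_dvd (Nat.succ_ne_zero _) h1
  omega

/-- If `p ^ f + 1` is a power of two, then `f = 1`. -/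
theorem eq_one_of_forall {p f : ℕ} (hp : p.Prime) (hf : 1 ≤ f) (h4 : 4 ≤ p ^ f)
    (h : ∀ l : ℕ, l.Prime → l ≠ 2 → ¬ l ∣ p ^ f + 1) : f = 1 ∧ p ≠ 2 := by
  have hp2 : p ≠ 2 := by
    rintro rfl
    have h1 : (2 ^ f + 1) ≠ 1 := by
      have : 0 < 2 ^ f := by positivity
      omega
    have h2 := Nat.minFac_prime h1
    refine h _ h2 ?_ (Nat.minFac_dvd _)
    intro h3
    have h5 := Nat.minFac_dvd (2 ^ f + 1)
    rw [h3] at h5
    have h6 : 2 ∣ 2 ^ f := dvd_pow_self 2 (by omega)
    have h7 := (Nat.dvd_add_right h6).1 h5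
    omega
  refine ⟨?_, hp2⟩
  by_contra hne
  obtain ⟨r, hr, he⟩ := Cfsg.Agent.Lib.Zsigmondy.exists_prime_orderOf (a := p) (n := 2 * f) hp.two_le (by omega)
    (fun h => by omega) (fun h => hp2 h.1)
  have h1 := lt_prime hr he (by omega)
  exact h r hr (by omega) (dvd_pow_add_one hr hp.one_lt.le (by omega) he)

/-- A number with no odd prime divisors is a power of two. -/
theorem eq_two_pow {n : ℕ} (hn : n ≠ 0) (h : ∀ l : ℕ, l.Prime → l ≠ 2 → ¬ l ∣ n) : ∃ a, n = 2 ^ a :=
  ⟨_, Nat.eq_prime_pow_of_unique_prime_dvd hn fun {d} hd hdn => by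
    by_contra h2
    exact h d hd h2 hdn⟩

/-- For `q + 1 = 2 ^ a`, `q ≥ 7`, some prime power greater than `16` exactly divides `q ^ 2 + 1`. -/
theorem exists_large {q a : ℕ} (hq : 7 ≤ q) (ha : q + 1 = 2 ^ a) :
    ∃ r : ℕ, r.Prime ∧ r ≠ 2 ∧ r ∣ q ^ 2 + 1 ∧ 16 < r ^ (q ^ 2 + 1).factorization r := by
  by_contra hcon
  push Not at hcon
  have ha3 : 3 ≤ a := by
    by_contra h
    have : 2 ^ a ≤ 2 ^ 2 := Nat.pow_le_pow_right two_pos (by omega)
    omega
  -- `q ^ 2 + 1 = 2 n`, `n` odd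
  obtain ⟨b, hb⟩ : ∃ b, 2 ^ a = 4 * b := by
    obtain ⟨c, rfl⟩ := Nat.exists_eq_add_of_le (show 2 ≤ a by omega)
    exact ⟨2 ^ c, by rw [pow_add]; norm_num⟩
  have hb2 : 2 ≤ b := by omega
  obtain ⟨c, rfl⟩ := Nat.exists_eq_add_of_le hb2
  have hqc : q = 4 * c + 7 := by omega
  have hn : q ^ 2 + 1 = 2 * (8 * c ^ 2 + 28 * c + 25) := by
    rw [hqc]; ring
  set n := 8 * c ^ 2 + 28 * c + 25 with hndef
  have hn0 : n ≠ 0 := by omega
  have hnodd : ¬ 2 ∣ n := by
    intro h
    have h1 : 2 ∣ 8 * c ^ 2 + 28 * c + 24 := ⟨4 * c ^ 2 + 14 * c + 12, by ring⟩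
    have h2 : n = (8 * c ^ 2 + 28 * c + 24) + 1 := by omega
    rw [h2] at h
    have := (Nat.dvd_add_right h1).1 h
    omega
  have hdvd : n ∣ 65 := by
    rw [← Nat.factorization_le_iff_dvd hn0 (by norm_num)]
    intro t
    by_cases ht : t.Prime ∧ t ∣ n
    · obtain ⟨ht, htn⟩ := ht
      have ht2 : t ≠ 2 := by
        rintro rfl
        exact hnodd htn
      have htq : t ∣ q ^ 2 + 1 := by
        rw [hn]
        exact Dvd.dvd.mul_left htn 2
      have h16 := hcon t ht ht2 htq
      have hfac : (q ^ 2 + 1).factorization t = n.factorization t := by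
        rw [hn, Nat.factorization_mul two_ne_zero hn0, Finsupp.add_apply, Nat.prime_two.factorization,
          Finsupp.single_eq_of_ne ht2, zero_add]
      rw [hfac] at h16
      have h1 : 1 ≤ n.factorization t := (ht.dvd_iff_one_le_factorization hn0).1 htn
      have h4 : 4 ∣ t - 1 := dvd_pred ht (orderOf_eq_four ht ht2 htq) (by norm_num)
      have ht16 : t ≤ 16 := by
        calc t = t ^ 1 := (pow_one t).symm
          _ ≤ t ^ n.factorization t := Nat.pow_le_pow_right ht.pos h1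
          _ ≤ 16 := h16
      have hv1 : n.factorization t = 1 := by
        by_contra hne
        have h5 : t ^ 2 ≤ t ^ n.factorization t := Nat.pow_le_pow_right ht.pos (by omega)
        have h6 : 5 ≤ t := by
          have := ht.two_le
          omega
        nlinarith
      rw [hv1]
      have h65 : (65 : ℕ) ≠ 0 := by norm_num
      rw [← ht.dvd_iff_one_le_factorization h65]
      interval_cases t <;> first | omega | norm_num at ht
    · have h0 : n.factorization t = 0 := by
        rw [Nat.factorization_eq_zero_iff]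
        by_cases htp : t.Prime
        · exact Or.inr (Or.inl fun h => ht ⟨htp, h⟩)
        · exact Or.inl htp
      rw [h0]
      exact Nat.zero_le _
  have h1 := Nat.le_of_dvd (by norm_num) hdvd
  have hc : c ≤ 1 := by nlinarith
  interval_cases c
  · norm_num [hndef] at hdvd
  · norm_num [hndef] at hdvd

end Cfsg.Agent.H183.NF4
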