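import Mathlib
import Cfsg.Agent.H518.DghpFix

/-!
# Symplectic representations of dimension four (helper183, S5773 row `PSp_4(q)`)

`Dat F V G` : a faithful representation of `G` on the four-dimensional symplectic space `V`.
`norm_fix` : an elementary abelian group of rank two has a nontrivial element with nonzero fixed vectors.
-/

set_option autoImplicit false

namespace Cfsg.Agent.H183.NF4

open Module Cfsg.Agent.H518.DghpFix

universe u v w

/-- A faithful symplectic representation of dimension four. -/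
structure Dat (F : Type u) [Field F] (V : Type v) [AddCommGroup V] [Module F V] (G : Type w) [Group G] where
  /-- the representation -/
  ρ : G →* (V →ₗ[F] V)
  inj : Function.Injective ρ
  /-- the form -/
  B : V →ₗ[F] V →ₗ[F] F
  alt : ∀ v, B v v = 0
  nd : ∀ v, (∀ w, B v w = 0) → v = 0
  inv : ∀ g v w, B (ρ g v) (ρ g w) = B v w
  dim : finrank F V = 4

section Norm

variable {F : Type u} [Field F] {V : Type v} [AddCommGroup V] [Module F V]

/-- The norm of an element. -/
theorem norm_mem_fix {l : ℕ} {a : V →ₗ[F] V} (ha : a ^ l = 1) (v : V) :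
    (∑ k ∈ Finset.range l, a ^ k) v ∈ fixS a := by
  rw [mem_fixS]
  have h1 : a * (∑ k ∈ Finset.range l, a ^ k) = ∑ k ∈ Finset.range l, a ^ k := by
    have h2 := Finset.sum_range_succ (fun k => a ^ k) l
    have h3 := Finset.sum_range_succ' (fun k => a ^ k) l
    rw [h2] at h3
    rw [ha, pow_zero] at h3
    have h4 := add_right_cancel h3
    rw [Finset.mul_sum, h4]
    exact Finset.sum_congr rfl fun k _ => (pow_succ' a k).symm
  have h2 := congrArg (fun f : V →ₗ[F] V => f v) h1
  exact h2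

/-- Two commuting elements of order dividing `l` acting on a nonzero invariant subspace: one of the elements `x y ^ i`,
`y ^ k` (`0 < k < l`) has nonzero fixed vectors. -/
theorem norm_fix {l : ℕ} (hlF : (l : F) ≠ 0) {x y : V →ₗ[F] V} (hxy : x * y = y * x)
    (hx : x ^ l = 1) (hy : y ^ l = 1) (W : Submodule F V) (hWx : ∀ v ∈ W, x v ∈ W) (hWy : ∀ v ∈ W, y v ∈ W)
    (hW : W ≠ ⊥) : (∃ i < l, W ⊓ fixS (x * y ^ i) ≠ ⊥) ∨ ∃ k, 0 < k ∧ k < l ∧ W ⊓ fixS (y ^ k) ≠ ⊥ := by
  classical
  by_contra hcon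
  push Not at hcon
  obtain ⟨h1, h2⟩ := hcon
  obtain ⟨v, hv, hv0⟩ := W.ne_bot_iff.1 hW
  have hpow : ∀ (a : V →ₗ[F] V), (∀ v ∈ W, a v ∈ W) → ∀ k : ℕ, ∀ v ∈ W, (a ^ k) v ∈ W := by
    intro a ha k
    induction k with
    | zero => intro v hv; exact hv
    | succ k ih => intro v hv; rw [pow_succ']; exact ha _ (ih v hv)
  have hyi : ∀ i : ℕ, ∀ v ∈ W, (y ^ i) v ∈ W := hpow y hWy
  have hN : ∀ a : V →ₗ[F] V, a ^ l = 1 → (∀ v ∈ W, a v ∈ W) → W ⊓ fixS a = ⊥ → ∀ v ∈ W,
      (∑ k ∈ Finset.range l, a ^ k) v = 0 := by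
    intro a ha haW hab v hv
    have h3 : (∑ k ∈ Finset.range l, a ^ k) v ∈ W ⊓ fixS a := by
      refine ⟨?_, norm_mem_fix ha v⟩
      rw [LinearMap.sum_apply]
      exact W.sum_mem fun k _ => hpow a haW k v hv
    rw [hab, Submodule.mem_bot] at h3
    exact h3
  have hc : Commute x y := hxy
  have h3 : ∀ i < l, (∑ k ∈ Finset.range l, (x * y ^ i) ^ k) v = 0 := fun i hi => by
    refine hN _ ?_ (fun v hv => by rw [Module.End.mul_apply]; exact hWx _ (hyi i v hv)) (h1 i hi) v hv
    rw [(hc.pow_right i).mul_pow, hx, one_mul, ← pow_mul, mul_comm, pow_mul, hy, one_pow]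
  have h4 : ∀ k, 0 < k → k < l → (∑ i ∈ Finset.range l, (y ^ k) ^ i) v = 0 := fun k hk hkl => by
    refine hN _ ?_ (hyi k) (h2 k hk hkl) v hv
    rw [← pow_mul, mul_comm, pow_mul, hy, one_pow]
  have h5 : ∑ i ∈ Finset.range l, (∑ k ∈ Finset.range l, (x * y ^ i) ^ k) v = (l : F) • v := by
    have h6 : ∀ i ∈ Finset.range l, (∑ k ∈ Finset.range l, (x * y ^ i) ^ k) v =
        ∑ k ∈ Finset.range l, (x ^ k) (((y ^ k) ^ i) v) := by
      intro i _
      rw [LinearMap.sum_apply]
      refine Finset.sum_congr rfl fun k _ => ?_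
      rw [(hc.pow_right i).mul_pow, ← pow_mul, mul_comm i k, pow_mul]
      rfl
    rw [Finset.sum_congr rfl h6, Finset.sum_comm]
    have h7 : ∀ k ∈ Finset.range l, ∑ i ∈ Finset.range l, (x ^ k) (((y ^ k) ^ i) v) =
        if k = 0 then (l : F) • v else 0 := by
      intro k hk
      rw [← map_sum, ← LinearMap.sum_apply]
      split_ifs with h0
      · subst h0
        simp [Nat.cast_smul_eq_nsmul]
      · rw [h4 k (Nat.pos_of_ne_zero h0) (Finset.mem_range.1 hk), map_zero]
    rw [Finset.sum_congr rfl h7, Finset.sum_ite_eq' (Finset.range l) 0]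
    rw [if_pos]
    rw [Finset.mem_range]
    rcases Nat.eq_zero_or_pos l with h | h
    · exfalso
      apply hlF
      rw [h, Nat.cast_zero]
    · exact h
  rw [Finset.sum_eq_zero fun i hi => h3 i (Finset.mem_range.1 hi)] at h5
  exact hv0 ((smul_eq_zero.1 h5.symm).resolve_left hlF)

end Norm

end Cfsg.Agent.H183.NF4
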