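import Mathlib
import Cfsg.Agent.H518.DghpSep
import Cfsg.Agent.H183.NfFrame

/-!
# The centralizer of an irreducible element (helper183, S5773 row `PSp_4(q)`)

`pow_eq_one_of_comm` : an element of `Sp_4(q)` commuting with an irreducible element `x` with `x ^ (q ^ 2 + 1) = 1` satisfies
`y ^ (q ^ 2 + 1) = 1`.
`sep` : separation of `r ∣ q ^ 2 + 1` and `l ∣ q + 1`.
-/

set_option autoImplicit false

namespace Cfsg.Agent.H183.NF4

open Module Cfsg.Agent.H518.DghpFix Cfsg.Agent.H518.DghpSep Cfsg.Agent.H518.Dghp Polynomial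

universe u v w

variable {F : Type u} [Field F] {V : Type v} [AddCommGroup V] [Module F V] {G : Type w} [Group G]

namespace Dat

variable (D : Dat F V G)

/-- Adjoints of polynomials. -/
theorem B_aeval (x : G) (P : F[X]) (v w : V) : D.B (aeval (D.ρ x) P v) w = D.B v (aeval (D.ρ x⁻¹) P w) := by
  have h0 : ∀ g : G, ∀ v w, D.B (D.ρ g v) w = D.B v (D.ρ g⁻¹ w) := fun g v w => by
    have h := D.inv g v (D.ρ g⁻¹ w)
    rwa [D.ρ_apply_inv] at h
  induction P using Polynomial.induction_on' with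
  | add p q hp hq =>
    rw [map_add, map_add, LinearMap.add_apply, LinearMap.add_apply, map_add, map_add, LinearMap.add_apply, hp, hq]
  | monomial n a =>
    rw [aeval_monomial, aeval_monomial, ← map_pow, ← map_pow, Module.algebraMap_end_eq_smul_id]
    simp only [Module.End.mul_apply, LinearMap.smul_apply, LinearMap.id_apply, map_smul]
    rw [h0, inv_pow]

variable [Fintype F] [FiniteDimensional F V]

omit [Fintype F] [FiniteDimensional F V] in
/-- Elements commuting with an irreducible element are polynomials in it. -/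
theorem exists_aeval {x y : G} (hirr : ∀ W : Submodule F V, (∀ v ∈ W, D.ρ x v ∈ W) → W = ⊥ ∨ W = ⊤)
    (hxy : x * y = y * x) : ∃ P : F[X], aeval (D.ρ x) P = D.ρ y := by
  have hV : ∃ v : V, v ≠ 0 := by
    by_contra hcon
    push Not at hcon
    have h1 : finrank F V = 0 := by
      have : Subsingleton V := ⟨fun a b => by rw [hcon a, hcon b]⟩
      exact finrank_zero_of_subsingleton
    rw [D.dim] at h1
    omega
  obtain ⟨v, hv⟩ := hV
  let f : F[X] →ₗ[F] V := (LinearMap.applyₗ v).comp (aeval (D.ρ x) : F[X] →ₐ[F] (V →ₗ[F] V)).toLinearMap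
  have hf : ∀ P : F[X], f P = aeval (D.ρ x) P v := fun P => rfl
  have h1 : LinearMap.range f = ⊤ := by
    refine (hirr _ ?_).resolve_left ?_
    · rintro _ ⟨P, rfl⟩
      refine ⟨X * P, ?_⟩
      rw [hf, hf, map_mul, aeval_X, Module.End.mul_apply]
    · intro h
      have h2 : v ∈ LinearMap.range f := ⟨1, by rw [hf, map_one, Module.End.one_apply]⟩
      rw [h, Submodule.mem_bot] at h2
      exact hv h2
  obtain ⟨P, hP⟩ : D.ρ y v ∈ LinearMap.range f := by rw [h1]; trivial
  rw [hf] at hP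
  refine ⟨P, ?_⟩
  have hxP : D.ρ x * aeval (D.ρ x) P = aeval (D.ρ x) P * D.ρ x := by
    have h2 := congrArg (aeval (D.ρ x)) (mul_comm X P)
    rwa [map_mul, map_mul, aeval_X] at h2
  have hxy' : D.ρ x * D.ρ y = D.ρ y * D.ρ x := by rw [← map_mul, hxy, map_mul]
  have h2 : LinearMap.ker (aeval (D.ρ x) P - D.ρ y) = ⊤ := by
    refine (hirr _ ?_).resolve_left ?_
    · intro w hw
      rw [LinearMap.mem_ker] at hw ⊢
      have h3 : (aeval (D.ρ x) P - D.ρ y) * D.ρ x = D.ρ x * (aeval (D.ρ x) P - D.ρ y) := by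
        rw [sub_mul, mul_sub, hxP, hxy']
      have h4 := congrArg (fun g : V →ₗ[F] V => g w) h3
      simp only [Module.End.mul_apply] at h4
      rw [h4, hw, map_zero]
    · intro h
      have h3 : v ∈ LinearMap.ker (aeval (D.ρ x) P - D.ρ y) := by
        rw [LinearMap.mem_ker, LinearMap.sub_apply, hP, sub_self]
      rw [h, Submodule.mem_bot] at h3
      exact hv h3
  rw [LinearMap.ker_eq_top, sub_eq_zero] at h2
  exact h2

omit [FiniteDimensional F V] in
theorem aeval_pow_card (a : V →ₗ[F] V) (P : F[X]) : (aeval a P) ^ Fintype.card F = aeval (a ^ Fintype.card F) P := by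
  rw [← map_pow, ← FiniteField.expand_card, expand_aeval]

omit [FiniteDimensional F V] in
theorem pow_eq_one_of_comm {x y : G} (hirr : ∀ W : Submodule F V, (∀ v ∈ W, D.ρ x v ∈ W) → W = ⊥ ∨ W = ⊤)
    (hx : x ^ (Fintype.card F ^ 2 + 1) = 1) (hxy : x * y = y * x) : y ^ (Fintype.card F ^ 2 + 1) = 1 := by
  obtain ⟨P, hP⟩ := D.exists_aeval hirr hxy
  have h1 : aeval (D.ρ x⁻¹) P = D.ρ y⁻¹ := by
    ext w
    have h2 : ∀ v, D.B v (aeval (D.ρ x⁻¹) P w) = D.B v (D.ρ y⁻¹ w) := fun v => by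
      rw [← D.B_aeval, hP]
      have h := D.inv y v (D.ρ y⁻¹ w)
      rwa [D.ρ_apply_inv] at h
    rw [← sub_eq_zero]
    refine D.nd _ fun v => ?_
    rw [D.B_swap, map_sub, h2, sub_self, neg_zero]
  have h3 : (D.ρ y) ^ (Fintype.card F ^ 2) = D.ρ y⁻¹ := by
    rw [pow_two, pow_mul, ← hP, aeval_pow_card, aeval_pow_card, ← h1]
    congr 2
    rw [← pow_mul, ← pow_two, ← map_pow]
    congr 1
    rw [eq_inv_iff_mul_eq_one, ← pow_succ]
    exact hx
  apply D.inj
  rw [pow_succ, map_mul, map_pow, h3, ← map_mul, inv_mul_cancel]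

/-- Irreducibility of elements of order `r`. -/
theorem irr_of_order {r : ℕ} (hr : r.Prime) (ho : orderOf ((Fintype.card F : ℕ) : ZMod r) = 4) {x : G}
    (hx : orderOf x = r) : ∀ W : Submodule F V, (∀ v ∈ W, D.ρ x v ∈ W) → W = ⊥ ∨ W = ⊤ := by
  intro W hW
  have hrF : ¬ r ∣ Fintype.card F := by
    intro h
    have := Fact.mk hr
    rw [(ZMod.natCast_eq_zero_iff _ _).2 h, orderOf_zero] at ho
    omega
  refine invariant_eq (k := 1) hr hrF (by rw [pow_one]; exact pow_eq_one_of_orderOf D.ρ hx)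
    (ne_one_of_orderOf D.ρ D.inj hr hx) (by rw [ho, D.dim]) W hW

/-- `q ^ 2 + 1` is divisible by `r`. -/
theorem dvd_sq_add_one {q r : ℕ} (hr : r.Prime) (ho : orderOf (q : ZMod r) = 4) : r ∣ q ^ 2 + 1 := by
  have := Fact.mk hr
  rw [← ZMod.natCast_eq_zero_iff]
  push_cast
  have h1 : ((q : ZMod r) ^ 2) ^ 2 = 1 := by
    have h0 := pow_orderOf_eq_one (q : ZMod r)
    rw [ho] at h0
    rw [← pow_mul]
    exact h0
  have h2 : (q : ZMod r) ^ 2 ≠ 1 := by
    intro h
    have := orderOf_dvd_of_pow_eq_one h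
    rw [ho] at this
    omega
  rcases sq_eq_one_iff.1 h1 with h | h
  · exact absurd h h2
  · rw [h, neg_add_cancel]

end Dat

end Cfsg.Agent.H183.NF4
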