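import Mathlib
import Cfsg.Agent.H183.NfFrame

/-!
# The `p`-subgroups normalizing a frame (helper183, S5773 row `PSp_4(q)`)
-/

set_option autoImplicit false

namespace Cfsg.Agent.H183.NF4

open Module Cfsg.Agent.H518.DghpFix

universe u v w

variable {F : Type u} [Field F] {V : Type v} [AddCommGroup V] [Module F V] {G : Type w} [Group G]

namespace Dat

/-- A `p`-group has nonzero fixed vectors on nonzero invariant subspaces. -/
theorem exists_fixed [Fintype F] [FiniteDimensional F V] (D : Dat F V G) {p : ℕ} (hp : p.Prime)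
    (hpF : p ∣ Fintype.card F) {U : Subgroup G} [Finite U] (hU : IsPGroup p U) (X : Submodule F V)
    (hX : ∀ u ∈ U, ∀ v ∈ X, D.ρ u v ∈ X) (hX0 : X ≠ ⊥) : ∃ v ∈ X, v ≠ 0 ∧ ∀ u ∈ U, D.ρ u v = v := by
  have : Finite F := Finite.of_fintype F
  have : Finite V := Module.finite_of_finite F
  have hpf : Fact p.Prime := ⟨hp⟩
  let _ : MulAction U X :=
    { smul := fun m v => ⟨D.ρ m v, hX m m.2 v v.2⟩
      one_smul := fun v => by
        apply Subtype.ext
        change D.ρ ((1 : U) : G) v = v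
        rw [Subgroup.coe_one, map_one]
        rfl
      mul_smul := fun a b v => by
        apply Subtype.ext
        change D.ρ ((a * b : U) : G) v = D.ρ a (D.ρ b v)
        rw [Subgroup.coe_mul, map_mul]
        rfl }
  have hdvd : p ∣ Nat.card X := by
    rw [Module.natCard_eq_pow_finrank (K := F) (V := X), Nat.card_eq_fintype_card]
    exact dvd_pow hpF fun h => hX0 (Submodule.finrank_eq_zero.1 h)
  have h0 : (0 : X) ∈ MulAction.fixedPoints U X := fun m => Subtype.ext (map_zero (D.ρ m))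
  obtain ⟨b, hb, hb0⟩ := hU.exists_fixed_point_of_prime_dvd_card_of_fixed_point X hdvd h0
  exact ⟨b, b.2, fun h => hb0 (Subtype.ext h.symm), fun u hu => congrArg Subtype.val (hb ⟨u, hu⟩)⟩

/-- The fixed space of a subgroup. -/
def fixU (D : Dat F V G) (U : Subgroup G) : Submodule F V where
  carrier := {v | ∀ u ∈ U, D.ρ u v = v}
  zero_mem' := fun u _ => map_zero _
  add_mem' := fun {a b} ha hb u hu => by rw [map_add, ha u hu, hb u hu]
  smul_mem' := fun c a ha u hu => by rw [map_smul, ha u hu]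

theorem mem_fixU {D : Dat F V G} {U : Subgroup G} {v : V} : v ∈ D.fixU U ↔ ∀ u ∈ U, D.ρ u v = v := Iff.rfl

theorem fixU_invariant {D : Dat F V G} {U : Subgroup G} {g : G} (hg : ∀ u ∈ U, g⁻¹ * u * g ∈ U) :
    ∀ v ∈ D.fixU U, D.ρ g v ∈ D.fixU U := by
  intro v hv u hu
  have h1 : u * g = g * (g⁻¹ * u * g) := by group
  rw [← Module.End.mul_apply, ← map_mul, h1, map_mul, Module.End.mul_apply, hv _ (hg u hu)]

theorem eq_bot_of_fixU {D : Dat F V G} {U : Subgroup G} (h : D.fixU U = ⊤) : U = ⊥ := by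
  rw [Subgroup.eq_bot_iff_forall]
  intro u hu
  apply D.inj
  rw [map_one]
  ext v
  have h1 : v ∈ D.fixU U := by rw [h]; trivial
  exact h1 u hu

namespace Frame

variable [Fintype F] [FiniteDimensional F V] {D : Dat F V G} {l : ℕ} {y₁ y₂ : G}

/-- **C4.** A `p`-subgroup normalized by a frame is trivial. -/
theorem pgroup_eq_bot (h : D.Frame l y₁ y₂) (hl : l.Prime) (ho : orderOf ((Fintype.card F : ℕ) : ZMod l) = 2)
    {p : ℕ} (hp : p.Prime) (hpF : p ∣ Fintype.card F) {U : Subgroup G} [Finite U] (hU : IsPGroup p U)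
    (h₁ : ∀ u ∈ U, y₁⁻¹ * u * y₁ ∈ U) (h₂ : ∀ u ∈ U, y₂⁻¹ * u * y₂ ∈ U) : U = ⊥ := by
  have hlF := cast_ne_zero (F := F) hl ho
  -- the case where the fixed space is one of the planes
  have key : ∀ {y₁ y₂ : G}, D.Frame l y₁ y₂ → D.fixU U = fixS (D.ρ y₁) → False := by
    intro y₁ y₂ h hfix
    obtain ⟨v, hv, hv0, hvU⟩ := D.exists_fixed hp hpF hU (fixS (D.ρ y₂)) (by
      rw [h.fix₂, ← hfix]
      intro u hu
      refine D.perp_invariant fun v hv => ?_
      rw [hv _ (U.inv_mem hu)]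
      exact hv) (by
      intro hb
      have h1 := h.dim₂
      rw [hb, finrank_bot] at h1
      omega)
    have h1 : v ∈ fixS (D.ρ y₁) ⊓ fixS (D.ρ y₂) := ⟨by rw [← hfix]; exact hvU, hv⟩
    rw [h.inf_eq hlF, Submodule.mem_bot] at h1
    exact hv0 h1
  rcases h.invariant hl ho (D.fixU U) (fixU_invariant h₁) (fixU_invariant h₂) with h3 | h3 | h3 | h3
  · exfalso
    obtain ⟨v, -, hv0, hvU⟩ := D.exists_fixed hp hpF hU ⊤ (fun _ _ _ _ => trivial) (by
      intro hb
      have h1 : finrank F (⊤ : Submodule F V) = 4 := by rw [finrank_top, D.dim]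
      rw [hb, finrank_bot] at h1
      omega)
    have h1 : v ∈ D.fixU U := hvU
    rw [h3, Submodule.mem_bot] at h1
    exact hv0 h1
  · exact (key h h3).elim
  · exact (key h.symm h3).elim
  · exact eq_bot_of_fixU h3

/-- **C6.** A `p`-element commuting with a frame is trivial. -/
theorem eq_one_of_comm [Finite G] (h : D.Frame l y₁ y₂) (hl : l.Prime)
    (ho : orderOf ((Fintype.card F : ℕ) : ZMod l) = 2)
    {p : ℕ} (hp : p.Prime) (hpF : p ∣ Fintype.card F) {g : G} {k : ℕ} (hg : g ^ p ^ k = 1)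
    (h₁ : g * y₁ = y₁ * g) (h₂ : g * y₂ = y₂ * g) : g = 1 := by
  have h3 : Subgroup.zpowers g = ⊥ := by
    refine h.pgroup_eq_bot hl ho hp hpF ?_ ?_ ?_
    · rintro ⟨x, hx⟩
      obtain ⟨i, rfl⟩ := Subgroup.mem_zpowers_iff.1 hx
      refine ⟨k, Subtype.ext ?_⟩
      rw [Subgroup.coe_pow, Subgroup.coe_one]
      change (g ^ i) ^ p ^ k = 1
      rw [← zpow_natCast, ← zpow_mul, mul_comm, zpow_mul, zpow_natCast, hg, one_zpow]
    · intro u hu
      obtain ⟨i, rfl⟩ := Subgroup.mem_zpowers_iff.1 hu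
      have h4 : Commute y₁ (g ^ i) := (show Commute y₁ g from h₁.symm).zpow_right i
      rw [mul_assoc, ← h4.eq, inv_mul_cancel_left]
      exact hu
    · intro u hu
      obtain ⟨i, rfl⟩ := Subgroup.mem_zpowers_iff.1 hu
      have h4 : Commute y₂ (g ^ i) := (show Commute y₂ g from h₂.symm).zpow_right i
      rw [mul_assoc, ← h4.eq, inv_mul_cancel_left]
      exact hu
  exact (Subgroup.zpowers_eq_bot).1 h3

/-- The quadratic equation of `y₁` on the plane `fixS y₂`. -/
theorem exists_quad (h : D.Frame l y₁ y₂) (hl : l.Prime) (ho : orderOf ((Fintype.card F : ℕ) : ZMod l) = 2) :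
    ∃ t : F, ∀ v ∈ fixS (D.ρ y₂), D.ρ y₁ (D.ρ y₁ v) = t • D.ρ y₁ v - v := by
  have hlF := cast_ne_zero (F := F) hl ho
  set X := fixS (D.ρ y₂) with hX
  have hX2 : finrank F X = 2 := h.dim₂
  obtain ⟨w, hw, hw0⟩ := X.ne_bot_iff.1 (fun hb => by rw [hb, finrank_bot] at hX2; omega)
  have hXy : ∀ v ∈ X, D.ρ y₁ v ∈ X := h.symm.inv_fix₁
  -- `w`, `y₁ w` are linearly independent
  have hli : LinearIndependent F ![w, D.ρ y₁ w] := by
    rw [LinearIndependent.pair_iff' hw0]
    intro a ha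
    have h1 : ∀ v ∈ Submodule.span F {w}, D.ρ y₁ v ∈ Submodule.span F {w} := by
      intro v hv
      obtain ⟨c, rfl⟩ := Submodule.mem_span_singleton.1 hv
      rw [map_smul, ← ha]
      exact Submodule.smul_mem _ _ (Submodule.smul_mem _ _ (Submodule.mem_span_singleton_self w))
    have h2 := D.even_fix hl ho h.pow₁ _ h1
    have h3 : Submodule.span F {w} ⊓ fixS (D.ρ y₁) = ⊥ := by
      rw [eq_bot_iff, ← h.inf_eq hlF, ← hX]
      refine le_inf inf_le_right (le_trans inf_le_left ?_)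
      rw [Submodule.span_singleton_le_iff_mem]
      exact hw
    rw [h3, finrank_bot, finrank_span_singleton hw0] at h2
    omega
  have hspan : Submodule.span F (Set.range ![w, D.ρ y₁ w]) = X := by
    refine Submodule.eq_of_le_of_finrank_eq ?_ ?_
    · rw [Submodule.span_le]
      rintro _ ⟨i, rfl⟩
      fin_cases i
      · exact hw
      · exact hXy w hw
    · rw [finrank_span_eq_card hli, Fintype.card_fin, hX2]
  rw [Matrix.range_cons, Matrix.range_cons, Matrix.range_empty, Set.union_empty, Set.singleton_union] at hspan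
  have hc : D.B w (D.ρ y₁ w) ≠ 0 := by
    intro hc
    apply hw0
    refine D.nd w fun v => ?_
    have hv : v ∈ fixS (D.ρ y₁) ⊔ fixS (D.ρ y₂) := by rw [h.sup_eq hlF]; trivial
    obtain ⟨a, ha, b, hb, rfl⟩ := Submodule.mem_sup.1 hv
    rw [← hX, ← hspan, Submodule.mem_span_pair] at hb
    obtain ⟨c, d, rfl⟩ := hb
    have h1 : D.B a w = 0 := by
      have h2 := hw
      rw [hX, h.fix₂] at h2
      exact h2 a ha
    rw [map_add, map_add, map_smul, map_smul, D.alt, hc, D.B_swap w a, h1]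
    simp
  have h4 := hXy _ (hXy w hw)
  rw [← hspan, Submodule.mem_span_pair] at h4
  obtain ⟨a, b, hab⟩ := h4
  have ha : a = -1 := by
    have h5 := D.inv y₁ w (D.ρ y₁ w)
    rw [← hab, map_add, map_smul, map_smul, D.alt, smul_zero, add_zero, D.B_swap, smul_eq_mul] at h5
    have h6 : (a + 1) * D.B w (D.ρ y₁ w) = 0 := by linear_combination -h5
    rcases mul_eq_zero.1 h6 with h7 | h7
    · exact eq_neg_of_add_eq_zero_left h7
    · exact absurd h7 hc
  rw [ha] at hab
  refine ⟨b, fun v hv => ?_⟩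
  rw [← hspan, Submodule.mem_span_pair] at hv
  obtain ⟨c, d, rfl⟩ := hv
  rw [map_add, map_smul, map_smul, map_add, map_smul, map_smul, ← hab, map_add, map_smul, map_smul, ← hab]
  module

end Frame

end Dat

end Cfsg.Agent.H183.NF4
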