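import Mathlib
import Cfsg.Agent.H183.NfTorus

/-!
# `p`-groups acting on a frame have order at most eight (helper183, S5773 row `PSp_4(q)`)
-/

set_option autoImplicit false

namespace Cfsg.Agent.H183.NF4

open Module Cfsg.Agent.H518.DghpFix

universe u v w

variable {F : Type u} [Field F] {V : Type v} [AddCommGroup V] [Module F V] {G : Type w} [Group G]

namespace Dat

theorem fixS_conj {D : Dat F V G} (g y : G) : ∀ v, v ∈ fixS (D.ρ (g * y * g⁻¹)) ↔ D.ρ g⁻¹ v ∈ fixS (D.ρ y) := by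
  intro v
  rw [mem_fixS, mem_fixS]
  constructor
  · intro h
    have h1 := congrArg (D.ρ g⁻¹) h
    rw [← Module.End.mul_apply, ← map_mul, ← mul_assoc, ← mul_assoc, inv_mul_cancel, one_mul, map_mul,
      Module.End.mul_apply] at h1
    exact h1
  · intro h
    rw [map_mul, map_mul, Module.End.mul_apply, Module.End.mul_apply, h, D.ρ_apply_inv]

namespace Frame

variable [Fintype F] [FiniteDimensional F V] {D : Dat F V G} {l : ℕ} {y₁ y₂ : G}

/-- Elements commuting with `y₁`, with the same fixed space and the same quadratic equation. -/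
theorem eq_or_inv (h : D.Frame l y₁ y₂) (hl : l.Prime) (ho : orderOf ((Fintype.card F : ℕ) : ZMod l) = 2)
    {z : G} (hz : z * y₁ = y₁ * z) (hfix : fixS (D.ρ z) = fixS (D.ρ y₁)) {t : F}
    (ht : ∀ v ∈ fixS (D.ρ y₂), D.ρ y₁ (D.ρ y₁ v) = t • D.ρ y₁ v - v)
    (hzt : ∀ v ∈ fixS (D.ρ y₂), D.ρ z (D.ρ z v) = t • D.ρ z v - v) : z = y₁ ∨ z = y₁⁻¹ := by
  have hlF := cast_ne_zero (F := F) hl ho
  -- equality from equality on `fixS y₂`
  have key : ∀ y : G, (∀ v ∈ fixS (D.ρ y₁), D.ρ y v = v) → (∀ v ∈ fixS (D.ρ y₂), D.ρ z v = D.ρ y v) → z = y := by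
    intro y h1 h2
    apply D.inj
    ext v
    have hv : v ∈ fixS (D.ρ y₁) ⊔ fixS (D.ρ y₂) := by rw [h.sup_eq hlF]; trivial
    obtain ⟨a, ha, b, hb, rfl⟩ := Submodule.mem_sup.1 hv
    rw [map_add, map_add, h1 a ha, h2 b hb]
    rw [← hfix] at ha
    rw [mem_fixS.1 ha]
  have hzy : ∀ v, D.ρ z (D.ρ y₁ v) = D.ρ y₁ (D.ρ z v) := fun v => by
    rw [← Module.End.mul_apply, ← map_mul, hz, map_mul, Module.End.mul_apply]
  have hzi : z * y₁⁻¹ = y₁⁻¹ * z := by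
    rw [mul_inv_eq_iff_eq_mul, mul_assoc, hz, inv_mul_cancel_left]
  have hzyi : ∀ v, D.ρ z (D.ρ y₁⁻¹ v) = D.ρ y₁⁻¹ (D.ρ z v) := fun v => by
    rw [← Module.End.mul_apply, ← map_mul, hzi, map_mul, Module.End.mul_apply]
  have hker : ∀ y : G, y * y₁ = y₁ * y → ∀ v ∈ LinearMap.ker (D.ρ z - D.ρ y), D.ρ y₁ v ∈ LinearMap.ker (D.ρ z - D.ρ y) := by
    intro y hy v hv
    rw [LinearMap.mem_ker, LinearMap.sub_apply, sub_eq_zero] at hv ⊢
    rw [hzy, hv, ← Module.End.mul_apply, ← Module.End.mul_apply, ← map_mul, ← map_mul, hy]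
  rcases h.symm.inf_fix₁ hl ho (LinearMap.ker (D.ρ z - D.ρ y₁⁻¹)) (hker _ (by group)) with h1 | h1
  · left
    have hX : ∀ v ∈ fixS (D.ρ y₂), D.ρ y₁ v ∈ fixS (D.ρ y₂) := h.symm.inv_fix₁
    have hXi : ∀ v ∈ fixS (D.ρ y₂), D.ρ y₁⁻¹ v ∈ fixS (D.ρ y₂) := by
      have hc : D.ρ y₂ * D.ρ y₁⁻¹ = D.ρ y₁⁻¹ * D.ρ y₂ := by
        rw [← map_mul, ← map_mul]
        congr 1
        rw [mul_inv_eq_iff_eq_mul, mul_assoc, ← h.comm, inv_mul_cancel_left]
      exact fixS_invariant hc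
    have hXz : ∀ v ∈ fixS (D.ρ y₂), D.ρ z v ∈ fixS (D.ρ y₂) := by
      have h2 : ∀ v ∈ fixS (D.ρ y₁), D.ρ z⁻¹ v ∈ fixS (D.ρ y₁) := by
        intro v hv
        rw [← hfix] at hv ⊢
        rw [mem_fixS.1 (show v ∈ fixS (D.ρ z⁻¹) by rw [D.fix_inv]; exact hv)]
        exact hv
      intro v hv
      rw [h.fix₂] at hv ⊢
      exact D.perp_invariant h2 v hv
    have hsum : ∀ v ∈ fixS (D.ρ y₂), D.ρ y₁ v + D.ρ y₁⁻¹ v = t • v := by
      intro v hv
      have h3 := ht _ (hXi v hv)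
      rw [D.ρ_apply_inv] at h3
      rw [h3]
      abel
    rcases h.symm.inf_fix₁ hl ho (LinearMap.ker (D.ρ z - D.ρ y₁)) (hker _ rfl) with h2 | h2
    · exfalso
      have h3 : ∀ v ∈ fixS (D.ρ y₂), v = 0 := by
        intro v hv
        have hu : D.ρ z v - D.ρ y₁⁻¹ v ∈ LinearMap.ker (D.ρ z - D.ρ y₁) ⊓ fixS (D.ρ y₂) := by
          refine Submodule.mem_inf.2 ⟨?_, (fixS (D.ρ y₂)).sub_mem (hXz v hv) (hXi v hv)⟩
          rw [LinearMap.mem_ker, LinearMap.sub_apply, map_sub, map_sub, hzt v hv, D.ρ_apply_inv, ← hzy]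
          have h4 := congrArg (D.ρ z) (hsum v hv)
          rw [map_add, map_smul] at h4
          rw [← h4]
          abel
        rw [h2, Submodule.mem_bot, sub_eq_zero] at hu
        have h5 : v ∈ LinearMap.ker (D.ρ z - D.ρ y₁⁻¹) ⊓ fixS (D.ρ y₂) := Submodule.mem_inf.2 ⟨by
          rw [LinearMap.mem_ker, LinearMap.sub_apply, hu, sub_self], hv⟩
        rw [h1, Submodule.mem_bot] at h5
        exact h5
      have h4 := h.dim₂
      rw [(Submodule.eq_bot_iff _).2 h3, finrank_bot] at h4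
      omega
    · refine key y₁ (fun v hv => hv) fun v hv => ?_
      have h3 := h2 hv
      rw [LinearMap.mem_ker, LinearMap.sub_apply, sub_eq_zero] at h3
      exact h3
  · right
    refine key y₁⁻¹ (fun v hv => ?_) fun v hv => ?_
    · rw [← D.fix_inv] at hv
      exact hv
    · have h3 := h1 hv
      rw [LinearMap.mem_ker, LinearMap.sub_apply, sub_eq_zero] at h3
      exact h3

/-- Conjugates of `y₁` by elements preserving the plane `fixS y₁`. -/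
theorem conj_eq (h : D.Frame l y₁ y₂) (hl : l.Prime) (ho : orderOf ((Fintype.card F : ℕ) : ZMod l) = 2)
    {g : G} (hc : (g * y₁ * g⁻¹) * y₁ = y₁ * (g * y₁ * g⁻¹)) (hg : fixS (D.ρ (g * y₁ * g⁻¹)) = fixS (D.ρ y₁)) :
    g * y₁ * g⁻¹ = y₁ ∨ g * y₁ * g⁻¹ = y₁⁻¹ := by
  obtain ⟨t, ht⟩ := h.exists_quad hl ho
  refine h.eq_or_inv hl ho hc hg ht ?_
  intro v hv
  -- `g⁻¹` preserves `fixS y₂`
  have h1 : D.ρ g⁻¹ v ∈ fixS (D.ρ y₂) := by
    rw [h.fix₂] at hv ⊢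
    refine D.perp_invariant (g := g⁻¹) (fun w hw => ?_) v hv
    rw [inv_inv]
    have h2 := (fixS_conj (D := D) g y₁ (D.ρ g w)).2 (by rw [D.ρ_inv_apply]; exact hw)
    rwa [hg] at h2
  have h2 := congrArg (D.ρ g) (ht _ h1)
  rw [map_sub, map_smul, D.ρ_apply_inv] at h2
  have h3 : ∀ w, D.ρ (g * y₁ * g⁻¹) w = D.ρ g (D.ρ y₁ (D.ρ g⁻¹ w)) := fun w => by
    rw [map_mul, map_mul, Module.End.mul_apply, Module.End.mul_apply]
  rw [h3, h3, D.ρ_inv_apply]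
  exact h2

/-- The conjugate of a frame element lying in an abelian group containing the frame. -/
theorem fixS_conj_eq (h : D.Frame l y₁ y₂) (hl : l.Prime) (ho : orderOf ((Fintype.card F : ℕ) : ZMod l) = 2)
    {z : G} (h₁ : z * y₁ = y₁ * z) (h₂ : z * y₂ = y₂ * z) (hd : finrank F (fixS (D.ρ z)) = 2) :
    fixS (D.ρ z) = fixS (D.ρ y₁) ∨ fixS (D.ρ z) = fixS (D.ρ y₂) := by
  rcases h.invariant hl ho (fixS (D.ρ z)) (fixS_invariant (by rw [← map_mul, h₁, map_mul]))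
    (fixS_invariant (by rw [← map_mul, h₂, map_mul])) with h3 | h3 | h3 | h3
  · rw [h3, finrank_bot] at hd
    omega
  · exact Or.inl h3
  · exact Or.inr h3
  · rw [h3, finrank_top, D.dim] at hd
    omega

omit [Fintype F] [FiniteDimensional F V] in
theorem finrank_fixS_conj (D : Dat F V G) (g y : G) : finrank F (fixS (D.ρ (g * y * g⁻¹))) = finrank F (fixS (D.ρ y)) := by
  have h1 : fixS (D.ρ (g * y * g⁻¹)) = (fixS (D.ρ y)).map (D.ρ g) := by
    ext v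
    rw [fixS_conj, Submodule.mem_map]
    constructor
    · intro h
      exact ⟨_, h, D.ρ_apply_inv g v⟩
    · rintro ⟨w, hw, rfl⟩
      rw [D.ρ_inv_apply]
      exact hw
  rw [h1]
  exact (Submodule.equivMapOfInjective (D.ρ g) (D.ρ_injective g) _).finrank_eq.symm

/-- **C5.** A `p`-group `P` such that all conjugates of the frame under `P` commute with the frame has order at most
eight. -/
theorem card_le [Finite G] (h : D.Frame l y₁ y₂) (hl : l.Prime)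
    (ho : orderOf ((Fintype.card F : ℕ) : ZMod l) = 2) {p : ℕ} (hp : p.Prime) (hpF : p ∣ Fintype.card F)
    {P : Subgroup G} (hP : IsPGroup p P)
    (hc : ∀ g ∈ P, ∀ y ∈ ({y₁, y₂} : Set G), ∀ z ∈ ({y₁, y₂} : Set G), (g * y * g⁻¹) * z = z * (g * y * g⁻¹)) :
    Nat.card P ≤ 8 := by
  classical
  have hc11 := fun g hg => hc g hg y₁ (by simp) y₁ (by simp)
  have hc12 := fun g hg => hc g hg y₁ (by simp) y₂ (by simp)
  have hc21 := fun g hg => hc g hg y₂ (by simp) y₁ (by simp)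
  have hc22 := fun g hg => hc g hg y₂ (by simp) y₂ (by simp)
  have hlF := cast_ne_zero (F := F) hl ho
  have hne : fixS (D.ρ y₁) ≠ fixS (D.ρ y₂) := by
    intro heq
    have h1 := h.inf_eq hlF
    have h2 := h.dim₁
    rw [← heq, inf_idem] at h1
    rw [h1, finrank_bot] at h2
    omega
  -- the stabilizer of the first plane
  let St : G → Prop := fun g => fixS (D.ρ (g * y₁ * g⁻¹)) = fixS (D.ρ y₁)
  have hSt : ∀ g ∈ P, ¬ St g → fixS (D.ρ (g * y₁ * g⁻¹)) = fixS (D.ρ y₂) := fun g hg hn =>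
    (h.fixS_conj_eq hl ho (hc11 g hg) (hc12 g hg) (by rw [finrank_fixS_conj, h.dim₁])).resolve_left hn
  -- the action on submodules
  have hmul : ∀ g k : G, fixS (D.ρ (g * k * y₁ * (g * k)⁻¹)) = (fixS (D.ρ (k * y₁ * k⁻¹))).map (D.ρ g) := by
    intro g k
    have h1 : g * k * y₁ * (g * k)⁻¹ = g * (k * y₁ * k⁻¹) * g⁻¹ := by group
    rw [h1]
    ext v
    rw [fixS_conj, Submodule.mem_map]
    constructor
    · intro h
      exact ⟨_, h, D.ρ_apply_inv g v⟩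
    · rintro ⟨w, hw, rfl⟩
      rw [D.ρ_inv_apply]
      exact hw
  have hmul' : ∀ g : G, fixS (D.ρ (g * y₁ * g⁻¹)) = (fixS (D.ρ y₁)).map (D.ρ g) := by
    intro g
    have := hmul g 1
    simpa using this
  -- elements of the stabilizer
  have hsta : ∀ g ∈ P, St g → (g * y₁ * g⁻¹ = y₁ ∨ g * y₁ * g⁻¹ = y₁⁻¹) ∧ (g * y₂ * g⁻¹ = y₂ ∨ g * y₂ * g⁻¹ = y₂⁻¹) := by
    intro g hg hs
    refine ⟨h.conj_eq hl ho (hc11 g hg) hs, ?_⟩
    have h1 : fixS (D.ρ (g * y₂ * g⁻¹)) = fixS (D.ρ y₂) := by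
      rcases h.fixS_conj_eq hl ho (hc21 g hg) (hc22 g hg) (by rw [finrank_fixS_conj, h.dim₂]) with h2 | h2
      · exfalso
        apply hne
        have hs' : fixS (D.ρ (g * y₁ * g⁻¹)) = fixS (D.ρ y₁) := hs
        have h3 : (fixS (D.ρ y₁)).map (D.ρ g) = (fixS (D.ρ y₂)).map (D.ρ g) := by
          rw [← hmul', hs', ← h2]
          ext v
          rw [fixS_conj, Submodule.mem_map]
          constructor
          · intro h
            exact ⟨_, h, D.ρ_apply_inv g v⟩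
          · rintro ⟨w, hw, rfl⟩
            rw [D.ρ_inv_apply]
            exact hw
        exact Submodule.map_injective_of_injective (D.ρ_injective g) h3
      · exact h2
    exact h.symm.conj_eq hl ho (hc22 g hg) h1
  -- the difference of two elements of the stabilizer with the same signs
  have hinj : ∀ a ∈ P, ∀ b ∈ P, St a → St b → (a * y₁ * a⁻¹ = y₁ ↔ b * y₁ * b⁻¹ = y₁) →
      (a * y₂ * a⁻¹ = y₂ ↔ b * y₂ * b⁻¹ = y₂) → a = b := by
    intro a ha b hb hsa hsb h1 h2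
    obtain ⟨ha1, ha2⟩ := hsta a ha hsa
    obtain ⟨hb1, hb2⟩ := hsta b hb hsb
    have e1 : a * y₁ * a⁻¹ = b * y₁ * b⁻¹ := by
      by_cases h3 : a * y₁ * a⁻¹ = y₁
      · rw [h3, h1.1 h3]
      · rw [ha1.resolve_left h3, hb1.resolve_left fun h4 => h3 (h1.2 h4)]
    have e2 : a * y₂ * a⁻¹ = b * y₂ * b⁻¹ := by
      by_cases h3 : a * y₂ * a⁻¹ = y₂
      · rw [h3, h2.1 h3]
      · rw [ha2.resolve_left h3, hb2.resolve_left fun h4 => h3 (h2.2 h4)]
    obtain ⟨k, hk⟩ := hP ⟨b⁻¹ * a, P.mul_mem (P.inv_mem hb) ha⟩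
    have hk' : (b⁻¹ * a) ^ p ^ k = 1 := congrArg Subtype.val hk
    have f1 : (b⁻¹ * a) * y₁ = y₁ * (b⁻¹ * a) := by
      have : b⁻¹ * (a * y₁ * a⁻¹) * a = b⁻¹ * (b * y₁ * b⁻¹) * a := by rw [e1]
      calc (b⁻¹ * a) * y₁ = b⁻¹ * (a * y₁ * a⁻¹) * a := by group
        _ = b⁻¹ * (b * y₁ * b⁻¹) * a := this
        _ = y₁ * (b⁻¹ * a) := by group
    have f2 : (b⁻¹ * a) * y₂ = y₂ * (b⁻¹ * a) := by
      have : b⁻¹ * (a * y₂ * a⁻¹) * a = b⁻¹ * (b * y₂ * b⁻¹) * a := by rw [e2]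
      calc (b⁻¹ * a) * y₂ = b⁻¹ * (a * y₂ * a⁻¹) * a := by group
        _ = b⁻¹ * (b * y₂ * b⁻¹) * a := this
        _ = y₂ * (b⁻¹ * a) := by group
    have h3 := h.eq_one_of_comm hl ho hp hpF hk' f1 f2
    rw [inv_mul_eq_one] at h3
    exact h3.symm
  -- the element swapping the planes, if any
  obtain ⟨g₀, hg₀P, hg₀⟩ : ∃ g₀ ∈ P, ∀ g ∈ P, ¬ St g → St (g₀⁻¹ * g) := by
    by_cases hex : ∃ g₀ ∈ P, ¬ St g₀
    · obtain ⟨g₀, hg₀, hn⟩ := hex
      refine ⟨g₀, hg₀, fun g hg hgn => ?_⟩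
      have h1 := hSt g hg hgn
      have h2 := hSt g₀ hg₀ hn
      change fixS (D.ρ (g₀⁻¹ * g * y₁ * (g₀⁻¹ * g)⁻¹)) = fixS (D.ρ y₁)
      rw [hmul, h1, ← h2, hmul', ← Submodule.map_comp]
      have h3 : D.ρ g₀⁻¹ ∘ₗ D.ρ g₀ = LinearMap.id := by
        ext v
        exact D.ρ_inv_apply g₀ v
      rw [h3, Submodule.map_id]
    · push Not at hex
      exact ⟨1, P.one_mem, fun g hg hn => absurd (hex g hg) hn⟩
  let f : P → Bool × Bool × Bool := fun g =>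
    if St g then (true, decide ((g : G) * y₁ * (g : G)⁻¹ = y₁), decide ((g : G) * y₂ * (g : G)⁻¹ = y₂))
    else (false, decide ((g₀⁻¹ * g : G) * y₁ * (g₀⁻¹ * g : G)⁻¹ = y₁), decide ((g₀⁻¹ * g : G) * y₂ * (g₀⁻¹ * g : G)⁻¹ = y₂))
  have hf : Function.Injective f := by
    intro a b hab
    by_cases ha : St a <;> by_cases hb : St b
    · have h1 : f a = (true, decide ((a : G) * y₁ * (a : G)⁻¹ = y₁), decide ((a : G) * y₂ * (a : G)⁻¹ = y₂)) := if_pos ha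
      have h2 : f b = (true, decide ((b : G) * y₁ * (b : G)⁻¹ = y₁), decide ((b : G) * y₂ * (b : G)⁻¹ = y₂)) := if_pos hb
      rw [h1, h2, Prod.mk.injEq, Prod.mk.injEq, decide_eq_decide, decide_eq_decide] at hab
      exact Subtype.ext (hinj a a.2 b b.2 ha hb hab.2.1 hab.2.2)
    · have h1 : f a = (true, decide ((a : G) * y₁ * (a : G)⁻¹ = y₁), decide ((a : G) * y₂ * (a : G)⁻¹ = y₂)) := if_pos ha
      have h2 : f b = (false, decide ((g₀⁻¹ * b : G) * y₁ * (g₀⁻¹ * b : G)⁻¹ = y₁),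
        decide ((g₀⁻¹ * b : G) * y₂ * (g₀⁻¹ * b : G)⁻¹ = y₂)) := if_neg hb
      rw [h1, h2, Prod.mk.injEq] at hab
      exact absurd hab.1 (by decide)
    · have h1 : f b = (true, decide ((b : G) * y₁ * (b : G)⁻¹ = y₁), decide ((b : G) * y₂ * (b : G)⁻¹ = y₂)) := if_pos hb
      have h2 : f a = (false, decide ((g₀⁻¹ * a : G) * y₁ * (g₀⁻¹ * a : G)⁻¹ = y₁),
        decide ((g₀⁻¹ * a : G) * y₂ * (g₀⁻¹ * a : G)⁻¹ = y₂)) := if_neg ha
      rw [h1, h2, Prod.mk.injEq] at hab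
      exact absurd hab.1 (by decide)
    · have h1 : f a = (false, decide ((g₀⁻¹ * a : G) * y₁ * (g₀⁻¹ * a : G)⁻¹ = y₁),
        decide ((g₀⁻¹ * a : G) * y₂ * (g₀⁻¹ * a : G)⁻¹ = y₂)) := if_neg ha
      have h2 : f b = (false, decide ((g₀⁻¹ * b : G) * y₁ * (g₀⁻¹ * b : G)⁻¹ = y₁),
        decide ((g₀⁻¹ * b : G) * y₂ * (g₀⁻¹ * b : G)⁻¹ = y₂)) := if_neg hb
      rw [h1, h2, Prod.mk.injEq, Prod.mk.injEq, decide_eq_decide, decide_eq_decide] at hab
      have h3 := hinj (g₀⁻¹ * a) (P.mul_mem (P.inv_mem hg₀P) a.2) (g₀⁻¹ * b) (P.mul_mem (P.inv_mem hg₀P) b.2)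
        (hg₀ a a.2 ha) (hg₀ b b.2 hb) hab.2.1 hab.2.2
      exact Subtype.ext (mul_left_cancel h3)
  have h8 := Nat.card_le_card_of_injective f hf
  simpa using h8

end Frame

end Dat

end Cfsg.Agent.H183.NF4
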