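import Mathlib
import Cfsg.Agent.S0003
import Cfsg.Agent.S0044
import Cfsg.Agent.Lib.Cores

/-!
# Hall subgroups for two primes and abelian groups of rank two (helper183, S5773 row `PSp_4(q)`)
-/

set_option autoImplicit false

namespace Cfsg.Agent.H183.NF4

open Cfsg.Agent.Lib.Cores

universe u

/-- A Hall subgroup for two primes. -/
theorem exists_hall_two {M : Type u} [Group M] [Finite M] [Group.IsSolvable M] {p r : ℕ} (hp : p.Prime)
    (hr : r.Prime) (hpr : p ≠ r) : ∃ Y : Subgroup M, Nat.card Y =
      p ^ (Nat.card M).factorization p * r ^ (Nat.card M).factorization r := by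
  set α := (Nat.card M).factorization p with hα
  set β := (Nat.card M).factorization r with hβ
  have hM0 : Nat.card M ≠ 0 := Nat.card_pos.ne'
  have hm : p ^ α * r ^ β ∣ Nat.card M := Nat.Coprime.mul_dvd_of_dvd_of_dvd
    (Nat.Coprime.pow _ _ ((Nat.coprime_primes hp hr).2 hpr)) (Nat.ordProj_dvd _ _) (Nat.ordProj_dvd _ _)
  obtain ⟨n, hn⟩ := hm
  have hn0 : n ≠ 0 := by rintro rfl; exact hM0 (by rw [hn, mul_zero])
  have hf : ∀ l : ℕ, (Nat.card M).factorization l = α * p.factorization l + β * r.factorization l +
      n.factorization l := fun l => by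
    rw [hn, Nat.factorization_mul (mul_ne_zero (pow_ne_zero _ hp.ne_zero) (pow_ne_zero _ hr.ne_zero)) hn0,
      Nat.factorization_mul (pow_ne_zero _ hp.ne_zero) (pow_ne_zero _ hr.ne_zero), Nat.factorization_pow,
      Nat.factorization_pow]
    simp
  have hpn : ¬ p ∣ n := by
    intro h
    have h1 := hf p
    rw [← hα, hp.factorization, hr.factorization, Finsupp.single_eq_same, Finsupp.single_eq_of_ne hpr] at h1
    have h2 := (hp.dvd_iff_one_le_factorization hn0).1 h
    omega
  have hrn : ¬ r ∣ n := by
    intro h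
    have h1 := hf r
    rw [← hβ, hp.factorization, hr.factorization, Finsupp.single_eq_same, Finsupp.single_eq_of_ne hpr.symm] at h1
    have h2 := (hr.dvd_iff_one_le_factorization hn0).1 h
    omega
  exact Cfsg.Agent.S0003.result (p ^ α * r ^ β) n hn (Nat.Coprime.mul_left
    (Nat.Coprime.pow_left _ ((Nat.Prime.coprime_iff_not_dvd hp).2 hpn))
    (Nat.Coprime.pow_left _ ((Nat.Prime.coprime_iff_not_dvd hr).2 hrn)))

/-- In a solvable `{p, r}`-group with trivial `p`-core the `r`-core contains its centralizer. -/
theorem centralizer_pCore_le {X : Type u} [Group X] [Finite X] [Group.IsSolvable X] {p r : ℕ} (hp : p.Prime)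
    (hr : r.Prime) (hprs : ∀ l : ℕ, l.Prime → l ∣ Nat.card X → l = p ∨ l = r) (hcore : Cfsg.pCore p X = ⊥) :
    Subgroup.centralizer (Cfsg.pCore r X : Set X) ≤ Cfsg.pCore r X := by
  have := Fact.mk hp
  have := Fact.mk hr
  have hF : Cfsg.fittingSubgroup X ≤ Cfsg.pCore r X := by
    rw [fittingSubgroup_eq_iSup_pCore]
    refine iSup_le fun t => ?_
    have := Fact.mk t.2
    by_cases htr : (t : ℕ) = r
    · rw [htr]
    · by_cases htp : (t : ℕ) = p
      · rw [htp, hcore]; exact bot_le
      · have h1 := (pCore_isPGroup (G := X) (t : ℕ)).card_eq_or_dvd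
        rcases h1 with h1 | h1
        · rw [Subgroup.card_eq_one.1 h1]; exact bot_le
        · rcases hprs t t.2 (h1.trans (Subgroup.card_subgroup_dvd_card _)) with h | h
          · exact absurd h htp
          · exact absurd h htr
  refine le_trans ?_ (le_trans (Cfsg.Agent.S0044.result (G := X)) hF)
  exact Subgroup.centralizer_le hF

/-- An abelian group of exponent dividing `l ^ a` with at most `l` elements of order dividing `l`. -/
theorem card_le_of_rank_one {l : ℕ} (a : ℕ) : ∀ (A : Type u) [CommGroup A] [Finite A],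
    (∀ x : A, x ^ l ^ a = 1) → Nat.card {x : A // x ^ l = 1} ≤ l → Nat.card A ≤ l ^ a := by
  induction a with
  | zero =>
    intro A _ _ h _
    have : Subsingleton A := ⟨fun x y => by
      have h1 := h x
      have h2 := h y
      rw [pow_zero, pow_one] at h1 h2
      rw [h1, h2]⟩
    rw [pow_zero]
    exact Finite.card_le_one_iff_subsingleton.2 this
  | succ a ih =>
    intro A _ _ h hl
    have h1 : Nat.card (powMonoidHom l : A →* A).ker ≤ l := by
      refine le_trans (le_of_eq ?_) hl
      exact Nat.card_congr (Equiv.subtypeEquivRight fun x => MonoidHom.mem_ker)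
    have h2 : Nat.card (powMonoidHom l : A →* A).range ≤ l ^ a := by
      refine ih _ ?_ ?_
      · rintro ⟨_, x, rfl⟩
        apply Subtype.ext
        rw [Subgroup.coe_pow, Subgroup.coe_one]
        change (x ^ l) ^ l ^ a = 1
        rw [← pow_mul, ← pow_succ']
        exact h x
      · refine le_trans ?_ hl
        refine Nat.card_le_card_of_injective (fun x => ⟨x.1.1, ?_⟩) ?_
        · have := congrArg Subtype.val x.2
          rwa [Subgroup.coe_pow] at this
        · intro x y hxy
          have := congrArg Subtype.val hxy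
          exact Subtype.ext (Subtype.ext this)
    have h3 := Subgroup.card_mul_index (powMonoidHom l : A →* A).ker
    rw [Subgroup.index_ker] at h3
    rw [← h3, pow_succ']
    exact Nat.mul_le_mul h1 h2

/-- An abelian group of exponent dividing `l ^ a` and order greater than `l ^ a` has rank at least two. -/
theorem exists_rank_two {l a : ℕ} (hl : l.Prime) {A : Type u} [Group A] [Finite A] (hc : ∀ x y : A, x * y = y * x)
    (h : ∀ x : A, x ^ l ^ a = 1) (hA : l ^ a < Nat.card A) :
    ∃ x y : A, x ^ l = 1 ∧ y ^ l = 1 ∧ y ≠ 1 ∧ x ∉ Subgroup.zpowers y := by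
  have := Fact.mk hl
  let _ : CommGroup A := { (inferInstance : Group A) with mul_comm := hc }
  by_contra hcon
  push Not at hcon
  refine absurd (card_le_of_rank_one a A h ?_) (not_le.2 hA)
  by_cases hex : ∃ y : A, y ^ l = 1 ∧ y ≠ 1
  · obtain ⟨y, hy, hy1⟩ := hex
    have h1 : Nat.card (Subgroup.zpowers y) = l := by
      rw [Nat.card_zpowers, orderOf_eq_prime hy hy1]
    refine le_trans ?_ h1.le
    refine Nat.card_le_card_of_injective
      (fun x : {x : A // x ^ l = 1} => (⟨x.1, hcon x.1 y x.2 hy hy1⟩ : Subgroup.zpowers y)) ?_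
    intro x z hxz
    exact Subtype.ext (congrArg (fun t : Subgroup.zpowers y => (t : A)) hxz)
  · push Not at hex
    have h1 : Subsingleton {x : A // x ^ l = 1} := ⟨fun x z => Subtype.ext (by rw [hex x.1 x.2, hex z.1 z.2])⟩
    exact (Finite.card_le_one_iff_subsingleton.2 h1).trans hl.one_lt.le

end Cfsg.Agent.H183.NF4
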