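import Mathlib
import Cfsg.Agent.H183.NfExFrame
import Cfsg.Agent.H183.NfHall

/-!
# Solvable groups with a large Sylow `l`-subgroup, `l ∣ q + 1` odd (helper183, S5773 row `PSp_4(q)`)
-/

set_option autoImplicit false

namespace Cfsg.Agent.H183.NF4

open Module Cfsg.Agent.H518.DghpFix Cfsg.Agent.Lib.Cores

universe u v w

variable {F : Type u} [Field F] {V : Type v} [AddCommGroup V] [Module F V] {G : Type w} [Group G]

namespace Dat

/-- Restriction along an injective homomorphism. -/
def comp (D : Dat F V G) {H : Type*} [Group H] (f : H →* G) (hf : Function.Injective f) : Dat F V H where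
  ρ := D.ρ.comp f
  inj := D.inj.comp hf
  B := D.B
  alt := D.alt
  nd := D.nd
  inv := fun g v w => D.inv (f g) v w
  dim := D.dim

variable [Fintype F] [FiniteDimensional F V]

/-- The case of a `{p, l}`-group. -/
theorem card_sylow_le [Finite G] [Group.IsSolvable G] (D : Dat F V G) {l p a : ℕ} (hl : l.Prime)
    (ho : orderOf ((Fintype.card F : ℕ) : ZMod l) = 2) (hp : p.Prime) (hpF : p ∣ Fintype.card F)
    (hpr : ∀ t : ℕ, t.Prime → t ∣ Nat.card G → t = p ∨ t = l)
    (hab : ∀ R : Subgroup G, IsPGroup l R → ∀ x ∈ R, ∀ y ∈ R, x * y = y * x)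
    (hexp : ∀ R : Subgroup G, IsPGroup l R → ∀ x ∈ R, x ^ l ^ a = 1)
    (hla : l ^ (a + 1) ∣ Nat.card G) (P : Sylow p G) : Nat.card P ≤ 8 := by
  have := Fact.mk hp
  have := Fact.mk hl
  obtain ⟨L⟩ : Nonempty (Sylow l G) := inferInstance
  have hLab := hab L L.isPGroup'
  have hLexp := hexp L L.isPGroup'
  have hLc : l ^ a < Nat.card L := by
    have h1 : l ^ (a + 1) ∣ Nat.card L := L.pow_dvd_card_of_pow_dvd_card hla
    exact lt_of_lt_of_le (Nat.pow_lt_pow_right hl.one_lt (Nat.lt_succ_self a)) (Nat.le_of_dvd Nat.card_pos h1)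
  obtain ⟨x, y, hx, hy, hy1, hxy⟩ := exists_rank_two (A := L) hl (a := a)
    (fun x y => Subtype.ext (hLab x x.2 y y.2)) (fun x => Subtype.ext (hLexp x x.2)) hLc
  obtain ⟨y₁, hy₁, y₂, hy₂, hfr⟩ := D.exists_frame hl ho (L : Subgroup G) hLab x.2 y.2
    (congrArg Subtype.val hx) (congrArg Subtype.val hy) (fun h => hy1 (Subtype.ext h)) (by
      intro h
      apply hxy
      obtain ⟨i, hi⟩ := Subgroup.mem_zpowers_iff.1 h
      exact Subgroup.mem_zpowers_iff.2 ⟨i, Subtype.ext hi⟩)
  -- the `p`-core is trivial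
  have hcore : Cfsg.pCore p G = ⊥ := by
    have hn := pCore_normal (G := G) p
    refine hfr.pgroup_eq_bot hl ho hp hpF (pCore_isPGroup p) (fun u hu => ?_) (fun u hu => ?_)
    · have := hn.conj_mem u hu y₁⁻¹
      rwa [inv_inv] at this
    · have := hn.conj_mem u hu y₂⁻¹
      rwa [inv_inv] at this
  have hcl := centralizer_pCore_le hp hl hpr hcore
  have hLn : (L : Subgroup G) = Cfsg.pCore l G := by
    refine le_antisymm (fun z hz => ?_) (pCore_le_sylow L)
    apply hcl
    rw [Subgroup.mem_centralizer_iff]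
    intro w hw
    exact hLab w (pCore_le_sylow L hw) z hz
  have hnL : (L : Subgroup G).Normal := by
    rw [hLn]
    exact pCore_normal l
  refine hfr.card_le hl ho hp hpF P.isPGroup' ?_
  intro g _ y hy z hz
  have h1 : y ∈ (L : Subgroup G) := by
    rcases hy with rfl | rfl
    · exact hy₁
    · exact hy₂
  have h2 : z ∈ (L : Subgroup G) := by
    rcases hz with rfl | rfl
    · exact hy₁
    · exact hy₂
  exact hLab _ (hnL.conj_mem y h1 g) z h2

/-- **The bound.** A solvable subgroup whose order is divisible by `l ^ (a + 1)`, `l ^ a` the exponent of the Sylow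
`l`-subgroups. -/
theorem pow_factorization_le [Finite G] (D : Dat F V G) {l p a : ℕ} (hl : l.Prime)
    (ho : orderOf ((Fintype.card F : ℕ) : ZMod l) = 2) (hp : p.Prime) (hpF : p ∣ Fintype.card F)
    (hab : ∀ R : Subgroup G, IsPGroup l R → ∀ x ∈ R, ∀ y ∈ R, x * y = y * x)
    (hexp : ∀ R : Subgroup G, IsPGroup l R → ∀ x ∈ R, x ^ l ^ a = 1) (M : Subgroup G) (hM : Group.IsSolvable M)
    (hla : l ^ (a + 1) ∣ Nat.card M) : p ^ (Nat.card M).factorization p ≤ 8 := by
  have := Fact.mk hp
  have := Fact.mk hl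
  have hpl : p ≠ l := by
    rintro rfl
    exact not_dvd_card hl ho hpF
  obtain ⟨Y, hY⟩ := exists_hall_two (M := M) hp hl hpl
  have hYs : Group.IsSolvable Y := inferInstance
  obtain ⟨P⟩ : Nonempty (Sylow p Y) := inferInstance
  let f : Y →* G := M.subtype.comp Y.subtype
  have hf : Function.Injective f := M.subtype_injective.comp Y.subtype_injective
  have h1 := (D.comp f hf).card_sylow_le (a := a) hl ho hp hpF (fun t ht hd => by
    rw [hY] at hd
    rcases (Nat.Prime.dvd_mul ht).1 hd with h | h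
    · exact Or.inl ((Nat.prime_dvd_prime_iff_eq ht hp).1 (ht.dvd_of_dvd_pow h))
    · exact Or.inr ((Nat.prime_dvd_prime_iff_eq ht hl).1 (ht.dvd_of_dvd_pow h)))
    (fun R hR x hx y hy => hf (by
      rw [map_mul, map_mul]
      exact hab (R.map f) (hR.map f) _ ⟨x, hx, rfl⟩ _ ⟨y, hy, rfl⟩))
    (fun R hR x hx => hf (by
      rw [map_pow, map_one]
      exact hexp (R.map f) (hR.map f) _ ⟨x, hx, rfl⟩)) (by
      rw [hY]
      refine Dvd.dvd.mul_left (pow_dvd_pow l ?_) _
      exact (hl.pow_dvd_iff_le_factorization Nat.card_pos.ne').1 hla) P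
  have h2 : Nat.card P = p ^ (Nat.card M).factorization p := by
    rw [P.card_eq_multiplicity, hY, Nat.factorization_mul (pow_ne_zero _ hp.ne_zero) (pow_ne_zero _ hl.ne_zero),
      Nat.factorization_pow, Nat.factorization_pow, Finsupp.add_apply, Finsupp.smul_apply, Finsupp.smul_apply,
      hp.factorization, hl.factorization, Finsupp.single_eq_same, Finsupp.single_eq_of_ne hpl]
    simp
  rw [← h2]
  exact h1

end Dat

end Cfsg.Agent.H183.NF4
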