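import Mathlib
import Cfsg.Agent.H518.DghpPSp
import Cfsg.Agent.H130.Spn
import Cfsg.Agent.S2381
import Cfsg.Agent.ClassicalGeometry.SympBasic
import Cfsg.Agent.H183.NfComm
import Cfsg.Agent.H183.NfTorusBd

/-!
# `Sp_4(q)` (helper183, S5773 row `PSp_4(q)`)
-/

set_option autoImplicit false

namespace Cfsg.Agent.H183.NF4

open Module Cfsg.Agent.H518.DghpFix Cfsg.Agent.H518.DghpSep Cfsg.Agent.H518.Dghp Cfsg.Agent.H518.DghpMat
  Cfsg.Agent.H518.DghpPrim Cfsg.Agent.ClassicalGeometry.SympBasic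

section

variable (F : Type) [Field F]

/-- The natural representation of `Sp_4(F)`. -/
noncomputable def spDat : Dat F (Fin 2 ⊕ Fin 2 → F) (Matrix.symplecticGroup (Fin 2) F) where
  ρ := matRep (spHom 2 F)
  inj := matRep_injective (spHom_injective _ _)
  B := sympBilin 2 F
  alt := fun _ => sympForm_self _
  nd := fun _ h => eq_zero_of_forall_sympForm_right h
  inv := fun g v w => sympForm_mulVec g.2 v w
  dim := finrank_sum_fin

theorem spDat_ρ (g : Matrix.symplecticGroup (Fin 2) F) (v : Fin 2 ⊕ Fin 2 → F) :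
    (spDat F).ρ g v = (g : Matrix (Fin 2 ⊕ Fin 2) (Fin 2 ⊕ Fin 2) F).mulVec v := rfl

theorem spDat_B (v w : Fin 2 ⊕ Fin 2 → F) : (spDat F).B v w = Cfsg.sympForm 2 F v w := rfl

end

section

variable {F : Type} [Field F] [Fintype F] {q : ℕ}

theorem filter_two {q l : ℕ} (ho : orderOf (q : ZMod l) = 2) :
    ((Finset.Icc 1 2).filter (fun i => orderOf (q : ZMod l) ∣ 2 * i)).card = 2 := by
  rw [ho]
  decide

theorem filter_four {q l : ℕ} (ho : orderOf (q : ZMod l) = 4) :
    ((Finset.Icc 1 2).filter (fun i => orderOf (q : ZMod l) ∣ 2 * i)).card = 1 := by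
  rw [ho]
  decide

theorem eval_two (q : ℕ) : ((Polynomial.cyclotomic 2 ℤ).eval (q : ℤ)).natAbs = q + 1 := by
  rw [Polynomial.cyclotomic_two, Polynomial.eval_add, Polynomial.eval_X, Polynomial.eval_one]
  omega

theorem eval_four (q : ℕ) : ((Polynomial.cyclotomic 4 ℤ).eval (q : ℤ)).natAbs = q ^ 2 + 1 := by
  have h := Polynomial.cyclotomic_prime_pow_eq_geom_sum (R := ℤ) (p := 2) (n := 1) Nat.prime_two
  norm_num [Finset.sum_range_succ] at h
  rw [h]
  simp
  have : (1 + (q : ℤ) ^ 2) = ((q ^ 2 + 1 : ℕ) : ℤ) := by push_cast; ring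
  rw [this]
  exact Int.natAbs_natCast _

variable (hF : Fintype.card F = q) {l : ℕ} (hl : l.Prime) (hl2 : l ≠ 2) (ho : orderOf (q : ZMod l) = 2)

include hF hl hl2 ho

theorem sylow_equiv (P : Sylow l (Matrix.symplecticGroup (Fin 2) F)) :
    Nonempty (↥(P : Subgroup (Matrix.symplecticGroup (Fin 2) F)) ≃*
      (Fin 2 → Multiplicative (ZMod (l ^ (q + 1).factorization l)))) := by
  have := Fact.mk hl
  have hlq : ¬ l ∣ q := not_dvd_of_orderOf hl ho (by omega)
  have h := Cfsg.Agent.S2381.result hF 2 l hl2 (by have := hl.two_le; omega) hlq P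
  rw [filter_two ho, ho, eval_two, ← Nat.factorization_def _ hl] at h
  exact h

theorem l_comm (R : Subgroup (Matrix.symplecticGroup (Fin 2) F)) (hR : IsPGroup l R) :
    ∀ x ∈ R, ∀ y ∈ R, x * y = y * x := by
  have := Fact.mk hl
  obtain ⟨P, hP⟩ := hR.exists_le_sylow
  obtain ⟨e⟩ := sylow_equiv hF hl hl2 ho P
  intro x hx y hy
  have h1 : (⟨x, hP hx⟩ : (P : Subgroup (Matrix.symplecticGroup (Fin 2) F))) * ⟨y, hP hy⟩ = ⟨y, hP hy⟩ * ⟨x, hP hx⟩ := by
    apply e.injective
    rw [map_mul, map_mul, mul_comm]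
  exact congrArg Subtype.val h1

theorem l_exp (R : Subgroup (Matrix.symplecticGroup (Fin 2) F)) (hR : IsPGroup l R) :
    ∀ x ∈ R, x ^ l ^ (q + 1).factorization l = 1 := by
  have := Fact.mk hl
  obtain ⟨P, hP⟩ := hR.exists_le_sylow
  obtain ⟨e⟩ := sylow_equiv hF hl hl2 ho P
  intro x hx
  have h1 : (⟨x, hP hx⟩ : (P : Subgroup (Matrix.symplecticGroup (Fin 2) F))) ^ l ^ (q + 1).factorization l = 1 := by
    apply e.injective
    rw [map_pow, map_one]
    funext i
    rw [Pi.pow_apply, Pi.one_apply]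
    apply Multiplicative.toAdd.injective
    rw [toAdd_pow, toAdd_one, nsmul_eq_mul, ZMod.natCast_self, zero_mul]
  exact congrArg Subtype.val h1

/-- The `l`-part of the order. -/
theorem card_l : (Nat.card (Matrix.symplecticGroup (Fin 2) F)).factorization l = 2 * (q + 1).factorization l := by
  have := Fact.mk hl
  have hlq : ¬ l ∣ q := not_dvd_of_orderOf hl ho (by omega)
  have h := Cfsg.Agent.H130.Spn.val_Sp hF hlq 2 (by
    intro i hi _ hd
    obtain ⟨h1, h2⟩ := Finset.mem_Icc.1 hi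
    rcases (Nat.Prime.dvd_mul hl).1 hd with h3 | h3
    · exact hl2 ((Nat.prime_dvd_prime_iff_eq hl Nat.prime_two).1 h3)
    · have h4 := Nat.le_of_dvd (by omega) h3
      have h5 := hl.two_le
      omega)
  rw [filter_two ho] at h
  have h2 : Cfsg.Agent.H130.Homo.val l q = (q + 1).factorization l := by
    rw [Cfsg.Agent.H130.Homo.val, ho, eval_two, Nat.factorization_def _ hl]
  rw [h, h2]

end

section

variable {F : Type} [Field F] [Fintype F] {q : ℕ} (hF : Fintype.card F = q) {r : ℕ} (hr : r.Prime)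
  (ho : orderOf (q : ZMod r) = 4)

include hF hr ho

theorem sylow_equiv_r (P : Sylow r (Matrix.symplecticGroup (Fin 2) F)) :
    Nonempty (↥(P : Subgroup (Matrix.symplecticGroup (Fin 2) F)) ≃*
      (Fin 1 → Multiplicative (ZMod (r ^ (q ^ 2 + 1).factorization r)))) := by
  have := Fact.mk hr
  have hrq : ¬ r ∣ q := not_dvd_of_orderOf hr ho (by omega)
  have h5 := lt_prime hr ho (by omega)
  have h := Cfsg.Agent.S2381.result hF 2 r (by omega) (by omega) hrq P
  rw [filter_four ho, ho, eval_four, ← Nat.factorization_def _ hr] at h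
  exact h

theorem r_cyclic (R : Subgroup (Matrix.symplecticGroup (Fin 2) F)) (hR : IsPGroup r R) : IsCyclic R := by
  have := Fact.mk hr
  obtain ⟨P, hP⟩ := hR.exists_le_sylow
  obtain ⟨e⟩ := sylow_equiv_r hF hr ho P
  let f : R →* Multiplicative (ZMod (r ^ (q ^ 2 + 1).factorization r)) :=
    (Pi.evalMonoidHom (fun _ : Fin 1 => Multiplicative (ZMod (r ^ (q ^ 2 + 1).factorization r))) 0).comp
      (e.toMonoidHom.comp (Subgroup.inclusion hP))
  refine isCyclic_of_injective f ?_
  intro x y hxy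
  apply Subgroup.inclusion_injective hP
  apply e.injective
  funext i
  fin_cases i
  exact hxy

/-- The `r`-part of the order. -/
theorem card_r : (Nat.card (Matrix.symplecticGroup (Fin 2) F)).factorization r = (q ^ 2 + 1).factorization r := by
  have := Fact.mk hr
  have hrq : ¬ r ∣ q := not_dvd_of_orderOf hr ho (by omega)
  have h5 := lt_prime hr ho (by omega)
  have h := Cfsg.Agent.H130.Spn.val_Sp hF hrq 2 (by
    intro i hi _ hd
    obtain ⟨h1, h2⟩ := Finset.mem_Icc.1 hi
    have h4 := Nat.le_of_dvd (by omega) hd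
    omega)
  rw [filter_four ho] at h
  have h2 : Cfsg.Agent.H130.Homo.val r q = (q ^ 2 + 1).factorization r := by
    rw [Cfsg.Agent.H130.Homo.val, ho, eval_four, Nat.factorization_def _ hr]
  rw [h, h2, one_mul]

end

/-- **Separation** of a prime `r` with `q` of order four and an odd prime `l` with `q` of order two. -/
theorem sep_r_l {F : Type} [Field F] [Fintype F] {q : ℕ} (hF : Fintype.card F = q) {r l : ℕ} (hr : r.Prime)
    (hor : orderOf (q : ZMod r) = 4) (hl : l.Prime) (hl2 : l ≠ 2) (hol : orderOf (q : ZMod l) = 2) :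
    Sep (Matrix.symplecticGroup (Fin 2) F) r l := by
  have h5 := lt_prime hr hor (by omega)
  have h3 : 3 ≤ l := by
    have := hl.two_le
    omega
  have hrq : ¬ r ∣ q := not_dvd_of_orderOf hr hor (by omega)
  have hlq : ¬ l ∣ q := not_dvd_of_orderOf hl hol (by omega)
  subst hF
  refine sep_of_nc hr hl ?_ ?_ ?_
  · refine nc_of_rep (spDat F).ρ (spDat F).inj hr hl hrq ?_ ?_
    · rw [hor]
      intro h
      exact hl2 ((Nat.prime_dvd_prime_iff_eq hl Nat.prime_two).1 (hl.dvd_of_dvd_pow (show l ∣ 2 ^ 2 from h)))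
    · rw [hor, (spDat F).dim]
      omega
  · refine nc_of_rep (spDat F).ρ (spDat F).inj hl hr hlq ?_ ?_
    · rw [hol]
      intro h
      have := Nat.le_of_dvd (by omega) h
      omega
    · rw [hol, (spDat F).dim]
      omega
  · intro x y hx hy hxy
    have hxq : x ^ (Fintype.card F ^ 2 + 1) = 1 := by
      rw [← orderOf_dvd_iff_pow_eq_one, hx]
      exact Dat.dvd_sq_add_one hr hor
    have h1 := (spDat F).pow_eq_one_of_comm ((spDat F).irr_of_order hr hor hx) hxq hxy
    rw [← orderOf_dvd_iff_pow_eq_one, hy] at h1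
    have := Fact.mk hl
    rw [← ZMod.natCast_eq_zero_iff] at h1
    push_cast at h1
    have h2 := pow_orderOf_eq_one ((Fintype.card F : ℕ) : ZMod l)
    rw [hol] at h2
    rw [h2] at h1
    have h6 : ((2 : ℕ) : ZMod l) = 0 := by
      push_cast
      rw [← h1]
      norm_num
    rw [ZMod.natCast_eq_zero_iff] at h6
    exact hl2 ((Nat.prime_dvd_prime_iff_eq hl Nat.prime_two).1 h6)

end Cfsg.Agent.H183.NF4
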