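import Mathlib
import Cfsg.Agent.Lib.CoprimeAbelian
import Cfsg.Agent.H518.DghpSep
import Cfsg.Agent.H176.NFAbs
import Cfsg.Agent.H183.NfFrame

/-!
# The `2`-subgroups normalized by an element of order `r ^ k > 16` (helper183, S5773 row `PSp_4(q)`)
-/

set_option autoImplicit false

namespace Cfsg.Agent.H183.NF4

open Module Cfsg.Agent.H518.DghpFix Cfsg.Agent.H518.DghpSep

universe u v w

variable {F : Type u} [Field F] {V : Type v} [AddCommGroup V] [Module F V] {G : Type w} [Group G]

namespace Dat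

variable (D : Dat F V G)

/-- **Trace bound.** Elements with pairwise quotients of trace zero: at most sixteen. -/
theorem card_le_sixteen [FiniteDimensional F V] (h2 : (2 : F) ≠ 0) {ι : Type*} [Fintype ι] [DecidableEq ι]
    (u : ι → G) (hu : ∀ i j, i ≠ j → LinearMap.trace F V (D.ρ ((u i)⁻¹ * u j)) = 0) : Fintype.card ι ≤ 16 := by
  have hli : LinearIndependent F fun i => D.ρ (u i) := by
    rw [Fintype.linearIndependent_iff]
    intro c hc i
    have h1 := congrArg (fun f : V →ₗ[F] V => LinearMap.trace F V (D.ρ (u i)⁻¹ * f)) hc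
    simp only [Finset.mul_sum, mul_smul_comm, ← map_mul, map_sum, map_smul, mul_zero, map_zero] at h1
    rw [Finset.sum_eq_single i] at h1
    · rw [inv_mul_cancel, map_one, smul_eq_mul] at h1
      have h3 : LinearMap.trace F V (1 : V →ₗ[F] V) = 4 := by
        rw [LinearMap.trace_one, D.dim]
        norm_num
      rw [h3] at h1
      have h4 : (4 : F) ≠ 0 := by
        have : (4 : F) = 2 * 2 := by norm_num
        rw [this]
        exact mul_ne_zero h2 h2
      exact (mul_eq_zero.1 h1).resolve_right h4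
    · intro j _ hj
      rw [hu i j (Ne.symm hj), smul_zero]
    · intro h
      exact absurd (Finset.mem_univ i) h
  have h1 := hli.fintype_card_le_finrank
  rwa [finrank_linearMap, D.dim] at h1

/-- An element conjugate to its negative has trace zero. -/
theorem trace_eq_zero (h2 : (2 : F) ≠ 0) {g w z : G} (hz : D.ρ z = -1) (h : w * g * w⁻¹ = z * g) :
    LinearMap.trace F V (D.ρ g) = 0 := by
  have h1 : D.ρ w * D.ρ g * D.ρ w⁻¹ = - D.ρ g := by
    rw [← map_mul, ← map_mul, h, map_mul, hz, neg_one_mul]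
  have h3 : LinearMap.trace F V (D.ρ w * D.ρ g * D.ρ w⁻¹) = LinearMap.trace F V (D.ρ g) := by
    rw [LinearMap.trace_mul_comm, ← mul_assoc, ← map_mul, inv_mul_cancel, map_one, one_mul]
  rw [h1, map_neg] at h3
  have h4 : (2 : F) * LinearMap.trace F V (D.ρ g) = 0 := by linear_combination -h3
  exact (mul_eq_zero.1 h4).resolve_left h2

/-- Elements acting as `-1` are central. -/
theorem comm_negOne {z : G} (hz : D.ρ z = -1) (g : G) : g * z = z * g :=
  D.inj (by rw [map_mul, map_mul, hz, mul_neg_one, neg_one_mul])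

/-- **The main step.** -/
theorem two_group_le [Finite G] [FiniteDimensional F V] (h2 : (2 : F) ≠ 0) {z : G} (hz : D.ρ z = -1) {r k : ℕ}
    (hr : r.Prime) (hr2 : r ≠ 2) (hk : 0 < k) (hrk : 16 < r ^ k) {x : G} (hx : orderOf x = r ^ k)
    (hC : ∀ y : G, (∃ j, y ^ 2 ^ j = 1) → x ^ r ^ (k - 1) * y = y * x ^ r ^ (k - 1) → y = 1 ∨ y = z)
    (hN : NC G 2 r) :
    ∀ n : ℕ, ∀ U : Subgroup G, Nat.card U ≤ n → IsPGroup 2 U → (∀ u ∈ U, x * u * x⁻¹ ∈ U) → ∀ u ∈ U, u = 1 ∨ u = z := by
  have := Fact.mk hr
  have hf2 : Fact (Nat.Prime 2) := ⟨Nat.prime_two⟩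
  set x₀ := x ^ r ^ (k - 1) with hx₀
  have hx₀r : orderOf x₀ = r := by
    rw [hx₀, orderOf_pow' _ (pow_ne_zero _ hr.ne_zero), hx]
    have h1 : r ^ k = r ^ (k - 1) * r := by rw [← pow_succ, Nat.sub_add_cancel hk]
    rw [Nat.gcd_eq_right (Dvd.intro _ h1.symm), h1, Nat.mul_div_cancel_left _ (pow_pos hr.pos _)]
  have hzc : ∀ g : G, g * z = z * g := fun g => D.inj (by rw [map_mul, map_mul, hz, mul_neg_one, neg_one_mul])
  have hz2 : z * z = 1 := D.inj (by rw [map_mul, hz, map_one, neg_mul_neg, one_mul])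
  have hz1 : z ≠ 1 := by
    intro h
    rw [h, map_one] at hz
    obtain ⟨v, hv⟩ : ∃ v : V, v ≠ 0 := by
      by_contra hcon
      push Not at hcon
      have h1 : finrank F V = 0 := by
        have : Subsingleton V := ⟨fun a b => by rw [hcon a, hcon b]⟩
        exact finrank_zero_of_subsingleton
      rw [D.dim] at h1
      omega
    have h1 := congrArg (fun f : V →ₗ[F] V => f v) hz
    simp only [Module.End.one_apply, LinearMap.neg_apply] at h1
    have h3 : (2 : F) • v = 0 := by
      rw [two_smul]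
      nth_rewrite 1 [h1]
      exact neg_add_cancel v
    rcases smul_eq_zero.1 h3 with h4 | h4
    · exact h2 h4
    · exact hv h4
  intro n
  induction n with
  | zero =>
    intro U hU
    exact absurd (Nat.card_pos (α := U)) (by omega)
  | succ n ih =>
    intro U hUn hU hxU
    -- powers of `x` normalize `U`
    have hxi : ∀ i : ℕ, ∀ u ∈ U, x ^ i * u * (x ^ i)⁻¹ ∈ U := by
      intro i
      induction i with
      | zero => intro u hu; simpa using hu
      | succ i ih =>
        intro u hu
        have h1 := hxU _ (ih u hu)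
        have h3 : x * (x ^ i * u * (x ^ i)⁻¹) * x⁻¹ = x ^ (i + 1) * u * (x ^ (i + 1))⁻¹ := by
          rw [pow_succ' x i, mul_inv_rev]
          group
        rwa [h3] at h1
    have hord : ∀ u ∈ U, ∃ j, u ^ 2 ^ j = 1 := fun u hu => by
      obtain ⟨j, hj⟩ := hU ⟨u, hu⟩
      exact ⟨j, congrArg Subtype.val hj⟩
    -- proper invariant subgroups
    have hprop : ∀ U₁ : Subgroup G, U₁ < U → (∀ u ∈ U₁, x * u * x⁻¹ ∈ U₁) → ∀ u ∈ U₁, u = 1 ∨ u = z := by
      intro U₁ hlt hinv
      have h1 : Nat.card U₁ < Nat.card U := by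
        have h3 := Set.ncard_lt_ncard (SetLike.coe_ssubset_coe.2 hlt) (Set.toFinite _)
        exact h3
      exact ih U₁ (by omega) (hU.to_le hlt.le) hinv
    by_cases hcent : ∀ u ∈ U, x₀ * u = u * x₀
    · intro u hu
      exact hC u (hord u hu) (hcent u hu)
    exfalso
    -- `x₀` normalizes `U`
    have hx₀U : ∀ u ∈ U, x₀ * u * x₀⁻¹ ∈ U := hxi _
    -- `U` is not abelian
    have hnab : ¬ ∀ a ∈ U, ∀ b ∈ U, a * b = b * a := by
      intro hab
      apply hcent
      have hnorm : Subgroup.zpowers x₀ ≤ Subgroup.normalizer (U : Set G) := by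
        rw [Subgroup.zpowers_le, Subgroup.mem_normalizer_iff]
        intro h
        constructor
        · exact hx₀U h
        · intro hh
          have h5 : ∀ i : ℕ, ∀ u ∈ U, x₀ ^ i * u * (x₀ ^ i)⁻¹ ∈ U := by
            intro i u hu
            rw [hx₀, ← pow_mul]
            exact hxi _ u hu
          have h6 := h5 (r - 1) _ hh
          have h7 : x₀ ^ (r - 1) * (x₀ * h * x₀⁻¹) * (x₀ ^ (r - 1))⁻¹ = h := by
            have h8 : x₀ ^ (r - 1) * x₀ = 1 := by
              rw [← pow_succ, Nat.sub_add_cancel hr.one_lt.le, ← hx₀r, pow_orderOf_eq_one]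
            have h9 : x₀⁻¹ * (x₀ ^ (r - 1))⁻¹ = 1 := by
              rw [← mul_inv_rev, h8, inv_one]
            calc x₀ ^ (r - 1) * (x₀ * h * x₀⁻¹) * (x₀ ^ (r - 1))⁻¹ =
                (x₀ ^ (r - 1) * x₀) * h * (x₀⁻¹ * (x₀ ^ (r - 1))⁻¹) := by group
              _ = h := by rw [h8, h9, one_mul, mul_one]
          rwa [h7] at h6
      have hle := Cfsg.Agent.Lib.CoprimeAbelian.le_centralizer_of_prime_order (Subgroup.zpowers x₀) U hab hnorm (by
        obtain ⟨m, hm⟩ := IsPGroup.iff_card.1 hU
        rw [Nat.card_zpowers, hx₀r, hm]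
        exact Nat.Coprime.pow_right _ ((Nat.coprime_primes hr Nat.prime_two).2 hr2)) (by
        intro v hv hvp a ha
        have hv2 : orderOf v = 2 := by
          obtain ⟨j, hj⟩ := hord v hv
          exact (Nat.prime_dvd_prime_iff_eq hvp Nat.prime_two).1
            (hvp.dvd_of_dvd_pow (orderOf_dvd_of_pow_eq_one hj))
        -- the elementary abelian subgroup
        let Ω : Subgroup G :=
          { carrier := {a | a ∈ U ∧ a ^ 2 = 1}
            one_mem' := ⟨U.one_mem, one_pow 2⟩
            mul_mem' := fun {a b} ha hb => ⟨U.mul_mem ha.1 hb.1, by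
              rw [(show Commute a b from hab a ha.1 b hb.1).mul_pow, ha.2, hb.2, one_mul]⟩
            inv_mem' := fun {a} ha => ⟨U.inv_mem ha.1, by rw [inv_pow, ha.2, inv_one]⟩ }
        have h5 := hN Ω (fun a ha b hb => hab a ha.1 b hb.1) (fun a ha => ha.2) x₀ hx₀r (fun n hn =>
          ⟨hx₀U n hn.1, by rw [conj_pow, hn.2, mul_one, mul_inv_cancel]⟩) v
          ⟨hv, by rw [← hv2, pow_orderOf_eq_one]⟩
        have h6 : Commute x₀ v := mul_inv_eq_iff_eq_mul.1 h5
        obtain ⟨i, hi⟩ := Subgroup.mem_zpowers_iff.1 ha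
        rw [← hi]
        exact (h6.zpow_left i))
      intro u hu
      have h5 := Subgroup.mem_centralizer_iff.1 (hle (Subgroup.mem_zpowers x₀)) u hu
      exact h5.symm
    -- the center of `U`
    have hZ : ∀ a ∈ U, (∀ b ∈ U, a * b = b * a) → a = 1 ∨ a = z := by
      let Z : Subgroup G :=
        { carrier := {a | a ∈ U ∧ ∀ b ∈ U, a * b = b * a}
          one_mem' := ⟨U.one_mem, fun b _ => by rw [one_mul, mul_one]⟩
          mul_mem' := fun {a b} ha hb => ⟨U.mul_mem ha.1 hb.1, fun c hc => by
            rw [mul_assoc, hb.2 c hc, ← mul_assoc, ha.2 c hc, mul_assoc]⟩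
          inv_mem' := fun {a} ha => ⟨U.inv_mem ha.1, fun b hb => by
            have h5 := ha.2 b hb
            rw [inv_mul_eq_iff_eq_mul, ← mul_assoc, h5, mul_inv_cancel_right]⟩ }
      have hlt : Z < U := by
        refine lt_of_le_of_ne (fun a ha => ha.1) fun h => hnab ?_
        intro a ha b hb
        rw [← h] at ha
        exact ha.2 b hb
      intro a ha hab
      refine hprop Z hlt ?_ a ⟨ha, hab⟩
      rintro b ⟨hb, hb'⟩
      refine ⟨hxU b hb, fun c hc => ?_⟩
      -- `x⁻¹ c x ∈ U`
      have hxin : x ^ (orderOf x - 1) * c * (x ^ (orderOf x - 1))⁻¹ ∈ U := hxi _ c hc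
      have hxe : x ^ (orderOf x - 1) = x⁻¹ := by
        rw [eq_inv_iff_mul_eq_one, ← pow_succ, Nat.sub_add_cancel (orderOf_pos x), pow_orderOf_eq_one]
      rw [hxe, inv_inv] at hxin
      have h5 := hb' _ hxin
      calc x * b * x⁻¹ * c = x * (b * (x⁻¹ * c * x)) * x⁻¹ := by group
        _ = x * (x⁻¹ * c * x * b) * x⁻¹ := by rw [h5]
        _ = c * (x * b * x⁻¹) := by group
    -- commutators
    have hcomm : ∀ a ∈ U, ∀ b ∈ U, a * b * a⁻¹ * b⁻¹ = 1 ∨ a * b * a⁻¹ * b⁻¹ = z := by
      have hlt : ⁅U, U⁆ < U := by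
        have hnil : Group.IsNilpotent U := hU.isNilpotent
        have hsol : Group.IsSolvable U := inferInstance
        have hnt : Nontrivial U := by
          by_contra hnt
          rw [not_nontrivial_iff_subsingleton] at hnt
          apply hnab
          intro a ha b hb
          have h5 : (⟨a, ha⟩ : U) = ⟨b, hb⟩ := Subsingleton.elim _ _
          have h6 : a = b := congrArg Subtype.val h5
          rw [h6]
        have h5 := Group.IsSolvable.commutator_lt_top_of_nontrivial (G := U)
        rw [← U.range_subtype, MonoidHom.range_eq_map, ← Subgroup.map_commutator, Subgroup.map_subtype_lt_map_subtype]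
        exact h5
      intro a ha b hb
      refine hprop _ hlt ?_ _ (Subgroup.commutator_mem_commutator ha hb)
      intro u hu
      have h5 : x * u * x⁻¹ ∈ Subgroup.map (MulAut.conj x).toMonoidHom ⁅U, U⁆ := ⟨u, hu, rfl⟩
      rw [Subgroup.map_commutator] at h5
      have h6 : U.map (MulAut.conj x).toMonoidHom ≤ U := by
        rintro _ ⟨c, hc, rfl⟩
        exact hxU c hc
      exact Subgroup.commutator_mono h6 h6 h5
    -- elements of `U` other than `1`, `z` have trace zero
    have htr : ∀ g ∈ U, g ≠ 1 → g ≠ z → LinearMap.trace F V (D.ρ g) = 0 := by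
      intro g hg hg1 hgz
      obtain ⟨b, hb, hgb⟩ : ∃ b ∈ U, g * b ≠ b * g := by
        by_contra hcon
        push Not at hcon
        rcases hZ g hg hcon with h | h
        · exact hg1 h
        · exact hgz h
      refine D.trace_eq_zero h2 (w := b) hz ?_
      rcases hcomm b hb g hg with h | h
      · exfalso
        apply hgb
        have h5 : b * g * (g * b)⁻¹ = 1 := by rw [← h]; group
        exact (mul_inv_eq_one.1 h5).symm
      · rw [← h]
        group
    push Not at hcent
    obtain ⟨u, hu, hux⟩ := hcent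
    -- the stabilizer of `{u, z u}`
    let N : Subgroup G :=
      { carrier := {g | g * u * g⁻¹ = u ∨ g * u * g⁻¹ = z * u}
        one_mem' := Or.inl (by group)
        mul_mem' := fun {a b} ha hb => by
          have h5 : a * b * u * (a * b)⁻¹ = a * (b * u * b⁻¹) * a⁻¹ := by group
          change a * b * u * (a * b)⁻¹ = u ∨ a * b * u * (a * b)⁻¹ = z * u
          rw [h5]
          have h6 : a * (z * u) * a⁻¹ = z * (a * u * a⁻¹) := by
            rw [← mul_assoc, hzc, mul_assoc, mul_assoc, mul_assoc]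
          rcases ha with ha | ha <;> rcases hb with hb | hb
          · rw [hb]; exact Or.inl ha
          · rw [hb, h6, ha]; exact Or.inr rfl
          · rw [hb]; exact Or.inr ha
          · rw [hb, h6, ha, ← mul_assoc, hz2, one_mul]; exact Or.inl rfl
        inv_mem' := fun {a} ha => by
          change a⁻¹ * u * a⁻¹⁻¹ = u ∨ a⁻¹ * u * a⁻¹⁻¹ = z * u
          rw [inv_inv]
          rcases ha with ha | ha
          · left
            nth_rewrite 1 [← ha]
            group
          · right
            have h5 : u = a⁻¹ * (z * u) * a := by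
              rw [← ha]; group
            have h6 : a⁻¹ * (z * u) * a = z * (a⁻¹ * u * a) := by
              rw [← mul_assoc, hzc, mul_assoc, mul_assoc, mul_assoc]
            rw [h6] at h5
            have h7 : z * u = a⁻¹ * u * a := by
              conv_lhs => rw [h5]
              rw [← mul_assoc, hz2, one_mul]
            exact h7.symm }
    have hx₀N : x₀ ∉ N := by
      rintro (h | h)
      · exact hux (mul_inv_eq_iff_eq_mul.1 h)
      · have h5 : ∀ i : ℕ, x₀ ^ i * u * (x₀ ^ i)⁻¹ = z ^ i * u := by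
          intro i
          induction i with
          | zero => simp
          | succ i ih =>
            have h6 : x₀ ^ (i + 1) * u * (x₀ ^ (i + 1))⁻¹ = x₀ * (x₀ ^ i * u * (x₀ ^ i)⁻¹) * x₀⁻¹ := by
              rw [pow_succ' x₀ i, mul_inv_rev]
              group
            have h7 : x₀ * z ^ i = z ^ i * x₀ := (show Commute x₀ z from hzc x₀).pow_right i
            rw [h6, ih, ← mul_assoc, h7, mul_assoc, mul_assoc, ← mul_assoc x₀, h, ← mul_assoc, ← pow_succ]
        have h6 := h5 r
        rw [← hx₀r, pow_orderOf_eq_one, hx₀r, one_mul, inv_one, mul_one] at h6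
        obtain ⟨m, hm⟩ := hr.odd_of_ne_two hr2
        rw [hm, pow_succ, pow_mul, pow_two, hz2, one_pow, one_mul] at h6
        exact hz1 (mul_right_cancel (b := u) (by rw [← h6, one_mul]))
    have hxN : ∀ d, 0 < d → d < r ^ k → x ^ d ∉ N := by
      intro d hd hdk hmem
      apply hx₀N
      have h5 : x ^ d ≠ 1 := by
        intro h
        have h6 := Nat.le_of_dvd hd (orderOf_dvd_of_pow_eq_one h)
        rw [hx] at h6
        omega
      have h6 : r ∣ orderOf (x ^ d) := by
        have h7 : orderOf (x ^ d) ∣ r ^ k := by rw [← hx]; exact orderOf_pow_dvd d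
        obtain ⟨m, _, hm⟩ := (Nat.dvd_prime_pow hr).1 h7
        rw [hm]
        refine dvd_pow_self r ?_
        rintro rfl
        rw [pow_zero] at hm
        exact h5 (orderOf_eq_one_iff.1 hm)
      have h7 : orderOf ((x ^ d) ^ (orderOf (x ^ d) / r)) = r := orderOf_pow_orderOf_div (orderOf_pos _).ne' h6
      have h8 : x₀ ∈ Subgroup.zpowers ((x ^ d) ^ (orderOf (x ^ d) / r)) := by
        refine Cfsg.Agent.H176.NF.mem_zpowers_of_cyclic' (R := Subgroup.zpowers x) inferInstance hr ?_ ?_ h7 hx₀r
        · exact Subgroup.pow_mem _ (Subgroup.pow_mem _ (Subgroup.mem_zpowers x) _) _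
        · exact Subgroup.pow_mem _ (Subgroup.mem_zpowers x) _
      exact (Subgroup.zpowers_le.2 (N.pow_mem hmem _)) h8
    -- the conjugates of `u`
    have hlt : ∀ i j : ℕ, i < j → j < r ^ k →
        LinearMap.trace F V (D.ρ ((x ^ i * u * (x ^ i)⁻¹)⁻¹ * (x ^ j * u * (x ^ j)⁻¹))) = 0 ∧
        LinearMap.trace F V (D.ρ ((x ^ j * u * (x ^ j)⁻¹)⁻¹ * (x ^ i * u * (x ^ i)⁻¹))) = 0 := by
      intro i j hij hj
      obtain ⟨d, rfl⟩ := Nat.exists_eq_add_of_lt hij
      have hd := hxN (d + 1) (Nat.succ_pos d) (by omega)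
      have hne1 : x ^ i * u * (x ^ i)⁻¹ ≠ x ^ (i + d + 1) * u * (x ^ (i + d + 1))⁻¹ := by
        intro h
        apply hd
        left
        have h5 : x ^ (i + d + 1) * u * (x ^ (i + d + 1))⁻¹ = x ^ i * (x ^ (d + 1) * u * (x ^ (d + 1))⁻¹) * (x ^ i)⁻¹ := by
          rw [add_assoc, pow_add, mul_inv_rev]; group
        rw [h5] at h
        exact (mul_left_cancel (mul_right_cancel h)).symm
      have hne2 : x ^ (i + d + 1) * u * (x ^ (i + d + 1))⁻¹ ≠ z * (x ^ i * u * (x ^ i)⁻¹) := by
        intro h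
        apply hd
        right
        have h5 : x ^ (i + d + 1) * u * (x ^ (i + d + 1))⁻¹ = x ^ i * (x ^ (d + 1) * u * (x ^ (d + 1))⁻¹) * (x ^ i)⁻¹ := by
          rw [add_assoc, pow_add, mul_inv_rev]; group
        have h6 : z * (x ^ i * u * (x ^ i)⁻¹) = x ^ i * (z * u) * (x ^ i)⁻¹ := by
          rw [← mul_assoc (x ^ i) z u, hzc, mul_assoc, mul_assoc, mul_assoc]
        rw [h5, h6] at h
        exact mul_left_cancel (mul_right_cancel h)
      constructor
      · refine htr _ (U.mul_mem (U.inv_mem (hxi _ u hu)) (hxi _ u hu)) ?_ ?_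
        · intro h
          exact hne1 (inv_mul_eq_one.1 h)
        · intro h
          apply hne2
          rw [inv_mul_eq_iff_eq_mul] at h
          rw [h, hzc]
      · refine htr _ (U.mul_mem (U.inv_mem (hxi _ u hu)) (hxi _ u hu)) ?_ ?_
        · intro h
          exact hne1 (inv_mul_eq_one.1 h).symm
        · intro h
          apply hne2
          rw [inv_mul_eq_iff_eq_mul] at h
          rw [h, hzc, ← mul_assoc, hz2, one_mul]
    have h16 := D.card_le_sixteen h2 (ι := Fin (r ^ k)) (fun i => x ^ (i : ℕ) * u * (x ^ (i : ℕ))⁻¹) (by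
      intro i j hij
      rcases lt_or_gt_of_ne (fun h : (i : ℕ) = j => hij (Fin.ext h)) with h | h
      · exact (hlt i j h j.2).1
      · exact (hlt j i h i.2).2)
    rw [Fintype.card_fin] at h16
    omega

end Dat

end Cfsg.Agent.H183.NF4
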