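import Mathlib
import Cfsg.Agent.H183.NfTwo
import Cfsg.Agent.H183.NfSp
import Cfsg.Agent.H176.NFStmt

/-!
# The `2`-part of solvable subgroups of `Sp_4(q)` of order divisible by `r ^ k > 16` (helper183, S5773 row `PSp_4(q)`)
-/

set_option autoImplicit false

namespace Cfsg.Agent.H183.NF4

open Module Cfsg.Agent.H518.DghpFix Cfsg.Agent.H518.DghpSep Cfsg.Agent.H518.Dghp Cfsg.Agent.H518.DghpMat
  Cfsg.Agent.H518.DghpPrim Cfsg.Agent.H176.NF Cfsg.Agent.Lib.Cores

variable {F : Type} [Field F] [Fintype F] {q : ℕ}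

/-- minus the identity -/
def negOne (F : Type) [Field F] : Matrix.symplecticGroup (Fin 2) F := ⟨-1, by
  rw [SymplecticGroup.mem_iff]
  simp⟩

omit [Fintype F] in
theorem spDat_negOne : (spDat F).ρ (negOne F) = -1 := by
  refine LinearMap.ext fun v => ?_
  rw [LinearMap.neg_apply, Module.End.one_apply]
  change ((-1 : Matrix (Fin 2 ⊕ Fin 2) (Fin 2 ⊕ Fin 2) F).mulVec v) = _
  rw [Matrix.neg_mulVec, Matrix.one_mulVec]

/-- `2`-elements commuting with an element of order `r`. -/
theorem two_comm (hF : Fintype.card F = q) (hodd : Odd q) {r : ℕ} (hr : r.Prime) (ho : orderOf (q : ZMod r) = 4)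
    {x y : Matrix.symplecticGroup (Fin 2) F} (hx : orderOf x = r) (hy : ∃ j, y ^ 2 ^ j = 1) (hxy : x * y = y * x) :
    y = 1 ∨ y = negOne F := by
  subst hF
  have hirr := (spDat F).irr_of_order hr ho hx
  have h1 := (spDat F).pow_eq_one_of_comm hirr (x := x) (by
    rw [← orderOf_dvd_iff_pow_eq_one, hx]
    exact Dat.dvd_sq_add_one hr ho) hxy
  obtain ⟨j, hj⟩ := hy
  obtain ⟨m, hm⟩ := hodd
  have h2 : y ^ 2 = 1 := by
    rw [← orderOf_dvd_iff_pow_eq_one] at h1 hj ⊢
    obtain ⟨i, _, hi⟩ := (Nat.dvd_prime_pow Nat.prime_two).1 hj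
    rw [hi] at h1 ⊢
    have h3 : i ≤ 1 := by
      by_contra hcon
      have h4 : 4 ∣ 2 ^ i := pow_dvd_pow 2 (show 2 ≤ i by omega)
      have h5 := h4.trans h1
      rw [hm] at h5
      have h6 : (2 * m + 1) ^ 2 + 1 = 4 * (m ^ 2 + m) + 2 := by ring
      rw [h6] at h5
      omega
    exact pow_dvd_pow 2 h3
  have h3 : ∀ v, (spDat F).ρ y ((spDat F).ρ y v) = v := fun v => by
    rw [← Module.End.mul_apply, ← map_mul, ← pow_two, h2, map_one, Module.End.one_apply]
  rcases hirr (fixS ((spDat F).ρ y)) (fixS_invariant (by rw [← map_mul, ← hxy, map_mul])) with h | h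
  · right
    apply (spDat F).inj
    rw [spDat_negOne]
    refine LinearMap.ext fun v => ?_
    have h4 : (spDat F).ρ y v + v ∈ fixS ((spDat F).ρ y) := by
      rw [mem_fixS, map_add, h3, add_comm]
    rw [h, Submodule.mem_bot] at h4
    rw [LinearMap.neg_apply, Module.End.one_apply]
    exact eq_neg_of_add_eq_zero_left h4
  · left
    apply (spDat F).inj
    rw [map_one]
    exact fixS_eq_top_iff.1 h

theorem nc_two_r (hF : Fintype.card F = q) (hodd : Odd q) {r : ℕ} (hr : r.Prime) (ho : orderOf (q : ZMod r) = 4) :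
    NC (Matrix.symplecticGroup (Fin 2) F) 2 r := by
  subst hF
  have h5 := lt_prime hr ho (by omega)
  have h2F : ¬ 2 ∣ Fintype.card F := by
    obtain ⟨m, hm⟩ := hodd
    omega
  have hord2 : orderOf ((Fintype.card F : ℕ) : ZMod 2) = 1 := by
    have h1 := Lib.Zsigmondy.orderOf_dvd_pred Nat.prime_two h2F
    exact Nat.dvd_one.1 h1
  refine nc_of_rep (spDat F).ρ (spDat F).inj Nat.prime_two hr h2F ?_ ?_
  · rw [hord2]
    exact fun h => hr.one_lt.ne' (Nat.dvd_one.1 h)
  · rw [hord2, (spDat F).dim, mul_one]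
    exact h5

/-- The bound for the `2`-part of a solvable `{2, r}`-group. -/
theorem factorization_two_le_aux (hB : BdOfUnip) (hF : Fintype.card F = q) (hodd : Odd q) {r : ℕ} (hr : r.Prime)
    (ho : orderOf (q : ZMod r) = 4) {Y : Type} [Group Y] [Finite Y] (hYs : Group.IsSolvable Y)
    (f : Y →* Matrix.symplecticGroup (Fin 2) F) (hf : Function.Injective f)
    (hprs : ∀ t : ℕ, t.Prime → t ∣ Nat.card Y → t = 2 ∨ t = r) {x : Y} {β : ℕ} (hx : orderOf x = r ^ β)
    (h16 : 16 < r ^ β) : (Nat.card Y).factorization 2 ≤ 3 := by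
  have hfr := Fact.mk hr
  have hf2 : Fact (Nat.Prime 2) := ⟨Nat.prime_two⟩
  have h5 := lt_prime hr ho (by omega)
  have hr2 : r ≠ 2 := by omega
  have hβ0 : 0 < β := Nat.pos_of_ne_zero (by rintro rfl; norm_num at h16)
  have h2F : (2 : F) ≠ 0 := by
    have h := cast_ne_zero_of_not_dvd (F := F) Nat.prime_two (by
      rw [hF]
      obtain ⟨m, hm⟩ := hodd
      omega)
    exact_mod_cast h
  have hord : ∀ y : Y, orderOf (f y) = orderOf y := fun y => orderOf_injective f hf y
  -- the `r`-subgroups of `Y` are cyclic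
  have hcyc : ∀ R : Subgroup Y, IsPGroup r R → IsCyclic R := fun R hR => by
    have h1 := r_cyclic hF hr ho (R.map f) (hR.map f)
    exact isCyclic_of_injective (R.equivMapOfInjective f hf).toMonoidHom (R.equivMapOfInjective f hf).injective
  -- the `2`-core of `Y`
  have hx₀ : orderOf (f x ^ r ^ (β - 1)) = r := by
    rw [orderOf_pow' _ (pow_ne_zero _ hr.ne_zero), hord, hx]
    have h1 : r ^ β = r ^ (β - 1) * r := by rw [← pow_succ, Nat.sub_add_cancel hβ0]
    rw [Nat.gcd_eq_right (Dvd.intro _ h1.symm), h1, Nat.mul_div_cancel_left _ (pow_pos hr.pos _)]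
  have hcore : ∀ u ∈ Cfsg.pCore 2 Y, f u = 1 ∨ f u = negOne F := by
    intro u hu
    refine (spDat F).two_group_le h2F spDat_negOne hr hr2 hβ0 h16 (x := f x) (by rw [hord, hx])
      (fun y hy hxy => two_comm hF hodd hr ho hx₀ hy hxy) (nc_two_r hF hodd hr ho) (Nat.card ((Cfsg.pCore 2 Y).map f))
      ((Cfsg.pCore 2 Y).map f) le_rfl ((pCore_isPGroup 2).map f) ?_ (f u) ⟨u, hu, rfl⟩
    rintro _ ⟨w, hw, rfl⟩
    exact ⟨x * w * x⁻¹, (pCore_normal (G := Y) 2).conj_mem w hw x, by rw [map_mul, map_mul, map_inv]⟩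
  have hcent : ∀ g : Matrix.symplecticGroup (Fin 2) F, g * negOne F = negOne F * g :=
    (spDat F).comm_negOne spDat_negOne
  have hrcore : Cfsg.pCore r Y ≠ ⊥ := by
    intro hbot
    have h1 := centralizer_pCore_le (X := Y) hr Nat.prime_two (fun t ht hd => (hprs t ht hd).symm) hbot
    have h2 : x ∈ Subgroup.centralizer (Cfsg.pCore 2 Y : Set Y) := by
      rw [Subgroup.mem_centralizer_iff]
      intro u hu
      apply hf
      rw [map_mul, map_mul]
      rcases hcore u hu with h | h
      · rw [h, one_mul, mul_one]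
      · rw [h, hcent]
    obtain ⟨j, hj⟩ := (pCore_isPGroup (G := Y) 2) ⟨x, h1 h2⟩
    have hj' : x ^ 2 ^ j = 1 := congrArg Subtype.val hj
    have h3 := orderOf_dvd_of_pow_eq_one hj'
    rw [hx] at h3
    have h4 : r ∣ 2 := hr.dvd_of_dvd_pow ((dvd_pow_self r hβ0.ne').trans h3)
    exact hr2 ((Nat.prime_dvd_prime_iff_eq hr Nat.prime_two).1 h4)
  obtain ⟨v, hv⟩ : ∃ v : Cfsg.pCore r Y, orderOf v = r := by
    refine exists_prime_orderOf_dvd_card' r ?_
    exact (pCore_isPGroup (G := Y) r).card_eq_or_dvd.resolve_left fun h => hrcore (Subgroup.card_eq_one.1 h)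
  have hv' : orderOf (v : Y) = r := by rw [Subgroup.orderOf_coe, hv]
  have hvn : ∀ g : Y, g * v * g⁻¹ ∈ Subgroup.zpowers (v : Y) := fun g =>
    mem_zpowers_of_cyclic' (hcyc _ (pCore_isPGroup r)) hr v.2 ((pCore_normal (G := Y) r).conj_mem v v.2 g) hv' (by
      rw [← MulAut.conj_apply, MulEquiv.orderOf_eq, hv'])
  -- the bound
  have hbd : Bd Y r 2 (1 + Nat.factorization 4 2) := by
    refine hB Y F (Fin 2 ⊕ Fin 2) ((spHom 2 F).comp f) ((spHom_injective 2 F).comp hf) r 2 4 1 hr Nat.prime_two hr2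
      (by rw [hF]; exact not_dvd_of_orderOf hr ho (by omega)) (by rw [hF, ho]) (by simp) ?_
    intro x' hx' U hU hxU
    -- `x'` is a power of `v`
    have h1 : x' ∈ Subgroup.zpowers (v : Y) := by
      have h2 : IsPGroup r (Subgroup.zpowers x') := by
        rw [IsPGroup.iff_card]
        exact ⟨1, by rw [Nat.card_zpowers, hx', pow_one]⟩
      obtain ⟨Q, hQ⟩ := h2.exists_le_sylow
      exact mem_zpowers_of_cyclic' (hcyc Q Q.isPGroup') hr (pCore_le_sylow Q v.2) (hQ (Subgroup.mem_zpowers x'))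
        hv' hx'
    have h2 : ∀ u ∈ U, f u = 1 ∨ f u = negOne F := by
      intro u hu
      have h3 : u * x' * u⁻¹ * x'⁻¹ ∈ Subgroup.zpowers (v : Y) := by
        obtain ⟨i, hi⟩ := Subgroup.mem_zpowers_iff.1 h1
        refine Subgroup.mul_mem _ ?_ (Subgroup.inv_mem _ h1)
        rw [← hi]
        have h4 : u * (v : Y) ^ i * u⁻¹ = (u * v * u⁻¹) ^ i := by rw [conj_zpow]
        rw [h4]
        exact Subgroup.zpow_mem _ (hvn u) i
      have h4 : u * x' * u⁻¹ * x'⁻¹ ∈ U := by
        have h6 := (Subgroup.mem_normalizer_iff.1 hxU u⁻¹).1 (U.inv_mem hu)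
        have h7 := U.mul_mem hu h6
        rwa [← mul_assoc, ← mul_assoc] at h7
      have h6 : u * x' * u⁻¹ * x'⁻¹ = 1 := by
        have h7 := Subgroup.orderOf_dvd_natCard _ h3
        rw [Nat.card_zpowers, hv'] at h7
        obtain ⟨j, hj⟩ := hU ⟨_, h4⟩
        have hj' : (u * x' * u⁻¹ * x'⁻¹) ^ 2 ^ j = 1 := congrArg Subtype.val hj
        have h8 := orderOf_dvd_of_pow_eq_one hj'
        have h9 : Nat.Coprime r (2 ^ j) := Nat.Coprime.pow_right _ ((Nat.coprime_primes hr Nat.prime_two).2 hr2)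
        exact orderOf_eq_one_iff.1 (Nat.Coprime.eq_one_of_dvd (Nat.Coprime.coprime_dvd_left h7 h9) h8)
      obtain ⟨j, hj⟩ := hU ⟨u, hu⟩
      refine two_comm hF hodd hr ho (x := f x') (by rw [hord, hx']) ⟨j, ?_⟩ ?_
      · rw [← map_pow]
        have hj' : u ^ 2 ^ j = 1 := congrArg Subtype.val hj
        rw [hj', map_one]
      · rw [← map_mul, ← map_mul]
        congr 1
        rw [mul_inv_eq_one, mul_inv_eq_iff_eq_mul] at h6
        exact h6.symm
    have h3 : Nat.card U ≤ 2 := by
      classical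
      have h4 : Function.Injective fun u : U => decide (f u = 1) := by
        intro a b hab
        have hab' : (f a = 1 ↔ f b = 1) := decide_eq_decide.1 hab
        apply Subtype.ext
        apply hf
        rcases h2 a a.2 with h5 | h5
        · rw [h5, hab'.1 h5]
        · rcases h2 b b.2 with h6 | h6
          · rw [h6, hab'.2 h6]
          · rw [h5, h6]
      have h5 := Nat.card_le_card_of_injective _ h4
      simpa using h5
    by_contra hcon
    have h4 : 2 ^ 2 ∣ Nat.card U := (Nat.prime_two.pow_dvd_iff_le_factorization Nat.card_pos.ne').2 (by omega)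
    have h5 := Nat.le_of_dvd Nat.card_pos h4
    omega
  have h4 : Nat.factorization 4 2 = 2 := by
    have : (4 : ℕ) = 2 ^ 2 := by norm_num
    rw [this, Nat.prime_two.factorization_pow, Finsupp.single_eq_same]
  rw [h4] at hbd
  have htop : Group.IsSolvable (⊤ : Subgroup Y) := inferInstance
  have h6 := hbd ⊤ htop (by
    rw [Subgroup.card_top]
    exact ((dvd_pow_self r hβ0.ne').trans (by rw [← hx])).trans (orderOf_dvd_natCard x))
  rwa [Subgroup.card_top] at h6

/-- **The bound for the `2`-part.** -/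
theorem factorization_two_le (hB : BdOfUnip) (hF : Fintype.card F = q) (hodd : Odd q) {r : ℕ} (hr : r.Prime)
    (ho : orderOf (q : ZMod r) = 4) {k : ℕ} (hk : 16 < r ^ k) (H : Subgroup (Matrix.symplecticGroup (Fin 2) F))
    (hH : Group.IsSolvable H) (hrH : r ^ k ∣ Nat.card H) : (Nat.card H).factorization 2 ≤ 3 := by
  have hfr := Fact.mk hr
  have hf2 : Fact (Nat.Prime 2) := ⟨Nat.prime_two⟩
  have h5 := lt_prime hr ho (by omega)
  have hr2 : r ≠ 2 := by omega
  obtain ⟨Y, hY⟩ := exists_hall_two (M := H) Nat.prime_two hr hr2.symm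
  have hYs : Group.IsSolvable Y := inferInstance
  set β := (Nat.card H).factorization r with hβ
  have hkβ : k ≤ β := (hr.pow_dvd_iff_le_factorization Nat.card_pos.ne').1 hrH
  let f : Y →* Matrix.symplecticGroup (Fin 2) F := H.subtype.comp Y.subtype
  have hf : Function.Injective f := H.subtype_injective.comp Y.subtype_injective
  have hcyc : ∀ R : Subgroup Y, IsPGroup r R → IsCyclic R := fun R hR => by
    have h1 := r_cyclic hF hr ho (R.map f) (hR.map f)
    exact isCyclic_of_injective (R.equivMapOfInjective f hf).toMonoidHom (R.equivMapOfInjective f hf).injective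
  obtain ⟨R⟩ : Nonempty (Sylow r Y) := inferInstance
  have hRc : Nat.card R = r ^ β := by
    rw [R.card_eq_multiplicity, hY, Nat.factorization_mul (pow_ne_zero _ two_ne_zero) (pow_ne_zero _ hr.ne_zero),
      Nat.factorization_pow, Nat.factorization_pow, Finsupp.add_apply, Finsupp.smul_apply, Finsupp.smul_apply,
      Nat.prime_two.factorization, hr.factorization, Finsupp.single_eq_same, Finsupp.single_eq_of_ne hr2]
    simp
  obtain ⟨x, hx⟩ : ∃ x : Y, orderOf x = r ^ β := by
    have h1 := hcyc R R.isPGroup'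
    obtain ⟨g, hg⟩ := h1.exists_generator
    refine ⟨g, ?_⟩
    rw [Subgroup.orderOf_coe, ← hRc]
    exact orderOf_eq_card_of_forall_mem_zpowers hg
  have h6 := factorization_two_le_aux hB hF hodd hr ho hYs f hf (fun t ht hd => by
    rw [hY] at hd
    rcases (Nat.Prime.dvd_mul ht).1 hd with h | h
    · exact Or.inl ((Nat.prime_dvd_prime_iff_eq ht Nat.prime_two).1 (ht.dvd_of_dvd_pow h))
    · exact Or.inr ((Nat.prime_dvd_prime_iff_eq ht hr).1 (ht.dvd_of_dvd_pow h))) hx
    (lt_of_lt_of_le hk (Nat.pow_le_pow_right hr.pos hkβ))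
  rw [hY, Nat.factorization_mul (pow_ne_zero _ two_ne_zero) (pow_ne_zero _ hr.ne_zero),
    Nat.factorization_pow, Nat.factorization_pow, Finsupp.add_apply, Finsupp.smul_apply, Finsupp.smul_apply,
    Nat.prime_two.factorization, hr.factorization, Finsupp.single_eq_same, Finsupp.single_eq_of_ne hr2.symm] at h6
  simpa using h6

end Cfsg.Agent.H183.NF4
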