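import Mathlib
import Cfsg.Agent.S5070
import Cfsg.Agent.Classification.NGroupExclude
import Cfsg.Agent.H183.NfTwoBd

/-!
# Solvable subgroups of `Sp_4(p)` containing a Sylow `p`-subgroup (helper183, S5773 row `PSp_4(q)`)

They stabilize a nonzero totally isotropic subspace; bound for the `2`-part.
-/

set_option autoImplicit false

namespace Cfsg.Agent.H183.NF4

open Module Cfsg.Agent.H518.DghpFix Cfsg.Agent.ClassicalGeometry.SympBasic Cfsg.Agent.S5070 Cfsg

variable {F : Type} [Field F] [Fintype F] {q : ℕ}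

/-- `|Sp_4(q)|` -/
theorem card_sp4 (hF : Fintype.card F = q) :
    Nat.card (Matrix.symplecticGroup (Fin 2) F) = q ^ 4 * ((q ^ 2 - 1) * (q ^ 4 - 1)) := by
  rw [Cfsg.Agent.S0245.result hF 2, Finset.prod_range_succ, Finset.prod_range_one]
  norm_num

/-- The elements of the prime field. -/
theorem exists_natCast {p : ℕ} (hp : p.Prime) (hF : Fintype.card F = p) (c : F) : ∃ n : ℕ, (n : F) = c := by
  have := Fact.mk hp
  have h1 : AddSubgroup.zmultiples (1 : F) = ⊤ :=
    zmultiples_eq_top_of_prime_card (p := p) (by rw [Nat.card_eq_fintype_card, hF]) one_ne_zero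
  have h2 : c ∈ AddSubgroup.zmultiples (1 : F) := by rw [h1]; trivial
  obtain ⟨n, hn⟩ := AddSubgroup.mem_zmultiples_iff.1 h2
  obtain ⟨m, hm⟩ : ∃ m : ℕ, (m : ℤ) = n % (p : ℤ) := by
    refine ⟨(n % (p : ℤ)).toNat, Int.toNat_of_nonneg (Int.emod_nonneg _ ?_)⟩
    exact_mod_cast hp.ne_zero
  refine ⟨m, ?_⟩
  have hp0 : (p : F) = 0 := by rw [← hF]; exact Nat.cast_card_eq_zero F
  rw [← hn, zsmul_one]
  have h3 : ((m : ℤ) : F) = ((n % (p : ℤ) : ℤ) : F) := by rw [hm]
  rw [Int.cast_natCast] at h3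
  rw [h3]
  have h4 := Int.emod_add_mul_ediv n p
  have h5 : ((n % (p : ℤ) + p * (n / p) : ℤ) : F) = (n : F) := by rw [h4]
  push_cast at h5
  rw [hp0, zero_mul, add_zero] at h5
  exact_mod_cast h5

omit [Fintype F] in
theorem transv_one_pow (u : Fin 2 ⊕ Fin 2 → F) (n : ℕ) : transv u (1 : F) ^ n = transv u (n : F) := by
  induction n with
  | zero => rw [pow_zero, Nat.cast_zero, transv_zero]
  | succ n ih => rw [pow_succ, ih, transv_mul, Nat.cast_succ]

/-- Over the prime field one transvection generates its transvection group. -/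
theorem TS_le {p : ℕ} (hp : p.Prime) (hF : Fintype.card F = p) {K : Subgroup (Matrix.symplecticGroup (Fin 2) F)}
    {u : Fin 2 ⊕ Fin 2 → F} (h : transv u 1 ∈ K) : TS u ≤ K := by
  intro g hg
  obtain ⟨c, rfl⟩ := mem_TS.1 hg
  obtain ⟨n, rfl⟩ := exists_natCast hp hF c
  rw [← transv_one_pow]
  exact K.pow_mem h n

/-- A subgroup whose order is divisible by `q ^ 4`, `q = p`, contains a transvection. -/
theorem exists_transv_mem {p : ℕ} (hp : p.Prime) (hF : Fintype.card F = p)
    (K : Subgroup (Matrix.symplecticGroup (Fin 2) F)) (hK : p ^ 4 ∣ Nat.card K) :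
    ∃ u : Fin 2 ⊕ Fin 2 → F, u ≠ 0 ∧ transv u 1 ∈ K := by
  have := Fact.mk hp
  have hfac : (Nat.card (Matrix.symplecticGroup (Fin 2) F)).factorization p = 4 := by
    have h2 := hp.two_le
    have h3 : ¬ p ∣ (p ^ 2 - 1) * (p ^ 4 - 1) := by
      intro h
      have key : ∀ n, n ≠ 0 → ¬ p ∣ p ^ n - 1 := by
        intro n hn h
        have h4 : p ∣ p ^ n := dvd_pow_self p hn
        have h5 : 1 ≤ p ^ n := Nat.one_le_pow _ _ hp.pos
        have h6 := (Nat.dvd_sub h4 h)
        rw [Nat.sub_sub_self h5] at h6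
        exact hp.one_lt.ne' (Nat.dvd_one.1 h6)
      rcases (Nat.Prime.dvd_mul hp).1 h with h | h
      · exact key 2 (by norm_num) h
      · exact key 4 (by norm_num) h
    rw [card_sp4 hF, Nat.factorization_mul (pow_ne_zero _ hp.ne_zero) (fun h0 => h3 (by rw [h0]; exact dvd_zero p)),
      Finsupp.add_apply, hp.factorization_pow, Finsupp.single_eq_same, Nat.factorization_eq_zero_of_not_dvd h3]
  -- a Sylow subgroup of `K`
  obtain ⟨P, hPc⟩ := Sylow.exists_subgroup_card_pow_prime p hK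
  have hPc' : Nat.card (P.map K.subtype) = p ^ (Nat.card (Matrix.symplecticGroup (Fin 2) F)).factorization p := by
    rw [Subgroup.card_map_of_injective K.subtype_injective, hPc, hfac]
  let S : Sylow p (Matrix.symplecticGroup (Fin 2) F) := Sylow.ofCard _ hPc'
  -- a transvection
  let e : Fin 2 ⊕ Fin 2 → F := Pi.single (Sum.inl 0) 1
  have he : e ≠ 0 := by
    intro h
    have := congrFun h (Sum.inl 0)
    simp [e] at this
  have hpg : IsPGroup p (Subgroup.zpowers (transv e (1 : F))) := by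
    have h1 : transv e (1 : F) ^ p = 1 := by
      rw [transv_one_pow]
      have : (p : F) = 0 := by rw [← hF]; exact Nat.cast_card_eq_zero F
      rw [this, transv_zero]
    rintro ⟨x, hx⟩
    obtain ⟨i, rfl⟩ := Subgroup.mem_zpowers_iff.1 hx
    refine ⟨1, Subtype.ext ?_⟩
    rw [pow_one, Subgroup.coe_pow, Subgroup.coe_one]
    change (transv e (1 : F) ^ i) ^ p = 1
    rw [← zpow_natCast, ← zpow_mul, mul_comm, zpow_mul, zpow_natCast, h1, one_zpow]
  obtain ⟨Q, hQ⟩ := hpg.exists_le_sylow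
  obtain ⟨g, hg⟩ := MulAction.exists_smul_eq (Matrix.symplecticGroup (Fin 2) F) Q S
  refine ⟨(g : Matrix (Fin 2 ⊕ Fin 2) (Fin 2 ⊕ Fin 2) F).mulVec e, mulVec_ne_zero g he, ?_⟩
  rw [← conj_transv]
  have h1 : g * transv e 1 * g⁻¹ ∈ ((g • Q : Sylow p _) : Subgroup (Matrix.symplecticGroup (Fin 2) F)) := by
    rw [Sylow.coe_subgroup_smul]
    exact ⟨_, hQ (Subgroup.mem_zpowers _), rfl⟩
  rw [hg] at h1
  obtain ⟨x, _, hx⟩ := h1
  rw [← hx]
  exact x.2

/-- In a solvable group (`q ≥ 4` prime) two transvections commute. -/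
theorem sympForm_eq_zero {p : ℕ} (hp : p.Prime) (hF : Fintype.card F = p) (h4 : 4 ≤ p)
    {K : Subgroup (Matrix.symplecticGroup (Fin 2) F)} (hK : Group.IsSolvable K)
    {u w : Fin 2 ⊕ Fin 2 → F} (hu : transv u 1 ∈ K) (hw : transv w 1 ∈ K) : sympForm 2 F u w = 0 := by
  by_contra hne
  obtain ⟨φ, hφ, hker, -, -⟩ := TS_pair hne
  have h1 : φ.range ≤ K := by
    rw [hφ]
    exact sup_le (TS_le hp hF hu) (TS_le hp hF hw)
  have h2 : Group.IsSolvable φ.range :=
    Group.isSolvable_of_isSolvable_injective (f := Subgroup.inclusion h1) (Subgroup.inclusion_injective h1)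
  refine Cfsg.Agent.Classification.NGroupExclude.not_isSolvable_sl F (by rw [hF]; exact h4) ?_
  have h3 : Group.IsSolvable φ.ker := Group.isSolvable_of_comm fun a b => Subtype.ext
    ((Subgroup.mem_center_iff.1 (hker b.2)) a)
  exact Group.isSolvable_of_ker_le_range φ.ker.subtype φ.rangeRestrict (by
    rw [MonoidHom.ker_rangeRestrict, Subgroup.range_subtype])

end Cfsg.Agent.H183.NF4
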