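import Mathlib
import Cfsg.Agent.H183.NfTransv

/-!
# The `2`-part of stabilizers of totally isotropic subspaces of `Sp_4(q)` (helper183, S5773 row `PSp_4(q)`)
-/

set_option autoImplicit false

namespace Cfsg.Agent.H183.NF4

open Module Cfsg.Agent.H518.DghpFix Cfsg.Agent.ClassicalGeometry.SympBasic Cfsg.Agent.S5070 Cfsg

section Plane

universe u v w

variable {F : Type u} [Field F] [Fintype F] {V : Type v} [AddCommGroup V] [Module F V] [FiniteDimensional F V]
  {G : Type w} [Group G] (D : Dat F V G)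

/-- The restriction of the representation to an invariant subspace. -/
noncomputable def Dat.restr (S : Subgroup G) (W : Submodule F V) (hW : ∀ g ∈ S, ∀ w ∈ W, D.ρ g w ∈ W) :
    S →* (W →ₗ[F] W) where
  toFun g := (D.ρ g).restrict (hW g g.2)
  map_one' := by
    ext w
    rw [LinearMap.coe_restrict_apply, Subgroup.coe_one, map_one]
    rfl
  map_mul' a b := by
    ext w
    rw [Module.End.mul_apply, LinearMap.coe_restrict_apply, LinearMap.coe_restrict_apply, LinearMap.coe_restrict_apply,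
      Subgroup.coe_mul, map_mul]
    rfl

/-- A `2`-group preserving a Lagrangian plane embeds in `GL_2(q)`. -/
theorem Dat.card_dvd_of_plane [Finite G] (h2 : (2 : F) ≠ 0) {S : Subgroup G} (hS : IsPGroup 2 S)
    {W : Submodule F V} (hW : ∀ g ∈ S, ∀ w ∈ W, D.ρ g w ∈ W) (hd : finrank F W = 2)
    (hiso : ∀ v ∈ W, ∀ w ∈ W, D.B v w = 0) :
    Nat.card S ∣ (Fintype.card F ^ 2 - 1) * (Fintype.card F ^ 2 - Fintype.card F) := by
  have hWp : D.perp W = W := by
    have h1 : W ≤ D.perp W := fun v hv w hw => hiso w hw v hv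
    have h3 := D.finrank_perp W
    rw [hd] at h3
    exact (Submodule.eq_of_le_of_finrank_eq h1 (by rw [h3, hd])).symm
  let f : S →* (W →ₗ[F] W)ˣ := (D.restr S W hW).toHomUnits
  have hf : Function.Injective f := by
    rw [injective_iff_map_eq_one]
    intro s hs
    have h1 : ∀ w ∈ W, D.ρ s w = w := by
      intro w hw
      have h3 : D.restr S W hW s = 1 := congrArg Units.val hs
      have h4 := congrArg (fun g : W →ₗ[F] W => ((g ⟨w, hw⟩ : W) : V)) h3
      exact h4
    have h3 : ∀ v : V, D.ρ s v - v ∈ W := by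
      intro v
      rw [← hWp]
      intro w hw
      have h4 := D.inv (s : G) w v
      rw [h1 w hw] at h4
      rw [map_sub, h4, sub_self]
    obtain ⟨j, hj⟩ := hS s
    have hj' : (s : G) ^ 2 ^ j = 1 := congrArg Subtype.val hj
    have h4 : ∀ n : ℕ, ∀ v : V, D.ρ ((s : G) ^ n) v = v + (n : F) • (D.ρ s v - v) := by
      intro n v
      induction n with
      | zero => rw [pow_zero, map_one, Nat.cast_zero, zero_smul, add_zero, Module.End.one_apply]
      | succ n ih =>
        rw [pow_succ', map_mul, Module.End.mul_apply, ih, map_add, map_smul, h1 _ (h3 v), Nat.cast_succ, add_smul,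
          one_smul]
        abel
    apply Subtype.ext
    apply D.inj
    rw [Subgroup.coe_one, map_one]
    refine LinearMap.ext fun v => ?_
    rw [Module.End.one_apply]
    have h5 := h4 (2 ^ j) v
    rw [hj', map_one, Module.End.one_apply, left_eq_add, smul_eq_zero] at h5
    rcases h5 with h5 | h5
    · push_cast at h5
      exact absurd h5 (pow_ne_zero _ h2)
    · exact sub_eq_zero.1 h5
  have : Finite F := Finite.of_fintype F
  have hfin : Finite V := Module.finite_of_finite F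
  let b : Basis (Fin 2) F W := Module.finBasisOfFinrankEq F W hd
  let e : (W →ₗ[F] W)ˣ ≃* (Matrix (Fin 2) (Fin 2) F)ˣ := Units.mapEquiv (LinearMap.toMatrixAlgEquiv b).toMulEquiv
  have h1 : Nat.card S ∣ Nat.card (Matrix (Fin 2) (Fin 2) F)ˣ :=
    Subgroup.card_dvd_of_injective (e.toMonoidHom.comp f) (e.injective.comp hf)
  have h3 := Matrix.card_GL_field (𝔽 := F) 2
  rw [Fin.prod_univ_two, Fin.val_zero, Fin.val_one, pow_zero, pow_one] at h3
  rw [← h3]
  exact h1

end Plane

section Line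

variable {F : Type} [Field F] [Fintype F] {q : ℕ}

/-- The stabilizer of a vector. -/
def stabV (u : Fin 2 ⊕ Fin 2 → F) : Subgroup (Matrix.symplecticGroup (Fin 2) F) where
  carrier := {g | (g : Matrix (Fin 2 ⊕ Fin 2) (Fin 2 ⊕ Fin 2) F).mulVec u = u}
  one_mem' := by
    change (1 : Matrix (Fin 2 ⊕ Fin 2) (Fin 2 ⊕ Fin 2) F).mulVec u = u
    rw [Matrix.one_mulVec]
  mul_mem' := fun {a b} ha hb => by
    change ((a * b : Matrix.symplecticGroup (Fin 2) F) : Matrix (Fin 2 ⊕ Fin 2) (Fin 2 ⊕ Fin 2) F).mulVec u = u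
    rw [coe_mul_mulVec, hb, ha]
  inv_mem' := fun {a} ha => by
    change ((a⁻¹ : Matrix.symplecticGroup (Fin 2) F) : Matrix (Fin 2 ⊕ Fin 2) (Fin 2 ⊕ Fin 2) F).mulVec u = u
    nth_rewrite 1 [← ha]
    rw [← coe_mul_mulVec, inv_mul_cancel]
    change (1 : Matrix (Fin 2 ⊕ Fin 2) (Fin 2 ⊕ Fin 2) F).mulVec u = u
    rw [Matrix.one_mulVec]

/-- The order of the stabilizer of a nonzero vector. -/
theorem card_stabV (hF : Fintype.card F = q) {u : Fin 2 ⊕ Fin 2 → F} (hu : u ≠ 0) :
    (q ^ 4 - 1) * Nat.card (stabV u) = Nat.card (Matrix.symplecticGroup (Fin 2) F) := by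
  classical
  let _ : MulAction (Matrix.symplecticGroup (Fin 2) F) (Fin 2 ⊕ Fin 2 → F) :=
    { smul := fun g v => (g : Matrix (Fin 2 ⊕ Fin 2) (Fin 2 ⊕ Fin 2) F).mulVec v
      one_smul := fun v => Matrix.one_mulVec v
      mul_smul := fun a b v => coe_mul_mulVec a b v }
  have h1 : MulAction.stabilizer (Matrix.symplecticGroup (Fin 2) F) u = stabV u := rfl
  have h2 : MulAction.orbit (Matrix.symplecticGroup (Fin 2) F) u = {v | v ≠ 0} := by
    ext v
    constructor
    · rintro ⟨g, rfl⟩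
      exact mulVec_ne_zero g hu
    · intro hv
      obtain ⟨g, -, hg⟩ := exists_transvGroup_mulVec_eq hu hv
      exact ⟨g, hg⟩
  have h3 := MulAction.index_stabilizer (Matrix.symplecticGroup (Fin 2) F) u
  rw [h1, h2] at h3
  have h4 : ({v : Fin 2 ⊕ Fin 2 → F | v ≠ 0}).ncard = q ^ 4 - 1 := by
    have h5 : ({v : Fin 2 ⊕ Fin 2 → F | v ≠ 0}) = ({0} : Set (Fin 2 ⊕ Fin 2 → F))ᶜ := by
      ext v
      simp
    rw [h5, Set.ncard_compl, Set.ncard_singleton, Nat.card_eq_fintype_card, Fintype.card_fun, hF]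
    rfl
  rw [h4] at h3
  rw [← h3, mul_comm]
  exact Subgroup.card_mul_index _

/-- The order of a subgroup preserving a line. -/
theorem card_dvd_of_line (hF : Fintype.card F = q) {K : Subgroup (Matrix.symplecticGroup (Fin 2) F)}
    {u : Fin 2 ⊕ Fin 2 → F} (hu : u ≠ 0)
    (hK : ∀ g ∈ K, ∃ c : F, (g : Matrix (Fin 2 ⊕ Fin 2) (Fin 2 ⊕ Fin 2) F).mulVec u = c • u) :
    Nat.card K ∣ (q - 1) * (q ^ 4 * (q ^ 2 - 1)) := by
  classical
  choose! c hc using hK
  have hinj : ∀ a b : F, a • u = b • u → a = b := fun a b h => smul_left_injective F hu h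
  have hmul : ∀ g ∈ K, ∀ h ∈ K, c (g * h) = c g * c h := fun g hg h hh => hinj _ _ (by
    rw [← hc _ (K.mul_mem hg hh), coe_mul_mulVec, hc h hh, Matrix.mulVec_smul, hc g hg, smul_smul, mul_comm])
  have hone : c 1 = 1 := hinj _ _ (by
    rw [← hc _ K.one_mem, one_smul]
    exact Matrix.one_mulVec u)
  have hinv : ∀ g ∈ K, c g * c g⁻¹ = 1 := fun g hg => by
    rw [← hmul g hg _ (K.inv_mem hg), mul_inv_cancel, hone]
  let χ : K →* Fˣ :=
    { toFun := fun g => ⟨c g, c (g : Matrix.symplecticGroup (Fin 2) F)⁻¹, hinv _ g.2, by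
        rw [mul_comm]; exact hinv _ g.2⟩
      map_one' := Units.ext hone
      map_mul' := fun g h => Units.ext (hmul g g.2 h h.2) }
  have hker : Nat.card χ.ker ∣ Nat.card (stabV u) := by
    have h1 : ∀ g : χ.ker, ((g : K) : Matrix.symplecticGroup (Fin 2) F) ∈ stabV u := by
      intro g
      have h2 : c (g : K) = 1 := congrArg Units.val g.2
      change ((g : K) : Matrix (Fin 2 ⊕ Fin 2) (Fin 2 ⊕ Fin 2) F).mulVec u = u
      rw [hc _ (g : K).2, h2, one_smul]
    let φ : χ.ker →* stabV u :=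
      { toFun := fun g => ⟨_, h1 g⟩
        map_one' := rfl
        map_mul' := fun _ _ => rfl }
    refine Subgroup.card_dvd_of_injective φ ?_
    intro a b hab
    exact Subtype.ext (Subtype.ext (congrArg (fun t : stabV u => (t : Matrix.symplecticGroup (Fin 2) F)) hab))
  have hrange : Nat.card χ.range ∣ q - 1 := by
    have h1 := Subgroup.card_subgroup_dvd_card χ.range
    rwa [Nat.card_eq_fintype_card (α := Fˣ), Fintype.card_units, hF] at h1
  have h1 : Nat.card K = Nat.card χ.range * Nat.card χ.ker := by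
    rw [← Subgroup.card_mul_index χ.ker, Subgroup.index_ker, mul_comm]
  have hq : 1 < q := hF ▸ Fintype.one_lt_card
  have h4 : 0 < q ^ 4 - 1 := by
    have := Nat.one_lt_pow (n := 4) (by norm_num) hq
    omega
  have h2 : Nat.card (stabV u) = q ^ 4 * (q ^ 2 - 1) := by
    have h3 := card_stabV hF hu
    rw [card_sp4 hF] at h3
    refine Nat.eq_of_mul_eq_mul_left h4 ?_
    rw [h3]
    ring
  rw [h1, ← h2]
  exact Nat.mul_dvd_mul hrange hker

/-- **The bound for the `2`-part** of a solvable subgroup whose order is divisible by `p ^ 4`. -/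
theorem factorization_two_le_of_pow_four {p : ℕ} (hp : p.Prime) (hF : Fintype.card F = p) (h5 : 5 ≤ p)
    (K : Subgroup (Matrix.symplecticGroup (Fin 2) F)) (hK : Group.IsSolvable K) (hpK : p ^ 4 ∣ Nat.card K) :
    (Nat.card K).factorization 2 ≤ ((p - 1) * (p ^ 4 * (p ^ 2 - 1))).factorization 2 := by
  have hf2 : Fact (Nat.Prime 2) := ⟨Nat.prime_two⟩
  have hpos : (p - 1) * (p ^ 4 * (p ^ 2 - 1)) ≠ 0 := by
    have h1 : 1 < p ^ 2 := Nat.one_lt_pow (by norm_num) (by omega)
    have h2 : 0 < p ^ 4 := by positivity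
    exact (Nat.mul_pos (by omega) (Nat.mul_pos h2 (by omega))).ne'
  obtain ⟨u, hu0, hu⟩ := exists_transv_mem hp hF K hpK
  set W : Submodule F (Fin 2 ⊕ Fin 2 → F) := Submodule.span F (Set.range fun g : K =>
    ((g : Matrix.symplecticGroup (Fin 2) F) : Matrix (Fin 2 ⊕ Fin 2) (Fin 2 ⊕ Fin 2) F).mulVec u) with hWdef
  have hgu : ∀ g ∈ K, (g : Matrix (Fin 2 ⊕ Fin 2) (Fin 2 ⊕ Fin 2) F).mulVec u ∈ W := fun g hg =>
    Submodule.subset_span ⟨⟨g, hg⟩, rfl⟩
  have huW : u ∈ W := by
    have := hgu 1 K.one_mem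
    change (1 : Matrix (Fin 2 ⊕ Fin 2) (Fin 2 ⊕ Fin 2) F).mulVec u ∈ W at this
    rwa [Matrix.one_mulVec] at this
  have hWK : ∀ g ∈ K, ∀ w ∈ W, (spDat F).ρ g w ∈ W := by
    intro g hg w hw
    have h1 : W ≤ W.comap ((spDat F).ρ g) := by
      rw [hWdef, Submodule.span_le]
      rintro _ ⟨h, rfl⟩
      change (g : Matrix (Fin 2 ⊕ Fin 2) (Fin 2 ⊕ Fin 2) F).mulVec _ ∈ W
      rw [← coe_mul_mulVec]
      exact hgu _ (K.mul_mem hg h.2)
    exact h1 hw
  have hiso0 : ∀ g ∈ K, ∀ h ∈ K, sympForm 2 F ((g : Matrix (Fin 2 ⊕ Fin 2) (Fin 2 ⊕ Fin 2) F).mulVec u)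
      ((h : Matrix (Fin 2 ⊕ Fin 2) (Fin 2 ⊕ Fin 2) F).mulVec u) = 0 := by
    intro g hg h hh
    refine sympForm_eq_zero hp hF (by omega) hK ?_ ?_
    · rw [← conj_transv]
      exact K.mul_mem (K.mul_mem hg hu) (K.inv_mem hg)
    · rw [← conj_transv]
      exact K.mul_mem (K.mul_mem hh hu) (K.inv_mem hh)
  have hiso : ∀ v ∈ W, ∀ w ∈ W, (spDat F).B v w = 0 := by
    intro v hv w hw
    induction hv using Submodule.span_induction with
    | mem v hv =>
      obtain ⟨g, rfl⟩ := hv
      induction hw using Submodule.span_induction with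
      | mem w hw =>
        obtain ⟨h, rfl⟩ := hw
        exact hiso0 g g.2 h h.2
      | zero => rw [map_zero]
      | add a b _ _ ha hb => rw [map_add, ha, hb, add_zero]
      | smul c a _ ha => rw [map_smul, ha, smul_zero]
    | zero => rw [map_zero, LinearMap.zero_apply]
    | add a b _ _ ha hb => rw [map_add, LinearMap.add_apply, ha, hb, add_zero]
    | smul c a _ ha => rw [map_smul, LinearMap.smul_apply, ha, smul_zero]
  have hle : finrank F W ≤ 2 := by
    have h1 : W ≤ (spDat F).perp W := fun v hv w hw => hiso w hw v hv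
    have h2 := Submodule.finrank_mono h1
    rw [(spDat F).finrank_perp] at h2
    omega
  have hge : 1 ≤ finrank F W := by
    by_contra hcon
    have h1 : finrank F W = 0 := by omega
    rw [Submodule.finrank_eq_zero] at h1
    rw [h1, Submodule.mem_bot] at huW
    exact hu0 huW
  rcases (show finrank F W = 1 ∨ finrank F W = 2 by omega) with hd | hd
  · -- a line
    have h1 : ∀ w ∈ W, ∃ c : F, w = c • u := by
      intro w hw
      obtain ⟨c, hc⟩ := (finrank_eq_one_iff_of_nonzero' (⟨u, huW⟩ : W) (fun h => hu0 (congrArg Subtype.val h))).1 hd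
        ⟨w, hw⟩
      exact ⟨c, (congrArg Subtype.val hc).symm⟩
    have h2 := card_dvd_of_line hF (K := K) hu0 fun g hg => h1 _ (hgu g hg)
    exact (Nat.factorization_le_iff_dvd Nat.card_pos.ne' hpos).2 h2 2
  · -- a plane
    obtain ⟨S⟩ : Nonempty (Sylow 2 K) := inferInstance
    have h2F : (2 : F) ≠ 0 := by
      have h := Cfsg.Agent.H518.DghpSep.cast_ne_zero_of_not_dvd (F := F) Nat.prime_two (by
        rw [hF]
        intro h
        have := (Nat.prime_dvd_prime_iff_eq Nat.prime_two hp).1 h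
        omega)
      exact_mod_cast h
    have h1 := (spDat F).card_dvd_of_plane h2F (S := (S : Subgroup K).map K.subtype) (S.isPGroup'.map _)
      (W := W) (by
        rintro _ ⟨g, _, rfl⟩ w hw
        exact hWK _ g.2 w hw) hd hiso
    rw [Subgroup.card_map_of_injective K.subtype_injective, hF] at h1
    have h3 : (p ^ 2 - 1) * (p ^ 2 - p) ∣ (p - 1) * (p ^ 4 * (p ^ 2 - 1)) := by
      have h4 : p ^ 2 - p = p * (p - 1) := by rw [Nat.mul_sub, mul_one, pow_two]
      rw [h4]
      exact ⟨p ^ 3, by ring⟩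
    have h4 := (Nat.factorization_le_iff_dvd Nat.card_pos.ne' hpos).2 (h1.trans h3) 2
    refine le_trans (le_of_eq ?_) h4
    rw [S.card_eq_multiplicity, Nat.prime_two.factorization_pow, Finsupp.single_eq_same]

end Line

end Cfsg.Agent.H183.NF4
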