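import Mathlib
import Cfsg.Agent.H198.NFCrit
import Cfsg.Agent.S0814
import Cfsg.Agent.S0270
import Cfsg.Agent.H183.NfArith
import Cfsg.Agent.H183.NfPar

/-!
# S5773: the row `PSp_4(q)`, `q ≥ 4` (helper183)
-/

set_option autoImplicit false

namespace Cfsg.Agent.H183.NF4

open Module Cfsg.Agent.H518.DghpFix Cfsg.Agent.H518.DghpSep Cfsg.Agent.H518.Dghp Cfsg.Agent.H518.DghpMat
  Cfsg.Agent.H518.DghpPrim Cfsg.Agent.H176.NF Cfsg.Agent.H198.NFC

universe u

section Quot

variable {G : Type u} [Group G] [Finite G] (Z : Subgroup G) [Z.Normal]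

theorem card_comap_mk' (M : Subgroup (G ⧸ Z)) :
    Nat.card ↥(M.comap (QuotientGroup.mk' Z)) = Nat.card Z * Nat.card M := by
  have h2 := Subgroup.card_mul_index (M.comap (QuotientGroup.mk' Z))
  have h3 := Subgroup.card_mul_index M
  have h4 := Subgroup.card_mul_index Z
  rw [Subgroup.index_comap_of_surjective _ (QuotientGroup.mk'_surjective Z)] at h2
  have h5 : 0 < M.index := Nat.pos_of_ne_zero Subgroup.index_ne_zero_of_finite
  refine Nat.eq_of_mul_eq_mul_right h5 ?_
  rw [h2, mul_assoc, h3, ← h4]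
  rfl

omit [Finite G] in
theorem solvable_comap_mk' (hZ : Group.IsSolvable Z) (M : Subgroup (G ⧸ Z)) (hM : Group.IsSolvable M) :
    Group.IsSolvable ↥(M.comap (QuotientGroup.mk' Z)) := by
  have hle : Z ≤ M.comap (QuotientGroup.mk' Z) := by
    intro z hz
    rw [Subgroup.mem_comap, QuotientGroup.mk'_apply, (QuotientGroup.eq_one_iff z).2 hz]
    exact M.one_mem
  refine Group.isSolvable_of_ker_le_range (Subgroup.inclusion hle) ((QuotientGroup.mk' Z).subgroupComap M) ?_
  rintro ⟨x, hx⟩ hx1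
  have := congrArg Subtype.val (MonoidHom.mem_ker.1 hx1)
  exact ⟨⟨x, (QuotientGroup.eq_one_iff (x : G)).1 this⟩, rfl⟩

end Quot

section Main

variable {F : Type} [Field F] [Fintype F]

omit [Fintype F] in
theorem center_solvable : Group.IsSolvable ↥(Subgroup.center (Matrix.symplecticGroup (Fin 2) F)) :=
  Group.isSolvable_of_comm fun a b => Subtype.ext ((Subgroup.mem_center_iff.1 b.2) a)

/-- `p`-subgroups normalized by an element of order `r` are trivial. -/
theorem bd_rp (hB : BdOfUnip) {p f r : ℕ} (hp : p.Prime) (hf : 1 ≤ f) (hF : Fintype.card F = p ^ f) (hr : r.Prime)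
    (hrp : r ≠ p) (ho : orderOf ((p ^ f : ℕ) : ZMod r) = 4) :
    Bd (Matrix.symplecticGroup (Fin 2) F) r p (Nat.factorization 4 p) := by
  have h := hB (Matrix.symplecticGroup (Fin 2) F) F (Fin 2 ⊕ Fin 2) (spHom 2 F) (spHom_injective 2 F) r p 4 0 hr hp hrp
    (by rw [hF]; exact not_dvd_of_orderOf hr ho (by omega)) (by rw [hF, ho]) (by simp) (by
      intro x hx U hU hxU
      have hpF : p ∣ Fintype.card F := by
        rw [hF]
        exact dvd_pow_self p (by omega)
      have h1 : (spDat F).fixU U = ⊤ := by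
        refine ((spDat F).irr_of_order hr (by rw [hF]; exact ho) hx _ (Dat.fixU_invariant ?_)).resolve_left ?_
        · intro u hu
          have h3 := (Subgroup.mem_normalizer_iff.1 (Subgroup.inv_mem _ hxU) u).1 hu
          rwa [inv_inv] at h3
        · intro hbot
          obtain ⟨v, -, hv0, hvU⟩ := (spDat F).exists_fixed hp hpF hU ⊤ (fun _ _ _ _ => trivial) (by
            intro hb
            have h1 : finrank F (⊤ : Submodule F (Fin 2 ⊕ Fin 2 → F)) = 4 := by rw [finrank_top, (spDat F).dim]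
            rw [hb, finrank_bot] at h1
            omega)
          have h1 : v ∈ (spDat F).fixU U := hvU
          rw [hbot, Submodule.mem_bot] at h1
          exact hv0 h1
      rw [Dat.eq_bot_of_fixU h1, Subgroup.card_bot]
      simp)
  rwa [zero_add] at h

/-- Numerical data of `T = PSp_4(q)`. -/
structure Num (F : Type) [Field F] [Fintype F] (p f : ℕ) : Prop where
  out : outN (Cfsg.PSp 2 F) = 2 * f
  cen : Nat.card (Subgroup.center (Matrix.symplecticGroup (Fin 2) F)) ∣ 2
  cen' : Nat.card (Subgroup.center (Matrix.symplecticGroup (Fin 2) F)) = Nat.gcd 2 (p ^ f - 1)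
  card : Nat.card (Matrix.symplecticGroup (Fin 2) F) =
    Nat.card (Cfsg.PSp 2 F) * Nat.card (Subgroup.center (Matrix.symplecticGroup (Fin 2) F))
  inj : Function.Injective (MulAut.conj : Cfsg.PSp 2 F →* MulAut (Cfsg.PSp 2 F))

theorem num {p f : ℕ} (hp : p.Prime) (hf : 1 ≤ f) (hF : Fintype.card F = p ^ f) (h4 : 4 ≤ p ^ f) : Num F p f := by
  have hpF := Fact.mk hp
  have hcen := Cfsg.Agent.S0246.result hF 2 (by omega)
  have hsimple : IsSimpleGroup (Cfsg.PSp 2 F) := Cfsg.Agent.S0270.result 2 (by omega) (fun _ => by omega)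
  have hAut := Cfsg.Agent.S0814.result (F := F) p f hf hF 2 (by omega) (fun _ => by omega)
  have hcard := Subgroup.card_eq_card_quotient_mul_card_subgroup (Subgroup.center (Matrix.symplecticGroup (Fin 2) F))
  -- two primes
  obtain ⟨r, hr, he, hfr, hrp⟩ := ppd (p := p) (f := f) (n := 4) hp hf (by omega) (by omega)
  have hrG : r ∣ Nat.card (Matrix.symplecticGroup (Fin 2) F) :=
    (dvd_pow_sub_one (by omega) he).trans (pow_sub_one_dvd_card_Sp hF (j := 2) (by omega) le_rfl)
  have hrT : r ∣ Nat.card (Cfsg.PSp 2 F) := dvd_card_quot_center hr hrG (by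
    rw [hcen]
    exact fun h => not_dvd_pred (by omega) he (by omega) (h.trans (Nat.gcd_dvd_right _ _)))
  have hpT : p ∣ Nat.card (Cfsg.PSp 2 F) := by
    refine dvd_card_quot_center hp ?_ ?_
    · rw [card_sp4 hF]
      exact Dvd.dvd.mul_right (dvd_pow (dvd_pow_self p (by omega)) (by norm_num)) _
    · rw [hcen]
      intro h
      have h1 : p ∣ p ^ f - 1 := h.trans (Nat.gcd_dvd_right _ _)
      have h3 : p ∣ p ^ f := dvd_pow_self p (by omega)
      have h5 : p ∣ p ^ f - (p ^ f - 1) := Nat.dvd_sub h3 h1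
      rw [Nat.sub_sub_self (by omega)] at h5
      exact hp.one_lt.ne' (Nat.dvd_one.1 h5)
  have hc : Subgroup.center (Cfsg.PSp 2 F) = ⊥ := center_eq_bot_of_two hr hp hrp hrT hpT
  have hnum : (if 2 = 2 ∧ p = 2 then 2 else 1) * Nat.gcd 2 (p ^ f - 1) = 2 := by
    by_cases h2 : p = 2
    · subst h2
      rw [if_pos ⟨rfl, rfl⟩]
      have h1 : Nat.gcd 2 (2 ^ f - 1) = 1 := by
        rw [← Nat.Coprime, Nat.Prime.coprime_iff_not_dvd Nat.prime_two]
        intro h
        have h3 : 2 ∣ 2 ^ f := dvd_pow_self 2 (by omega)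
        omega
      rw [h1]
    · rw [if_neg (fun h => h2 h.2), one_mul]
      have h1 : 2 ∣ p ^ f - 1 := by
        obtain ⟨m, hm⟩ := (hp.odd_of_ne_two h2).pow (n := f)
        exact ⟨m, by omega⟩
      exact Nat.gcd_eq_left h1
  rw [hnum] at hAut
  refine ⟨Cfsg.Agent.H484.SylNorm.index_of_card hc hAut, ?_, ?_, ?_, conj_injective hc⟩
  · rw [hcen]
    exact Nat.gcd_dvd_left _ _
  · rw [hcen]
  · exact hcard

section Cases

variable {p f : ℕ} (hp : p.Prime) (hf : 1 ≤ f) (hF : Fintype.card F = p ^ f) (h4 : 4 ≤ p ^ f) (hN : Num F p f)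

include hN

/-- The inequality of the parts. -/
theorem num_le (hf : 1 ≤ f) {H K : Subgroup (Cfsg.PSp 2 F)}
    (h : Nat.card (Cfsg.PSp 2 F) ∣ Nat.card H * Nat.card K * outN (Cfsg.PSp 2 F)) (t : ℕ) :
    (Nat.card (Cfsg.PSp 2 F)).factorization t ≤ (Nat.card H).factorization t + (Nat.card K).factorization t +
      (2 * f).factorization t := by
  have hfin : Finite (Cfsg.PSp 2 F) := inferInstanceAs (Finite (Matrix.symplecticGroup (Fin 2) F ⧸ _))
  rw [hN.out] at h
  have h1 := (Nat.factorization_le_iff_dvd Nat.card_pos.ne'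
    (mul_ne_zero (mul_ne_zero Nat.card_pos.ne' Nat.card_pos.ne') (by omega))).2 h t
  rwa [Nat.factorization_mul (mul_ne_zero Nat.card_pos.ne' Nat.card_pos.ne') (by omega),
    Nat.factorization_mul Nat.card_pos.ne' Nat.card_pos.ne', Finsupp.add_apply, Finsupp.add_apply] at h1

theorem fac_G (t : ℕ) : (Nat.card (Matrix.symplecticGroup (Fin 2) F)).factorization t =
    (Nat.card (Cfsg.PSp 2 F)).factorization t +
      (Nat.card (Subgroup.center (Matrix.symplecticGroup (Fin 2) F))).factorization t := by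
  have hfin : Finite (Cfsg.PSp 2 F) := inferInstanceAs (Finite (Matrix.symplecticGroup (Fin 2) F ⧸ _))
  rw [hN.card, Nat.factorization_mul Nat.card_pos.ne' Nat.card_pos.ne', Finsupp.add_apply]

theorem fac_Z {t : ℕ} (ht : t ≠ 2) :
    (Nat.card (Subgroup.center (Matrix.symplecticGroup (Fin 2) F))).factorization t = 0 := by
  have h1 := (Nat.factorization_le_iff_dvd Nat.card_pos.ne' two_ne_zero).2 hN.cen t
  rw [Nat.prime_two.factorization, Finsupp.single_eq_of_ne ht] at h1
  omega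

include hp hf h4

theorem fac_Z_p : (Nat.card (Subgroup.center (Matrix.symplecticGroup (Fin 2) F))).factorization p = 0 := by
  rw [Nat.factorization_eq_zero_of_not_dvd]
  rw [hN.cen']
  intro h
  have h1 : p ∣ p ^ f - 1 := h.trans (Nat.gcd_dvd_right _ _)
  have h3 : p ∣ p ^ f := dvd_pow_self p (by omega)
  have h5 : p ∣ p ^ f - (p ^ f - 1) := Nat.dvd_sub h3 h1
  rw [Nat.sub_sub_self (by omega)] at h5
  exact hp.one_lt.ne' (Nat.dvd_one.1 h5)

include hF

theorem fac_T_p : (Nat.card (Cfsg.PSp 2 F)).factorization p = 4 * f := by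
  have h1 := fac_G hN p
  rw [fac_Z_p hp hf h4 hN, add_zero] at h1
  rw [← h1, card_sp4 hF]
  have h3 : ¬ p ∣ ((p ^ f) ^ 2 - 1) * ((p ^ f) ^ 4 - 1) := by
    intro h
    have key : ∀ n, n ≠ 0 → ¬ p ∣ (p ^ f) ^ n - 1 := by
      intro n hn h
      have h4 : p ∣ (p ^ f) ^ n := dvd_pow (dvd_pow_self p (by omega)) hn
      have h5 : 1 ≤ (p ^ f) ^ n := Nat.one_le_pow _ _ (by positivity)
      have h6 := (Nat.dvd_sub h4 h)
      rw [Nat.sub_sub_self h5] at h6
      exact hp.one_lt.ne' (Nat.dvd_one.1 h6)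
    rcases (Nat.Prime.dvd_mul hp).1 h with h | h
    · exact key 2 (by norm_num) h
    · exact key 4 (by norm_num) h
  have h5 : (p ^ f) ^ 4 ≠ 0 := pow_ne_zero _ (pow_ne_zero _ hp.ne_zero)
  have h6 : ((p ^ f) ^ 4).factorization p = 4 * f := by
    rw [← pow_mul, hp.factorization_pow, Finsupp.single_eq_same, mul_comm]
  rw [Nat.factorization_mul h5 (fun h0 => h3 (by rw [h0]; exact dvd_zero p)),
    Finsupp.add_apply, h6, Nat.factorization_eq_zero_of_not_dvd h3, add_zero]

/-- **Case A**: an odd prime divides `q + 1`. -/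
theorem case_A (hB : BdOfUnip) {r l : ℕ} (hr : r.Prime) (hrp : r ≠ p) (hor : orderOf ((p ^ f : ℕ) : ZMod r) = 4)
    (hl : l.Prime) (hl2 : l ≠ 2) (hlq : l ∣ p ^ f + 1) (H K : Subgroup (Cfsg.PSp 2 F))
    (hH : Group.IsSolvable H) (hK : Group.IsSolvable K)
    (h : Nat.card (Cfsg.PSp 2 F) ∣ Nat.card H * Nat.card K * outN (Cfsg.PSp 2 F)) (hrH : r ∣ Nat.card H) : False := by
  have hfin : Finite (Cfsg.PSp 2 F) := inferInstanceAs (Finite (Matrix.symplecticGroup (Fin 2) F ⧸ _))
  have hol := orderOf_eq_two hl hl2 hlq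
  -- separation
  have hsep : Sep (Cfsg.PSp 2 F) r l := Sep.of_surjective (sep_r_l hF hr hor hl hl2 hol)
    (QuotientGroup.mk' (Subgroup.center _)) (QuotientGroup.mk'_surjective _) (by
      rw [QuotientGroup.ker_mk']
      exact center_solvable)
  have hlH : ¬ l ∣ Nat.card H := fun hd => hsep H hH hrH hd
  -- the `l`-part of `K`
  have h1 := num_le hN hf h l
  have hGl := card_l hF hl hl2 hol
  rw [fac_G hN l, fac_Z hN hl2, add_zero] at hGl
  rw [hGl, Nat.factorization_eq_zero_of_not_dvd hlH, zero_add,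
    Nat.factorization_mul two_ne_zero (by omega), Finsupp.add_apply, Nat.prime_two.factorization,
    Finsupp.single_eq_of_ne hl2, zero_add] at h1
  have h2 := factorization_lt hl hl2 hlq
  have hlK : l ^ ((p ^ f + 1).factorization l + 1) ∣ Nat.card K :=
    (hl.pow_dvd_iff_le_factorization Nat.card_pos.ne').2 (by omega)
  -- the `p`-part of `K`
  have hpF : p ∣ Fintype.card F := by
    rw [hF]
    exact dvd_pow_self p (by omega)
  have hKs := solvable_comap_mk' (Subgroup.center (Matrix.symplecticGroup (Fin 2) F)) center_solvable K hK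
  have hKc := card_comap_mk' (Subgroup.center (Matrix.symplecticGroup (Fin 2) F)) K
  have h3 := (spDat F).pow_factorization_le hl (by rw [hF]; exact hol) hp hpF (l_comm hF hl hl2 hol)
    (l_exp hF hl hl2 hol) _ hKs (by
      rw [hKc]
      exact Dvd.dvd.mul_left hlK _)
  rw [hKc, Nat.factorization_mul Nat.card_pos.ne' Nat.card_pos.ne', Finsupp.add_apply,
    fac_Z_p hp hf h4 hN, zero_add] at h3
  -- the `p`-part of `H`
  have h5 := (bd_rp hB hp hf hF hr hrp hor).quot (Subgroup.center (Matrix.symplecticGroup (Fin 2) F))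
    center_solvable H hH hrH
  have h6 : p ^ (Nat.card H).factorization p ≤ 4 := by
    calc p ^ (Nat.card H).factorization p ≤ p ^ Nat.factorization 4 p := Nat.pow_le_pow_right hp.pos h5
      _ ≤ 4 := Nat.le_of_dvd (by norm_num) (Nat.ordProj_dvd 4 p)
  have h7 : p ^ (2 * f).factorization p ≤ 2 * f := Nat.le_of_dvd (by omega) (Nat.ordProj_dvd _ p)
  have h8 := num_le hN hf h p
  rw [fac_T_p hp hf hF h4 hN] at h8
  have h9 : p ^ (4 * f) ≤ 4 * 8 * (2 * f) := by
    calc p ^ (4 * f) ≤ p ^ ((Nat.card H).factorization p + (Nat.card K).factorization p + (2 * f).factorization p) :=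
          Nat.pow_le_pow_right hp.pos h8
      _ = p ^ (Nat.card H).factorization p * p ^ (Nat.card K).factorization p * p ^ (2 * f).factorization p := by
          rw [pow_add, pow_add]
      _ ≤ 4 * 8 * (2 * f) := Nat.mul_le_mul (Nat.mul_le_mul h6 h3) h7
  have h10 : p ^ (4 * f) = (p ^ f) ^ 3 * p ^ f := by
    rw [← pow_mul, ← pow_add]
    congr 1
    ring
  have h11 : 4 ^ 3 ≤ (p ^ f) ^ 3 := Nat.pow_le_pow_left h4 3
  have h12 : f < p ^ f := Nat.lt_pow_self hp.one_lt
  rw [h10] at h9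
  nlinarith

/-- **Case B**: `q + 1` is a power of two. -/
theorem case_B (hB : BdOfUnip) (hnl : ∀ l : ℕ, l.Prime → l ≠ 2 → ¬ l ∣ p ^ f + 1) {r : ℕ} (hr : r.Prime) (hr2 : r ≠ 2)
    (hrq : r ∣ (p ^ f) ^ 2 + 1) (hr16 : 16 < r ^ ((p ^ f) ^ 2 + 1).factorization r)
    (H K : Subgroup (Cfsg.PSp 2 F)) (hH : Group.IsSolvable H) (hK : Group.IsSolvable K)
    (h : Nat.card (Cfsg.PSp 2 F) ∣ Nat.card H * Nat.card K * outN (Cfsg.PSp 2 F)) (hrH : r ∣ Nat.card H) : False := by
  have hfin : Finite (Cfsg.PSp 2 F) := inferInstanceAs (Finite (Matrix.symplecticGroup (Fin 2) F ⧸ _))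
  obtain ⟨hf1, hp2⟩ := eq_one_of_forall hp hf h4 hnl
  subst hf1
  rw [pow_one] at hF h4 hnl hrq hr16
  have hor := orderOf_eq_four hr hr2 hrq
  obtain ⟨a, ha⟩ := eq_two_pow (n := p + 1) (by omega) hnl
  have hodd : Odd p := hp.odd_of_ne_two hp2
  have ha3 : 3 ≤ a := by
    by_contra hcon
    have : 2 ^ a ≤ 2 ^ 2 := Nat.pow_le_pow_right two_pos (by omega)
    omega
  have hp7 : 7 ≤ p := by
    have : 2 ^ 3 ≤ 2 ^ a := Nat.pow_le_pow_right two_pos ha3
    omega
  have hsep' : Sep (Matrix.symplecticGroup (Fin 2) F) r p :=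
    sep_char (matRep (spHom 2 F)) (matRep_injective (spHom_injective _ _)) hr hp
      (by rw [hF]; exact not_dvd_of_orderOf hr hor (by omega)) (by rw [hF]) (d := 4) (by rw [hF, hor]) finrank_sum_fin
      (by norm_num) (fun h => hp2 ((Nat.prime_dvd_prime_iff_eq hp Nat.prime_two).1
        (hp.dvd_of_dvd_pow (show p ∣ 2 ^ 2 from h))))
  have hsep : Sep (Cfsg.PSp 2 F) r p := Sep.of_surjective hsep'
    (QuotientGroup.mk' (Subgroup.center _)) (QuotientGroup.mk'_surjective _) (by
      rw [QuotientGroup.ker_mk']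
      exact center_solvable)
  have hpH : ¬ p ∣ Nat.card H := fun hd => hsep H hH hrH hd
  -- the `p`-part of `K`
  have h1 := num_le hN le_rfl h p
  rw [fac_T_p hp le_rfl (by rw [pow_one]; exact hF) (by rw [pow_one]; exact h4) hN,
    Nat.factorization_eq_zero_of_not_dvd hpH, zero_add, mul_one, mul_one, Nat.prime_two.factorization,
    Finsupp.single_eq_of_ne hp2, add_zero] at h1
  have hpK : p ^ 4 ∣ Nat.card K := (hp.pow_dvd_iff_le_factorization Nat.card_pos.ne').2 h1
  have hrK : ¬ r ∣ Nat.card K := fun hd => hsep K hK hd ((dvd_pow_self p (by norm_num)).trans hpK)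
  -- the `r`-part of `H`
  have h2 := num_le hN le_rfl h r
  have hGr := card_r hF hr hor
  rw [fac_G hN r, fac_Z hN hr2, add_zero] at hGr
  rw [hGr, Nat.factorization_eq_zero_of_not_dvd hrK, add_zero, mul_one, Nat.prime_two.factorization,
    Finsupp.single_eq_of_ne hr2, add_zero] at h2
  have hrH' : r ^ (p ^ 2 + 1).factorization r ∣ Nat.card H := (hr.pow_dvd_iff_le_factorization Nat.card_pos.ne').2 h2
  -- the `2`-parts
  have hHs := solvable_comap_mk' (Subgroup.center (Matrix.symplecticGroup (Fin 2) F)) center_solvable H hH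
  have hHc := card_comap_mk' (Subgroup.center (Matrix.symplecticGroup (Fin 2) F)) H
  have hKs := solvable_comap_mk' (Subgroup.center (Matrix.symplecticGroup (Fin 2) F)) center_solvable K hK
  have hKc := card_comap_mk' (Subgroup.center (Matrix.symplecticGroup (Fin 2) F)) K
  have hZ1 : (Nat.card (Subgroup.center (Matrix.symplecticGroup (Fin 2) F))).factorization 2 = 1 := by
    rw [hN.cen', pow_one, Nat.gcd_eq_left (by
      obtain ⟨m, hm⟩ := hodd
      exact ⟨m, by omega⟩), Nat.prime_two.factorization, Finsupp.single_eq_same]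
  have h5 := factorization_two_le hB hF hodd hr hor hr16 _ hHs (by
    rw [hHc]
    exact Dvd.dvd.mul_left hrH' _)
  have h6 := factorization_two_le_of_pow_four hp hF (by omega) _ hKs (by
    rw [hKc]
    exact Dvd.dvd.mul_left hpK _)
  rw [hHc, Nat.factorization_mul Nat.card_pos.ne' Nat.card_pos.ne', Finsupp.add_apply, hZ1] at h5
  rw [hKc, Nat.factorization_mul Nat.card_pos.ne' Nat.card_pos.ne', Finsupp.add_apply, hZ1] at h6
  have h7 := num_le hN le_rfl h 2
  have h8 := fac_G hN 2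
  rw [card_sp4 hF, hZ1] at h8
  -- numbers
  have hpm1 : p - 1 ≠ 0 := by omega
  have hv1 : (p - 1).factorization 2 = 1 := by
    have h9 : p - 1 = 2 * (2 ^ (a - 1) - 1) := by
      have h10 : 2 ^ a = 2 * 2 ^ (a - 1) := by
        rw [← pow_succ']
        congr 1
        omega
      omega
    have h10 : 2 ^ 2 ≤ 2 ^ (a - 1) := Nat.pow_le_pow_right two_pos (by omega)
    have h11 : ¬ 2 ∣ 2 ^ (a - 1) - 1 := by
      intro hd
      have h12 : 2 ∣ 2 ^ (a - 1) := dvd_pow_self 2 (by omega)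
      omega
    rw [h9, Nat.factorization_mul two_ne_zero (by omega), Finsupp.add_apply, Nat.prime_two.factorization,
      Finsupp.single_eq_same, Nat.factorization_eq_zero_of_not_dvd h11]
  have hv2 : (p + 1).factorization 2 = a := by
    rw [ha, Nat.prime_two.factorization_pow, Finsupp.single_eq_same]
  have hv3 : (p ^ 2 + 1).factorization 2 = 1 := by
    obtain ⟨m, hm⟩ := hodd
    have h9 : p ^ 2 + 1 = 2 * (2 * (m ^ 2 + m) + 1) := by rw [hm]; ring
    rw [h9, Nat.factorization_mul two_ne_zero (by omega), Finsupp.add_apply, Nat.prime_two.factorization,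
      Finsupp.single_eq_same, Nat.factorization_eq_zero_of_not_dvd (by omega)]
  have hs2 : p ^ 2 - 1 = (p - 1) * (p + 1) := by
    have := Nat.sq_sub_sq p 1
    rw [one_pow] at this
    rw [this, mul_comm]
  have hs4 : p ^ 4 - 1 = (p ^ 2 - 1) * (p ^ 2 + 1) := by
    have h9 := Nat.sq_sub_sq (p ^ 2) 1
    rw [one_pow, ← pow_mul] at h9
    rw [h9, mul_comm]
  have hp0 : p ^ 4 ≠ 0 := pow_ne_zero _ hp.ne_zero
  have hs20 : p ^ 2 - 1 ≠ 0 := by
    rw [hs2]
    exact mul_ne_zero hpm1 (by omega)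
  have hs40 : p ^ 4 - 1 ≠ 0 := by
    rw [hs4]
    exact mul_ne_zero hs20 (by omega)
  have hvp : (p ^ 4).factorization 2 = 0 := Nat.factorization_eq_zero_of_not_dvd (fun hd => by
    have := (Nat.prime_dvd_prime_iff_eq Nat.prime_two hp).1 (Nat.prime_two.dvd_of_dvd_pow hd)
    omega)
  have hv4 : (p ^ 2 - 1).factorization 2 = a + 1 := by
    rw [hs2, Nat.factorization_mul hpm1 (by omega), Finsupp.add_apply, hv1, hv2, add_comm]
  have hv5 : (p ^ 4 - 1).factorization 2 = a + 2 := by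
    rw [hs4, Nat.factorization_mul hs20 (by omega), Finsupp.add_apply, hv4, hv3]
  rw [Nat.factorization_mul hp0 (mul_ne_zero hs20 hs40), Nat.factorization_mul hs20 hs40, Finsupp.add_apply,
    Finsupp.add_apply, hvp, hv4, hv5] at h8
  rw [Nat.factorization_mul hpm1 (mul_ne_zero hp0 hs20), Nat.factorization_mul hp0 hs20, Finsupp.add_apply,
    Finsupp.add_apply, hvp, hv4, hv1] at h6
  rw [mul_one, Nat.prime_two.factorization, Finsupp.single_eq_same] at h7
  have h5' : 1 + (Nat.card H).factorization 2 ≤ 3 := h5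
  have h6' : 1 + (Nat.card K).factorization 2 ≤ 1 + (0 + (a + 1)) := h6
  omega

end Cases

/-- **The row `PSp_4(q)` of S5773**, `q ≥ 4`. -/
theorem psp4 (hB : BdOfUnip) (F : Type) [Field F] [Fintype F] (h4 : 4 ≤ Fintype.card F) : NF (Cfsg.PSp 2 F) := by
  obtain ⟨p, f, hp, hf, hF⟩ : ∃ p f : ℕ, p.Prime ∧ 1 ≤ f ∧ Fintype.card F = p ^ f := by
    obtain ⟨p, hp⟩ := CharP.exists F
    obtain ⟨n, hprime, hcard⟩ := FiniteField.card F p
    exact ⟨p, n, hprime, n.2, hcard⟩
  rw [hF] at h4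
  have hN := num hp hf hF h4
  have hfin : Finite (Cfsg.PSp 2 F) := inferInstanceAs (Finite (Matrix.symplecticGroup (Fin 2) F ⧸ _))
  refine NF0.nf hN.inj ?_
  -- the two orders
  have key : ∀ r : ℕ, r.Prime → r ∣ Nat.card (Cfsg.PSp 2 F) → ¬ r ∣ 2 * f →
      (∀ H K : Subgroup (Cfsg.PSp 2 F), Group.IsSolvable H → Group.IsSolvable K →
        Nat.card (Cfsg.PSp 2 F) ∣ Nat.card H * Nat.card K * outN (Cfsg.PSp 2 F) → r ∣ Nat.card H → False) →
      NF0 (Cfsg.PSp 2 F) := by
    intro r hr hrT hrf hmain H K hH hK h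
    rcases dvd_or hr hrT (by rw [hN.out]; exact hrf) h with h1 | h1
    · exact hmain H K hH hK h h1
    · refine hmain K H hK hH ?_ h1
      rwa [mul_comm (Nat.card K)]
  have hrT : ∀ r : ℕ, r.Prime → orderOf ((p ^ f : ℕ) : ZMod r) = 4 → r ∣ Nat.card (Cfsg.PSp 2 F) := by
    intro r hr hor
    refine dvd_card_quot_center hr ((dvd_pow_sub_one (by omega) hor).trans
      (pow_sub_one_dvd_card_Sp hF (j := 2) (by omega) le_rfl)) ?_
    rw [hN.cen']
    exact fun h => not_dvd_pred (by omega) hor (by omega) (h.trans (Nat.gcd_dvd_right _ _))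
  by_cases hex : ∃ l : ℕ, l.Prime ∧ l ≠ 2 ∧ l ∣ p ^ f + 1
  · obtain ⟨l, hl, hl2, hlq⟩ := hex
    obtain ⟨r, hr, he, hfr, hrp⟩ := ppd (p := p) (f := f) (n := 4) hp hf (by omega) (by omega)
    refine key r hr (hrT r hr he) (fun h => ?_) fun H K hH hK h hrH =>
      case_A hp hf hF h4 hN hB hr hrp he hl hl2 hlq H K hH hK h hrH
    have := Nat.le_of_dvd (by omega) h
    omega
  · push Not at hex
    obtain ⟨hf1, hp2⟩ := eq_one_of_forall hp hf h4 hex
    obtain ⟨a, ha⟩ := eq_two_pow (n := p ^ f + 1) (by omega) hex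
    have h7 : 7 ≤ p ^ f := by
      have ha3 : 3 ≤ a := by
        by_contra hcon
        have : 2 ^ a ≤ 2 ^ 2 := Nat.pow_le_pow_right two_pos (by omega)
        omega
      have : 2 ^ 3 ≤ 2 ^ a := Nat.pow_le_pow_right two_pos ha3
      omega
    obtain ⟨r, hr, hr2, hrq, hr16⟩ := exists_large h7 ha
    have hor := orderOf_eq_four hr hr2 hrq
    refine key r hr (hrT r hr hor) (fun h => ?_) fun H K hH hK h hrH =>
      case_B hp hf hF h4 hN hB hex hr hr2 hrq hr16 H K hH hK h hrH
    rw [hf1, mul_one] at h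
    exact hr2 ((Nat.prime_dvd_prime_iff_eq hr Nat.prime_two).1 h)

end Main

end Cfsg.Agent.H183.NF4
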