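import Cfsg.Agent.H370.DP.Def
import Cfsg.Agent.Lib.Zsigmondy
import Cfsg.Agent.S0242
import Cfsg.Agent.S0243
import Cfsg.Agent.S0245
import Cfsg.Agent.S0246
import Cfsg.Agent.S0278
import Cfsg.Agent.S0280
import Cfsg.Agent.S0293
import Cfsg.Agent.S0294

/-!
# Orders of `2` modulo the primes dividing the order of a classical group of characteristic `2` (helper183)
-/

set_option autoImplicit false

namespace Cfsg.Agent.H183.BndTwo

open Cfsg Cfsg.Agent.H370.DP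

theorem exists_prime {e : ℕ} (he : 2 ≤ e) (h6 : e ≠ 6) : ∃ p : ℕ, p.Prime ∧ orderOf (2 : ZMod p) = e := by
  obtain ⟨r, hr, h⟩ := Lib.Zsigmondy.exists_prime_orderOf (a := 2) (n := e) le_rfl he (by
    rintro rfl ⟨k, hk⟩
    rcases k with _ | _ | k
    · omega
    · omega
    · rw [pow_add] at hk; omega) (by tauto)
  exact ⟨r, hr, by simpa using h⟩

theorem ne_two_of_order {p e : ℕ} (h : orderOf (2 : ZMod p) = e) (he : 1 ≤ e) : p ≠ 2 := by
  rintro rfl
  have h2 : (2 : ZMod 2) ^ e = 1 := by rw [← h]; exact pow_orderOf_eq_one _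
  have h3 : (2 : ZMod 2) = 0 := by decide
  rw [h3, zero_pow (by omega)] at h2
  exact absurd h2 (by decide)

theorem le_of {n e : ℕ} (hn : 64 ≤ n) {S : Type*} [Group S] (hB : Bnd n S) (he : 2 ≤ e)
    (h : ∀ s : ℕ, s.Prime → s ≠ 2 → orderOf (2 : ZMod s) = e → s ∣ Nat.card S) : e ≤ n := by
  by_cases h6 : e = 6
  · omega
  · obtain ⟨s, hs, ho⟩ := exists_prime he h6
    have hs2 := ne_two_of_order ho (by omega)
    have := hB s hs hs2 (h s hs hs2 ho)
    rwa [ho] at this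

theorem ord_dvd_iff {s k : ℕ} : orderOf (2 : ZMod s) ∣ k ↔ s ∣ 2 ^ k - 1 := by
  rw [orderOf_dvd_iff_pow_eq_one, ← ZMod.natCast_eq_zero_iff, Nat.cast_sub Nat.one_le_two_pow]
  push_cast
  rw [sub_eq_zero]

theorem eq_of {n i k : ℕ} (hi : n < 2 * i) (hd : i ∣ k) (hk : k ≤ n) (hk0 : 0 < k) : k = i := by
  obtain ⟨c, rfl⟩ := hd
  rcases c with _ | _ | c
  · omega
  · omega
  · exfalso
    have : i * 2 ≤ i * (c + 1 + 1) := Nat.mul_le_mul_left i (by omega)
    omega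

theorem pos_f {F : Type*} [Field F] [Fintype F] {f : ℕ} (hF : Fintype.card F = 2 ^ f) : 1 ≤ f := by
  have h := Fintype.one_lt_card (α := F)
  rw [hF] at h
  rcases Nat.eq_zero_or_pos f with rfl | h1
  · norm_num at h
  · exact h1

/-- an odd prime does not divide a power of two -/
theorem not_dvd_two_pow {s k : ℕ} (hs : s.Prime) (h2 : s ≠ 2) : ¬ s ∣ 2 ^ k := fun h =>
  h2 ((Nat.prime_dvd_prime_iff_eq hs Nat.prime_two).1 (hs.dvd_of_dvd_pow h))

/-! ### `PSL` -/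

theorem psl_of_dvd {F : Type*} [Field F] [Fintype F] {f m r : ℕ} (hF : Fintype.card F = 2 ^ f) (hm : 2 ≤ m)
    (hr : r.Prime) (hr2 : r ≠ 2) (hrd : r ∣ Nat.card (Matrix.ProjectiveSpecialLinearGroup (Fin m) F)) :
    ∃ j, 1 ≤ j ∧ j ≤ m ∧ orderOf (2 : ZMod r) ∣ f * j := by
  have h1 := Cfsg.Agent.S0243.result hF m hm
  have h2 : r ∣ ∏ i : Fin m, ((2 ^ f) ^ m - (2 ^ f) ^ (i : ℕ)) := by
    rw [← h1]; exact (hrd.mul_left _).mul_left _
  obtain ⟨i, -, hi⟩ := (Prime.dvd_finsetProd_iff hr.prime _).1 h2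
  have h3 : (2 ^ f) ^ m - (2 ^ f) ^ (i : ℕ) = (2 ^ f) ^ (i : ℕ) * ((2 ^ f) ^ (m - i) - 1) := by
    rw [Nat.mul_sub, ← pow_add, mul_one, Nat.add_sub_cancel' i.2.le]
  rw [h3] at hi
  have := i.2
  rcases (Nat.Prime.dvd_mul hr).1 hi with h4 | h4
  · exact absurd (hr.dvd_of_dvd_pow (hr.dvd_of_dvd_pow h4)) (fun h => hr2 ((Nat.prime_dvd_prime_iff_eq hr Nat.prime_two).1 h))
  · refine ⟨m - i, by omega, by omega, ?_⟩
    rwa [ord_dvd_iff, pow_mul]

theorem dvd_psl {F : Type*} [Field F] [Fintype F] {f m s : ℕ} (hF : Fintype.card F = 2 ^ f) (hm : 2 ≤ m)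
    (hs : s.Prime) (ho : orderOf (2 : ZMod s) = f * m) :
    s ∣ Nat.card (Matrix.ProjectiveSpecialLinearGroup (Fin m) F) := by
  have hf := pos_f hF
  have h1 := Cfsg.Agent.S0243.result hF m hm
  have h2 : s ∣ ∏ i : Fin m, ((2 ^ f) ^ m - (2 ^ f) ^ (i : ℕ)) := by
    refine Dvd.dvd.trans ?_ (Finset.dvd_prod_of_mem _ (Finset.mem_univ (⟨0, by omega⟩ : Fin m)))
    have h3 : s ∣ 2 ^ (f * m) - 1 := ord_dvd_iff.1 (by rw [ho])
    simpa [pow_mul] using h3
  have h3 : ¬ s ∣ 2 ^ f - 1 := by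
    rw [← ord_dvd_iff, ho]
    intro h
    have := Nat.le_of_dvd (by omega) h
    have h4 : f * 2 ≤ f * m := Nat.mul_le_mul_left f hm
    omega
  rw [← h1, hs.dvd_mul, hs.dvd_mul] at h2
  rcases h2 with h | h | h
  · exact absurd (h.trans (Nat.gcd_dvd_right _ _)) h3
  · exact absurd h h3
  · exact h

theorem two_psl {F : Type*} [Field F] [Fintype F] {f m n i r : ℕ} (hF : Fintype.card F = 2 ^ f) (hf : 2 ≤ f) (hm : 2 ≤ m)
    (hn : 64 ≤ n) (hB : Bnd n (Matrix.ProjectiveSpecialLinearGroup (Fin m) F)) (hi : n < 2 * i) (hr : r.Prime) (hr2 : r ≠ 2)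
    (hri : orderOf (2 : ZMod r) = i) (hrd : r ∣ Nat.card (Matrix.ProjectiveSpecialLinearGroup (Fin m) F)) : f ∣ i := by
  have h1 : f * m ≤ n := le_of hn hB (by nlinarith) (fun s hs _ ho => dvd_psl hF hm hs ho)
  obtain ⟨j, hj1, hjm, hj⟩ := psl_of_dvd hF hm hr hr2 hrd
  rw [hri] at hj
  have h2 : f * j ≤ f * m := Nat.mul_le_mul_left f hjm
  have h3 := eq_of hi hj (h2.trans h1) (Nat.mul_pos (by omega) (by omega))
  exact ⟨j, h3.symm⟩

/-! ### `PSU` -/

theorem dvd_fac_iff {r q i : ℕ} (hq : 1 ≤ q) : r ∣ (if Even i then q ^ (i + 1) + 1 else q ^ (i + 1) - 1) ↔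
    (-(q : ZMod r)) ^ (i + 1) = 1 := by
  split_ifs with h
  · rw [h.add_one.neg_pow, ← ZMod.natCast_eq_zero_iff]
    push_cast
    rw [neg_eq_iff_add_eq_zero]
  · rw [Nat.not_even_iff_odd] at h
    rw [h.add_one.neg_pow, ← ZMod.natCast_eq_zero_iff, Nat.cast_sub (Nat.one_le_pow _ _ hq)]
    push_cast
    rw [sub_eq_zero]

theorem two_psu {F : Type*} [Field F] [Fintype F] {f m n i r : ℕ} (hF : Fintype.card F = (2 ^ f) ^ 2) (hm : 3 ≤ m)
    (hn : 64 ≤ n) (hB : Bnd n (Cfsg.PSU m F (2 ^ f))) (hi : n < 2 * i) (hr : r.Prime) (hr2 : r ≠ 2)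
    (hri : orderOf (2 : ZMod r) = i) (hrd : r ∣ Nat.card (Cfsg.PSU m F (2 ^ f))) : Even i := by
  have hf : 1 ≤ f := by
    rcases Nat.eq_zero_or_pos f with rfl | h1
    · have h := Fintype.one_lt_card (α := F)
      rw [hF] at h
      norm_num at h
    · exact h1
  have hq : 1 ≤ 2 ^ f := Nat.one_le_two_pow
  obtain ⟨j0, hj0, hj3, hjm, hmj⟩ : ∃ j0, Odd j0 ∧ 3 ≤ j0 ∧ j0 ≤ m ∧ m ≤ j0 + 1 := by
    rcases Nat.even_or_odd m with h | h
    · obtain ⟨k, hk⟩ := h
      exact ⟨m - 1, ⟨k - 1, by omega⟩, by omega, by omega, by omega⟩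
    · exact ⟨m, h, hm, le_rfl, by omega⟩
  have hcard := Cfsg.Agent.S0280.result hF m (by omega)
  -- the bound
  have h1 : 2 * f * j0 ≤ n := by
    refine le_of hn hB (by nlinarith) (fun s hs hs2 ho => ?_)
    have hfs : Fact s.Prime := ⟨hs⟩
    have hneg : ((2 : ZMod s) ^ f) ^ j0 = -1 := by
      have h2 : (((2 : ZMod s) ^ f) ^ j0) ^ 2 = 1 := by
        rw [← pow_mul, ← pow_mul, show f * (j0 * 2) = 2 * f * j0 by ring, ← ho]
        exact pow_orderOf_eq_one _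
      rw [pow_two] at h2
      rcases mul_self_eq_one_iff.1 h2 with h | h
      · exfalso
        rw [← pow_mul] at h
        have h3 := Nat.le_of_dvd (Nat.mul_pos (by omega) (by omega)) (orderOf_dvd_of_pow_eq_one h)
        rw [ho] at h3
        nlinarith
      · exact h
    have h2 : s ∣ (if Even (j0 - 1) then (2 ^ f) ^ (j0 - 1 + 1) + 1 else (2 ^ f) ^ (j0 - 1 + 1) - 1) := by
      rw [dvd_fac_iff hq, show j0 - 1 + 1 = j0 by omega, hj0.neg_pow]
      push_cast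
      rw [hneg, neg_neg]
    have h3 : ¬ s ∣ 2 ^ f + 1 := by
      intro h
      have h4 : ((2 : ZMod s) ^ f) = -1 := by
        rw [← ZMod.natCast_eq_zero_iff] at h
        push_cast at h
        exact eq_neg_of_add_eq_zero_left h
      have h5 : (2 : ZMod s) ^ (f * 2) = 1 := by
        rw [pow_mul, h4]; ring
      have h6 := Nat.le_of_dvd (by omega) (orderOf_dvd_of_pow_eq_one h5)
      rw [ho] at h6
      nlinarith
    have h4 : s ∣ Nat.gcd m (2 ^ f + 1) * ((2 ^ f + 1) * Nat.card (PSU m F (2 ^ f))) := by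
      rw [hcard]
      have h5 := Finset.dvd_prod_of_mem (fun i => if Even i then (2 ^ f) ^ (i + 1) + 1 else (2 ^ f) ^ (i + 1) - 1)
        (Finset.mem_range.2 (show j0 - 1 < m by omega))
      exact dvd_mul_of_dvd_right (h2.trans h5) _
    rcases hs.dvd_mul.1 h4 with h | h
    · exact absurd (h.trans (Nat.gcd_dvd_right _ _)) h3
    · exact (hs.dvd_mul.1 h).resolve_left h3
  have hfr : Fact r.Prime := ⟨hr⟩
  have h2 : r ∣ (2 ^ f) ^ (m * (m - 1) / 2) *
      ∏ i ∈ Finset.range m, (if Even i then (2 ^ f) ^ (i + 1) + 1 else (2 ^ f) ^ (i + 1) - 1) := by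
    rw [← hcard]; exact (hrd.mul_left _).mul_left _
  rcases hr.dvd_mul.1 h2 with h | h
  · exact absurd (hr.dvd_of_dvd_pow (hr.dvd_of_dvd_pow h)) (fun h => hr2 ((Nat.prime_dvd_prime_iff_eq hr Nat.prime_two).1 h))
  · obtain ⟨k, hk, h3⟩ := (Prime.dvd_finsetProd_iff hr.prime _).1 h
    rw [Finset.mem_range] at hk
    rw [dvd_fac_iff hq] at h3
    push_cast at h3
    rcases Nat.even_or_odd k with hkk | hkk
    · -- `k + 1` is odd
      rw [hkk.add_one.neg_pow] at h3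
      have h4 : (2 : ZMod r) ^ (2 * f * (k + 1)) = 1 := by
        have h5 : ((2 : ZMod r) ^ f) ^ (k + 1) = -1 := by rw [← h3, neg_neg]
        rw [show 2 * f * (k + 1) = f * (k + 1) * 2 by ring, pow_mul, pow_mul, h5]
        ring
      have h5 := orderOf_dvd_of_pow_eq_one h4
      rw [hri] at h5
      have hk0 : k + 1 ≤ j0 := by
        by_contra hlt
        have : k + 1 = j0 + 1 := by omega
        have h6 : k = j0 := by omega
        rw [h6] at hkk
        exact Nat.not_even_iff_odd.2 hj0 hkk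
      have h6 : 2 * f * (k + 1) ≤ 2 * f * j0 := Nat.mul_le_mul_left _ hk0
      have h7 := eq_of hi h5 (h6.trans h1) (Nat.mul_pos (by omega) (by omega))
      rw [← h7, mul_assoc]
      exact even_two_mul _
    · rw [hkk.add_one.neg_pow] at h3
      have h4 : (2 : ZMod r) ^ (f * (k + 1)) = 1 := by rw [pow_mul, h3]
      have h5 := orderOf_dvd_of_pow_eq_one h4
      rw [hri] at h5
      have h6 : f * (k + 1) ≤ f * (2 * j0) := Nat.mul_le_mul_left _ (by omega)
      have h7 := eq_of hi h5 (h6.trans (by rw [show f * (2 * j0) = 2 * f * j0 by ring]; exact h1))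
        (Nat.mul_pos (by omega) (by omega))
      rw [← h7]
      exact hkk.add_one.mul_left f

/-! ### `PSp` -/

/-- the product `∏ (q^(2j) - 1)` -/
theorem prod_dvd {f m r : ℕ} (hr : r.Prime) (h : r ∣ ∏ i ∈ Finset.range m, ((2 ^ f) ^ (2 * (i + 1)) - 1)) :
    ∃ j, 1 ≤ j ∧ j ≤ m ∧ orderOf (2 : ZMod r) ∣ 2 * f * j := by
  obtain ⟨k, hk, h3⟩ := (Prime.dvd_finsetProd_iff hr.prime _).1 h
  rw [Finset.mem_range] at hk
  refine ⟨k + 1, by omega, by omega, ?_⟩
  rw [ord_dvd_iff, show 2 * f * (k + 1) = f * (2 * (k + 1)) by ring, pow_mul]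
  exact h3

theorem dvd_prod {f m s : ℕ} (hm : 1 ≤ m) (ho : orderOf (2 : ZMod s) = 2 * f * m) :
    s ∣ ∏ i ∈ Finset.range m, ((2 ^ f) ^ (2 * (i + 1)) - 1) := by
  refine Dvd.dvd.trans ?_ (Finset.dvd_prod_of_mem _ (Finset.mem_range.2 (show m - 1 < m by omega)))
  rw [show m - 1 + 1 = m by omega, ← pow_mul, ← ord_dvd_iff, ho]
  exact dvd_of_eq (by ring)

theorem two_psp {F : Type*} [Field F] [Fintype F] {f m n i r : ℕ} (hF : Fintype.card F = 2 ^ f) (hm : 2 ≤ m)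
    (hn : 64 ≤ n) (hB : Bnd n (Cfsg.PSp m F)) (hi : n < 2 * i) (hr : r.Prime) (hr2 : r ≠ 2)
    (hri : orderOf (2 : ZMod r) = i) (hrd : r ∣ Nat.card (Cfsg.PSp m F)) : Even i := by
  have hf := pos_f hF
  have h1 : 2 * f * m ≤ n := by
    refine le_of hn hB (by nlinarith) (fun s hs hs2 ho => ?_)
    have h2 : s ∣ Nat.card (Matrix.symplecticGroup (Fin m) F) := by
      rw [Cfsg.Agent.S0245.result hF m]
      exact (dvd_prod (by omega) ho).mul_left _
    have h3 : Nat.card (Matrix.symplecticGroup (Fin m) F) = Nat.card (PSp m F) *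
        Nat.card (Subgroup.center (Matrix.symplecticGroup (Fin m) F)) :=
      Subgroup.card_eq_card_quotient_mul_card_subgroup _
    rw [h3, Cfsg.Agent.S0246.result hF m (by omega)] at h2
    rcases hs.dvd_mul.1 h2 with h | h
    · exact h
    · exact absurd ((Nat.prime_dvd_prime_iff_eq hs Nat.prime_two).1 (h.trans (Nat.gcd_dvd_left _ _))) hs2
  have h2 : r ∣ Nat.card (Matrix.symplecticGroup (Fin m) F) := hrd.trans (Subgroup.card_quotient_dvd_card _)
  rw [Cfsg.Agent.S0245.result hF m] at h2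
  rcases hr.dvd_mul.1 h2 with h | h
  · exact absurd (hr.dvd_of_dvd_pow (hr.dvd_of_dvd_pow h)) (fun h => hr2 ((Nat.prime_dvd_prime_iff_eq hr Nat.prime_two).1 h))
  · obtain ⟨j, hj1, hjm, hj⟩ := prod_dvd hr h
    rw [hri] at hj
    have h6 : 2 * f * j ≤ 2 * f * m := Nat.mul_le_mul_left _ hjm
    rw [← eq_of hi hj (h6.trans h1) (Nat.mul_pos (by omega) (by omega)), mul_assoc]
    exact even_two_mul _

/-! ### `PΩ` -/

theorem not_dvd_four {s k : ℕ} (hs : s.Prime) (hs2 : s ≠ 2) : ¬ s ∣ Nat.gcd 4 k := by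
  intro h
  have h1 : s ∣ 2 ^ 2 := h.trans (Nat.gcd_dvd_left _ _)
  exact hs2 ((Nat.prime_dvd_prime_iff_eq hs Nat.prime_two).1 (hs.dvd_of_dvd_pow h1))

theorem two_oplus {F : Type*} [Field F] [Fintype F] {f m n i r : ℕ} (hF : Fintype.card F = 2 ^ f) (hm : 4 ≤ m)
    (hn : 64 ≤ n) (hB : Bnd n (Cfsg.POmega F (Cfsg.quadFormPlus m F))) (hi : n < 2 * i) (hr : r.Prime) (hr2 : r ≠ 2)
    (hri : orderOf (2 : ZMod r) = i) (hrd : r ∣ Nat.card (Cfsg.POmega F (Cfsg.quadFormPlus m F))) : Even i ∨ i = f * m := by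
  have hf := pos_f hF
  have hcard := Cfsg.Agent.S0293.result hF m hm
  have h1 : 2 * f * (m - 1) ≤ n := by
    refine le_of hn hB ?_ (fun s hs hs2 ho => ?_)
    · have : 2 * 1 * 1 ≤ 2 * f * (m - 1) := Nat.mul_le_mul (Nat.mul_le_mul_left 2 hf) (by omega)
      omega
    · have h2 : s ∣ Nat.gcd 4 ((2 ^ f) ^ m - 1) * Nat.card (Cfsg.POmega F (Cfsg.quadFormPlus m F)) := by
        rw [hcard]
        exact (dvd_prod (by omega) ho).mul_left _
      exact (hs.dvd_mul.1 h2).resolve_left (not_dvd_four hs hs2)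
  have h2 : r ∣ Nat.gcd 4 ((2 ^ f) ^ m - 1) * Nat.card (Cfsg.POmega F (Cfsg.quadFormPlus m F)) := hrd.mul_left _
  rw [hcard] at h2
  rcases hr.dvd_mul.1 h2 with h | h
  · rcases hr.dvd_mul.1 h with h | h
    · exact absurd (hr.dvd_of_dvd_pow (hr.dvd_of_dvd_pow h))
        (fun h => hr2 ((Nat.prime_dvd_prime_iff_eq hr Nat.prime_two).1 h))
    · right
      rw [← pow_mul, ← ord_dvd_iff, hri] at h
      have h3 : f * m ≤ f * (2 * (m - 1)) := Nat.mul_le_mul_left _ (by omega)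
      exact (eq_of hi h (h3.trans (by rw [show f * (2 * (m - 1)) = 2 * f * (m - 1) by ring]; exact h1))
        (Nat.mul_pos (by omega) (by omega))).symm
  · left
    obtain ⟨j, hj1, hjm, hj⟩ := prod_dvd hr h
    rw [hri] at hj
    have h6 : 2 * f * j ≤ 2 * f * (m - 1) := Nat.mul_le_mul_left _ hjm
    rw [← eq_of hi hj (h6.trans h1) (Nat.mul_pos (by omega) (by omega)), mul_assoc]
    exact even_two_mul _

theorem two_ominus {F : Type*} [Field F] [Fintype F] {f m n i r : ℕ} (hF : Fintype.card F = 2 ^ f) (hm : 4 ≤ m) {a b : F}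
    (hab : ∀ z₁ z₂ : F, z₁ ^ 2 + a * z₁ * z₂ + b * z₂ ^ 2 = 0 → z₁ = 0 ∧ z₂ = 0)
    (hn : 64 ≤ n) (hB : Bnd n (Cfsg.POmega F (Cfsg.quadFormMinus (m - 1) F a b))) (hi : n < 2 * i) (hr : r.Prime) (hr2 : r ≠ 2)
    (hri : orderOf (2 : ZMod r) = i) (hrd : r ∣ Nat.card (Cfsg.POmega F (Cfsg.quadFormMinus (m - 1) F a b))) : Even i := by
  have hf := pos_f hF
  have hcard := Cfsg.Agent.S0294.result hF m hm a b hab
  have h1 : 2 * f * m ≤ n := by
    refine le_of hn hB (by nlinarith) (fun s hs hs2 ho => ?_)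
    have hfs : Fact s.Prime := ⟨hs⟩
    have h2 : s ∣ Nat.gcd 4 ((2 ^ f) ^ m + 1) * Nat.card (Cfsg.POmega F (Cfsg.quadFormMinus (m - 1) F a b)) := by
      rw [hcard]
      refine Dvd.dvd.mul_right (Dvd.dvd.mul_left ?_ _) _
      have h3 : (((2 : ZMod s) ^ f) ^ m) ^ 2 = 1 := by
        rw [← pow_mul, ← pow_mul, show f * (m * 2) = 2 * f * m by ring, ← ho]
        exact pow_orderOf_eq_one _
      rw [← ZMod.natCast_eq_zero_iff]
      push_cast
      rw [pow_two] at h3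
      rcases mul_self_eq_one_iff.1 h3 with h | h
      · exfalso
        rw [← pow_mul] at h
        have h3 := Nat.le_of_dvd (Nat.mul_pos (by omega) (by omega)) (orderOf_dvd_of_pow_eq_one h)
        rw [ho] at h3
        nlinarith
      · rw [h]; ring
    exact (hs.dvd_mul.1 h2).resolve_left (not_dvd_four hs hs2)
  have hfr : Fact r.Prime := ⟨hr⟩
  have h2 : r ∣ Nat.gcd 4 ((2 ^ f) ^ m + 1) * Nat.card (Cfsg.POmega F (Cfsg.quadFormMinus (m - 1) F a b)) := hrd.mul_left _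
  rw [hcard] at h2
  rcases hr.dvd_mul.1 h2 with h | h
  · rcases hr.dvd_mul.1 h with h | h
    · exact absurd (hr.dvd_of_dvd_pow (hr.dvd_of_dvd_pow h))
        (fun h => hr2 ((Nat.prime_dvd_prime_iff_eq hr Nat.prime_two).1 h))
    · have h3 : ((2 : ZMod r) ^ f) ^ m = -1 := by
        rw [← ZMod.natCast_eq_zero_iff] at h
        push_cast at h
        exact eq_neg_of_add_eq_zero_left h
      have h4 : (2 : ZMod r) ^ (2 * f * m) = 1 := by
        rw [show 2 * f * m = f * m * 2 by ring, pow_mul, pow_mul, h3]; ring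
      have h5 := orderOf_dvd_of_pow_eq_one h4
      rw [hri] at h5
      rw [← eq_of hi h5 h1 (Nat.mul_pos (by omega) (by omega)), mul_assoc]
      exact even_two_mul _
  · obtain ⟨j, hj1, hjm, hj⟩ := prod_dvd hr h
    rw [hri] at hj
    have h6 : 2 * f * j ≤ 2 * f * m := Nat.mul_le_mul_left _ (by omega)
    rw [← eq_of hi hj (h6.trans h1) (Nat.mul_pos (by omega) (by omega)), mul_assoc]
    exact even_two_mul _

end Cfsg.Agent.H183.BndTwo
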