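import Mathlib
import Cfsg.Agent.H183.HgSmall
import Cfsg.Agent.H486.HgIface
import Cfsg.Agent.S0482

/-!
# Homogeneous simple groups of 2-rank at most two (helper183, for S3923)
-/

set_option autoImplicit false

namespace Cfsg.Agent.H183.Hg2

open Cfsg.Agent.H486.Hg Cfsg.Agent.H183.HgHeis Cfsg.Agent.H183.HgSmall

theorem no_heis {G : Type*} [Group G] [Finite G] (hL : Loc G) {p : ℕ} [Fact p.Prime] (hp : p ≠ 2)
    (h : HasHeis p G) : False := by
  have P : Sylow p G := default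
  apply h.not_comm P
  rcases hL.odd p hp P with h1 | ⟨-, h1, -⟩
  · obtain ⟨g, hg⟩ := h1.exists_generator
    refine ⟨⟨fun a b => ?_⟩⟩
    obtain ⟨i, rfl⟩ := hg a
    obtain ⟨j, rfl⟩ := hg b
    exact (Commute.refl g).zpow_zpow i j
  · exact ⟨⟨fun a b => Subtype.ext (h1 a a.2 b b.2)⟩⟩

theorem exists_char (F : Type*) [Field F] [Fintype F] (h : Odd (Fintype.card F)) :
    ∃ p : ℕ, p.Prime ∧ CharP F p ∧ p ≠ 2 := by
  obtain ⟨p, hp⟩ := CharP.exists F
  obtain ⟨n, hpp, hc⟩ := FiniteField.card F p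
  refine ⟨p, hpp, hp, ?_⟩
  rintro rfl
  rw [hc] at h
  exact (Nat.not_even_iff_odd.mpr h) ((Nat.even_pow' (PNat.ne_zero n)).mpr even_two)

theorem simple_rank2 {G : Type*} [Group G] [Finite G] [IsSimpleGroup G] (hG : ¬ IsMulCommutative G)
    (hH : Homog G) (hL : Loc G) (h2 : Cfsg.PRankLE 2 2 G)
    (hPSL : ∀ (F : Type) [Field F] [Fintype F], Odd (Fintype.card F) →
      Nonempty (G ≃* Matrix.ProjectiveSpecialLinearGroup (Fin 2) F) → Fintype.card F = 5 ∨ Fintype.card F = 7) :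
    ∃ (F : Type) (_ : Field F) (_ : Fintype F), (Fintype.card F = 5 ∨ Fintype.card F = 7) ∧
      Nonempty (G ≃* Matrix.ProjectiveSpecialLinearGroup (Fin 2) F) := by
  rcases Cfsg.Agent.S0482.result hG h2 with ⟨F, i1, i2, ho, -, e⟩ | ⟨F, i1, i2, ho, ⟨e⟩⟩ | ⟨F, i1, i2, q, hF, ho, ⟨e⟩⟩ |
    ⟨F, i1, i2, hF, ⟨e⟩⟩ | ⟨⟨e⟩⟩ | h
  · exact ⟨F, i1, i2, hPSL F ho e, e⟩
  · obtain ⟨p, hp, hc, hp2⟩ := exists_char F ho
    have := Fact.mk hp
    exact (no_heis hL hp2 (HasHeis.of_equiv e (psl_three p))).elim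
  · obtain ⟨p, hp, hc, hp2⟩ := exists_char F (by rw [hF]; exact ho.pow)
    have := Fact.mk hp
    exact (no_heis hL hp2 (HasHeis.of_equiv e (psu_three hF p hp2))).elim
  · exfalso
    have : Fact (Nat.Prime 5) := ⟨by norm_num⟩
    obtain ⟨x, y, hx, hy, hxy, hx1, hn⟩ := psu_four hF
    have hc : ∀ P : Sylow 5 G, IsCyclic (P : Subgroup G) := by
      intro P
      rcases hL.odd 5 (by norm_num) P with h1 | ⟨h1, -⟩
      · exact h1
      · norm_num at h1
    have h1 := mem_zpowers_of_cyclic hc (x := e.symm x) (y := e.symm y) (by rw [← map_pow, hx, map_one])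
      (by rw [← map_pow, hy, map_one]) (by rw [← map_mul, hxy, map_mul]) (by simpa using hx1)
    apply hn
    obtain ⟨i, hi⟩ := h1
    refine ⟨i, ?_⟩
    have hi' : e.symm x ^ i = e.symm y := hi
    rw [← map_zpow] at hi'
    exact e.symm.injective hi'
  · exact (not_a7 hH e).elim
  · exact (not_m11 hH h).elim

end Cfsg.Agent.H183.Hg2
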