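import Mathlib
import Cfsg.Agent.H183.HgHeis
import Cfsg.Agent.Hexagon.G2Par
import Cfsg.Agent.Hexagon.TwD4Par

/-!
# Heisenberg subgroups of `G₂(q)` and `³D₄(q)` (helper183)
-/

set_option autoImplicit false

namespace Cfsg.Agent.H183.HgHex

open Cfsg.Lie Cfsg.Agent.SplitTwo Cfsg.Agent.H183.HgHeis

theorem comm_of_kk {G : Type*} [Group G] {a b : G} (h : kk a b = 1) : a * b = b * a := by
  unfold kk at h
  have : a * b = b * a * (a⁻¹ * b⁻¹ * a * b) := by group
  rw [this, h, mul_one]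

theorem pow_of_add {E : Type*} [Field E] {G : Type*} [Group G] {σ : E ≃+* E} {x : E → G}
    (h : ∀ a b, σ a = a → σ b = b → x (a + b) = x a * x b) (n : ℕ) : x 1 ^ n = x (n : E) := by
  have h0 : x 0 = 1 := by
    have := h 0 0 (map_zero σ) (map_zero σ)
    rw [add_zero] at this
    exact left_eq_mul.mp this
  induction n with
  | zero => rw [pow_zero, Nat.cast_zero, h0]
  | succ n ih =>
    rw [pow_succ, ih, Nat.cast_succ, h _ _ (map_natCast σ n) (map_one σ)]

theorem heis_of_rel {E : Type*} [Field E] {G : Type*} [Group G] {σ : E ≃+* E} {x1 x2 x3 x4 x5 x6 : E → G}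
    (R : HexRel σ x1 x2 x3 x4 x5 x6) (h4 : x4 1 ≠ 1) (p : ℕ) [CharP E p] : HasHeis p G := by
  have hz : ∀ {x : E → G} (h : ∀ a b, σ a = a → σ b = b → x (a + b) = x a * x b), x 1 ^ p ^ 1 = 1 := by
    intro x h
    rw [pow_one, pow_of_add h, CharP.cast_eq_zero]
    have := h 0 0 (map_zero σ) (map_zero σ)
    rw [add_zero] at this
    exact left_eq_mul.mp this
  refine ⟨x2 1, x6 1, x4 1, 1, 1, 1, hz R.add2, hz R.add6, hz R.add4, ?_, ?_, ?_, h4⟩
  · exact comm_of_kk (R.c24 1 1 (map_one σ) (map_one σ))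
  · exact (comm_of_kk (R.c46 1 1 (map_one σ) (map_one σ))).symm
  · have h := R.c26 1 1 (map_one σ) (map_one σ)
    rw [mul_one] at h
    rw [← h]
    unfold kk
    group

theorem g2 {K : Type*} [Field K] (p : ℕ) [CharP K p] : HasHeis p ↥(chevG2.group K) := by
  refine heis_of_rel (Cfsg.Agent.Hexagon.G2Par.hexRel' (K := K)) ?_ p
  intro h
  have h0 : Cfsg.Agent.Hexagon.G2Par.y4 (0 : K) = 1 := by
    have := (Cfsg.Agent.Hexagon.G2Par.hexRel' (K := K)).add4 0 0 rfl rfl
    rw [add_zero] at this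
    exact left_eq_mul.mp this
  rw [← h0] at h
  have := Cfsg.Agent.Hexagon.G2Par.xG_inj (r := 11) (by norm_num) (congrArg Subtype.val h)
  exact one_ne_zero this

theorem d4 {K : Type*} [Field K] [Fintype K] {q : ℕ} (hq : IsPrimePow q) (hK : Fintype.card K = q ^ 3) (p : ℕ)
    [CharP K p] : HasHeis p ↥(twistedD4 K q) := by
  obtain ⟨φ, hφ⟩ := Cfsg.Agent.ChevalleyStructure.D4Fixed.exists_frob hq hK
  have hinj : Function.Injective φ := φ.injective
  have hb : Function.Bijective φ := Finite.injective_iff_bijective.mp hinj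
  let σ : K ≃+* K := RingEquiv.ofBijective φ hb
  obtain ⟨c, x1, x2, x3, x4, x5, x6, hP, -, -⟩ :=
    Cfsg.Agent.Hexagon.TwD4Par.exists_kside hq hK (σ := σ) (fun x => hφ x)
  refine heis_of_rel hP.rel ?_ p
  intro h
  have h0 : x4 0 = 1 := by
    have := hP.rel.add4 0 0 (map_zero σ) (map_zero σ)
    rw [add_zero] at this
    exact left_eq_mul.mp this
  rw [← h0] at h
  exact one_ne_zero (hP.inj4 _ _ (map_one σ) (map_zero σ) h)

end Cfsg.Agent.H183.HgHex
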