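import Mathlib
import Cfsg.Agent.H183.Hg2
import Cfsg.Agent.H183.HgHex
import Cfsg.Agent.S1730
import Cfsg.Agent.BpSpor.ONanThree
import Cfsg.Agent.ClassicalGeometry.PSL2Basic
import Cfsg.Agent.OddHalf.D6.QThree.PumpOrd.Small5
import Cfsg.Agent.S1069
import Cfsg.Agent.OddCyclic.T1Socle

/-!
# Homogeneous simple groups of 2-rank three (helper183, for S3923)
-/

set_option autoImplicit false

namespace Cfsg.Agent.H183.Hg3

open Cfsg.Agent.H486.Hg Cfsg.Agent.H183.HgHeis Cfsg.Agent.H183.HgSmall Cfsg.Agent.H183.Hg2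

theorem simple_rank3 {G : Type*} [Group G] [Finite G] [IsSimpleGroup G] (hL : Loc G) (E : Subgroup G)
    (hEc : ∀ x ∈ E, ∀ y ∈ E, x * y = y * x) (hE2 : ∀ x ∈ E, x ^ 2 = 1) (hE : Nat.card E = 8) : False := by
  have hd : 1344 ∣ Nat.card G := hL.two8 E hEc hE2 hE
  have hG : ¬ IsMulCommutative G := by
    intro h
    letI : CommGroup G := { (inferInstance : Group G) with mul_comm := h.is_comm.comm }
    have hp : (Nat.card G).Prime := IsSimpleGroup.prime_card
    have h2 : 2 ∣ Nat.card G := (by norm_num : 2 ∣ 1344).trans hd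
    have h3 : 3 ∣ Nat.card G := (by norm_num : 3 ∣ 1344).trans hd
    have := (Nat.prime_dvd_prime_iff_eq Nat.prime_two hp).mp h2
    have := (Nat.prime_dvd_prime_iff_eq Nat.prime_three hp).mp h3
    omega
  have h3 : Cfsg.PRankLE 2 3 G := fun A hA hA2 =>
    hL.two A (fun x hx y hy => congrArg Subtype.val (hA.is_comm.comm (⟨x, hx⟩ : A) ⟨y, hy⟩)) hA2
  have h3' : ¬ Cfsg.PRankLE 2 2 G := by
    intro h
    have := h E ⟨⟨fun a b => Subtype.ext (hEc a a.2 b b.2)⟩⟩ hE2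
    rw [hE] at this
    norm_num at this
  rcases Cfsg.Agent.S1730.result hG h3 h3' with ⟨F, i1, i2, ho, ⟨e⟩⟩ | ⟨K, i1, i2, q, ho, hK, ⟨e⟩⟩ | h | ⟨F, i1, i2, hF, h⟩ |
    h | h | ⟨⟨e⟩⟩
  · obtain ⟨p, hp, hc, hp2⟩ := exists_char F ho
    have := Fact.mk hp
    exact no_heis hL hp2 (HasHeis.of_equiv e (HgHex.g2 p))
  · obtain ⟨p, hp, hc, hp2⟩ := exists_char K (by rw [hK]; exact ho.pow)
    have := Fact.mk hp
    have hq : IsPrimePow q := by
      obtain ⟨n, hpp, hcard⟩ := FiniteField.card K p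
      rw [← isPrimePow_pow_iff (k := 3) (by norm_num), ← hK, hcard]
      exact hpp.isPrimePow.pow (PNat.ne_zero n)
    exact no_heis hL hp2 (HasHeis.of_equiv e (HgHex.d4 hq hK p))
  · obtain ⟨K, i1, i2, m, hm, hK, ⟨e⟩⟩ := h
    have h1 := Cfsg.Agent.S1069.result hK
    rw [← Nat.card_congr e.toEquiv] at h1
    have h16 : 16 ∣ Nat.card G := (by norm_num : 16 ∣ 1344).trans hd
    rw [h1] at h16
    have h9 : 3 ^ (2 * m + 1) % 16 = 3 ∨ 3 ^ (2 * m + 1) % 16 = 11 := by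
      clear h1 h16 hK hm e
      induction m with
      | zero => left; norm_num
      | succ m ih =>
        have : 3 ^ (2 * (m + 1) + 1) = 3 ^ (2 * m + 1) * 9 := by ring
        rw [this]
        omega
    have h1' : 1 ≤ 3 ^ (2 * m + 1) := Nat.one_le_pow _ _ (by norm_num)
    generalize 3 ^ (2 * m + 1) = t at h16 h9 h1'
    obtain ⟨s, rfl⟩ : ∃ s, t = s + 1 := ⟨t - 1, by omega⟩
    rw [Nat.add_sub_cancel] at h16
    rw [Nat.dvd_iff_mod_eq_zero] at h16
    have hs : s % 16 = 2 ∨ s % 16 = 10 := by omega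
    rcases hs with hs | hs <;>
      simp [Nat.mul_mod, Nat.pow_mod, Nat.add_mod, hs] at h16
  · rcases h with ⟨⟨e⟩⟩ | ⟨⟨e⟩⟩ | ⟨E, i1, i2, hE, ⟨e⟩⟩
    · have h1 := Cfsg.Agent.ClassicalGeometry.PSL2Basic.card_PSL2_even (F := F) (by rw [hF]; decide)
      rw [← Nat.card_congr e.toEquiv, hF] at h1
      rw [h1] at hd
      norm_num at hd
    · have h1 := Cfsg.Agent.OddCyclic.T1Socle.not_three_dvd (K := G) ⟨F, i1, i2, 1, le_refl 1, by rw [hF]; norm_num, ⟨e⟩⟩
      exact h1 ((by norm_num : 3 ∣ 1344).trans hd)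
    · have : Fact (Nat.Prime 3) := ⟨by norm_num⟩
      exact no_heis hL (by norm_num) (HasHeis.of_equiv e (psu_eight hE))
  · have h1 := Cfsg.Agent.OddHalf.D6.QThree.PumpOrd.j1 h
    rw [h1] at hd
    norm_num at hd
  · have h1 := Cfsg.Agent.OddHalf.D6.QThree.PumpOrd.m12 h
    rw [h1] at hd
    norm_num at hd
  · have : Fact (Nat.Prime 7) := ⟨by norm_num⟩
    obtain ⟨V, hV, a, ha, b, hb, hab⟩ := Cfsg.Agent.BpSpor.ONanThree.exists_nonab
    have P : Sylow 7 G := default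
    have hP : ¬ IsMulCommutative (P : Subgroup G) := by
      refine Cfsg.Agent.H573.not_comm_of_pgroup (hV.map e.symm.toMonoidHom) (a := e.symm a) (b := e.symm b)
        (Subgroup.mem_map_of_mem _ ha) (Subgroup.mem_map_of_mem _ hb) ?_ P
      intro h
      rw [← map_mul, ← map_mul] at h
      exact hab (e.symm.injective h)
    rcases hL.odd 7 (by norm_num) P with h1 | ⟨h1, -⟩
    · apply hP
      obtain ⟨g, hg⟩ := h1.exists_generator
      refine ⟨⟨fun a b => ?_⟩⟩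
      obtain ⟨i, rfl⟩ := hg a
      obtain ⟨j, rfl⟩ := hg b
      exact (Commute.refl g).zpow_zpow i j
    · norm_num at h1

end Cfsg.Agent.H183.Hg3
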