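import Cfsg.Agent.H802.OC.Base
import Cfsg.Agent.H573.Spor.Base

/-!
# Criteria for `Row` (helper183)

* `row_of_noncentral`: an element of order `p` whose centraliser does not contain a Sylow `p`-subgroup;
* `row_of_fix`: a Sylow `p`-subgroup nonabelian of order `p ^ 3` and two elements of order `p` with different numbers of
  fixed points;
* `row_of_inner`: all automorphisms are inner and two elements of the same order are not conjugate;
* `not_four_dvd`: an involution `t` with `4 ∤ |C(t)|`.
-/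

set_option autoImplicit false

namespace Cfsg.Agent.H183.Oc

open Subgroup MulAction Cfsg.Agent.H802.OC

variable {S : Type*} [Group S]

/-- an element of order `p` which is not `p`-central -/
theorem row_of_noncentral [Finite S] (p : ℕ) [Fact p.Prime] {x : S} {n : ℕ} (hx : orderOf x = p) (hn : p ^ n ∣ Nat.card S)
    (hd : ¬ p ^ n ∣ Nat.card (centralizer ({x} : Set S))) : Row S := by
  have hp : p.Prime := Fact.out
  let P : Sylow p S := default
  have hP : p ^ n ∣ Nat.card (P : Subgroup S) := by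
    rw [P.card_eq_multiplicity]
    exact pow_dvd_pow p ((hp.pow_dvd_iff_le_factorization Nat.card_pos.ne').1 hn)
  have hpd : p ∣ Nat.card S := hx ▸ orderOf_dvd_natCard x
  have hnt : Nontrivial (P : Subgroup S) := by
    rw [← Finite.one_lt_card_iff_nontrivial, P.card_eq_multiplicity]
    have h1 : 1 ≤ (Nat.card S).factorization p := by
      apply (hp.pow_dvd_iff_le_factorization Nat.card_pos.ne').1
      rwa [pow_one]
    exact Nat.one_lt_pow (by omega) hp.one_lt
  have hpg : IsPGroup p (P : Subgroup S) := P.2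
  have h1 : Nontrivial (center (P : Subgroup S)) := hpg.center_nontrivial
  obtain ⟨m, hm⟩ := (hpg.to_subgroup (center (P : Subgroup S))).exists_card_eq
  have h2 : p ∣ Nat.card (center (P : Subgroup S)) := by
    rw [hm]
    refine dvd_pow_self p ?_
    rintro rfl
    rw [← Finite.one_lt_card_iff_nontrivial, hm, pow_zero] at h1
    exact absurd h1 (by norm_num)
  obtain ⟨z, hz⟩ := exists_prime_orderOf_dvd_card' (G := center (P : Subgroup S)) p h2
  have hzo : orderOf ((z : (P : Subgroup S)) : S) = p := by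
    rw [Subgroup.orderOf_coe, Subgroup.orderOf_coe, hz]
  refine row_of_dvd (x := ((z : (P : Subgroup S)) : S)) (y := x) (by rw [hzo, hx]) (p ^ n) (hP.trans (card_dvd_of_le ?_)) hd
  intro y hy
  rw [mem_centralizer_singleton_iff]
  exact congrArg Subtype.val (mem_center_iff.1 z.2 ⟨y, hy⟩)

/-- all automorphisms are inner, two elements of the same order are not conjugate -/
theorem row_of_inner (hi : ∀ a : MulAut S, ∃ g : S, a = MulAut.conj g) {x y : S} (hxy : orderOf x = orderOf y)
    (hc : ∀ g : S, g * x * g⁻¹ ≠ y) : Row S := by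
  apply row_of_not_autOC
  intro h
  obtain ⟨a, ha⟩ := h x y hxy
  obtain ⟨g, rfl⟩ := hi a
  exact hc g ha

theorem conj_center_one [Finite S] {p : ℕ} [Fact p.Prime] (P : Sylow p S) {x : S} (hx : orderOf x = p)
    (hC : ¬ p ∣ (centralizer ({x} : Set S)).index) :
    ∃ g : S, g⁻¹ * x * g ∈ P ∧ ∀ y ∈ P, y * (g⁻¹ * x * g) = (g⁻¹ * x * g) * y := by
  obtain ⟨Q, hQ'⟩ := Cfsg.Agent.H573.exists_sylow_le_of_index _ hC
  have hQ : ∀ y ∈ Q, y * x = x * y := fun y hy => mem_centralizer_singleton_iff.1 (hQ' hy)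
  obtain ⟨g, hg⟩ := exists_smul_eq S P Q
  have h2 : ∀ y ∈ P, y * (g⁻¹ * x * g) = (g⁻¹ * x * g) * y := by
    intro y hy
    have h3 : g * y * g⁻¹ ∈ Q := by
      rw [← hg]
      exact Subgroup.smul_mem_pointwise_smul y (MulAut.conj g) _ hy
    have h4 := hQ _ h3
    have h5 : g⁻¹ * (g * y * g⁻¹ * x) * g = g⁻¹ * (x * (g * y * g⁻¹)) * g := by rw [h4]
    simpa [mul_assoc] using h5
  exact ⟨g, Cfsg.Agent.H573.mem_sylow_of_commute P (Cfsg.Agent.H573.ppow_conj g ⟨1, by rw [hx, pow_one]⟩) h2, h2⟩

theorem conj_zpowers [Finite S] {p : ℕ} [Fact p.Prime] (P : Sylow p S)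
    (hZ : Nat.card (center (P : Subgroup S)) = p) {x y : S} (hx : orderOf x = p) (hy : orderOf y = p)
    (hCx : ¬ p ∣ (centralizer ({x} : Set S)).index) (hCy : ¬ p ∣ (centralizer ({y} : Set S)).index) :
    ∃ g : S, ∃ k : ℕ, g * x * g⁻¹ = y ^ k := by
  have hp : p.Prime := Fact.out
  obtain ⟨g, hg, hgc⟩ := conj_center_one P hx hCx
  obtain ⟨u, hu, huc⟩ := conj_center_one P hy hCy
  have hcj : ∀ (g : S) (x : S), orderOf (g⁻¹ * x * g) = orderOf x := fun g x => by
    have := orderOf_injective (MulAut.conj g⁻¹).toMonoidHom (MulAut.conj g⁻¹).injective x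
    simpa [MulAut.conj_apply] using this
  have h1 : (⟨g⁻¹ * x * g, hg⟩ : (P : Subgroup S)) ∈ center (P : Subgroup S) := by
    rw [mem_center_iff]; intro z; exact Subtype.ext (hgc z z.2)
  have h2 : (⟨u⁻¹ * y * u, hu⟩ : (P : Subgroup S)) ∈ center (P : Subgroup S) := by
    rw [mem_center_iff]; intro z; exact Subtype.ext (huc z z.2)
  set a : center (P : Subgroup S) := ⟨_, h1⟩ with ha
  set b : center (P : Subgroup S) := ⟨_, h2⟩ with hb
  have hb1 : b ≠ 1 := by
    intro h3
    have h4 : u⁻¹ * y * u = 1 := congrArg (fun c : center (P : Subgroup S) => ((c : (P : Subgroup S)) : S)) h3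
    have h5 := hcj u y
    rw [h4, orderOf_one, hy] at h5
    exact hp.one_lt.ne h5
  have hpr : Fact (Nat.Prime (Nat.card (center (P : Subgroup S)))) := ⟨by rw [hZ]; exact hp⟩
  have hz : zpowers b = ⊤ := zpowers_eq_top_of_prime_card (p := Nat.card (center (P : Subgroup S))) rfl hb1
  have ham : a ∈ zpowers b := by rw [hz]; exact mem_top _
  obtain ⟨k, hk⟩ := (mem_powers_iff_mem_zpowers.2 ham)
  refine ⟨u * g⁻¹, k, ?_⟩
  have h3 : (u⁻¹ * y * u) ^ k = g⁻¹ * x * g := by
    have := congrArg (fun c : center (P : Subgroup S) => ((c : (P : Subgroup S)) : S)) hk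
    simpa [ha, hb] using this
  have h4 : y ^ k = u * (u⁻¹ * y * u) ^ k * u⁻¹ := by
    rw [← conj_pow]; congr 1; group
  rw [h4, h3]; group

/-- two elements of order `p` with different numbers of fixed points, if the Sylow `p`-subgroups are nonabelian of order
`p ^ 3` -/
theorem row_of_fix [Finite S] {p : ℕ} [Fact p.Prime] (P : Sylow p S) (hP : Nat.card (P : Subgroup S) = p ^ 3)
    (hna : ¬ IsMulCommutative (P : Subgroup S)) {α : Type*} [Fintype α] [DecidableEq α] (φ : S →* Equiv.Perm α) {x y : S}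
    (hx : orderOf x = p) (hy : orderOf y = p)
    (hf : (Finset.univ.filter fun i : α => φ x i = i).card ≠ (Finset.univ.filter fun i : α => φ y i = i).card) :
    Row S := by
  have hp : p.Prime := Fact.out
  by_contra hrow
  have key : ∀ w : S, orderOf w = p → ¬ p ∣ (centralizer ({w} : Set S)).index := by
    intro w hw hd
    apply hrow
    refine row_of_noncentral p (n := (Nat.card S).factorization p) hw (Nat.ordProj_dvd _ _) ?_
    intro h
    have h1 : p ^ ((Nat.card S).factorization p + 1) ∣ Nat.card S := by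
      rw [← card_mul_index (centralizer ({w} : Set S)), pow_succ, card_mul_index]
      rw [← card_mul_index (centralizer ({w} : Set S))] at h ⊢
      exact mul_dvd_mul (by rwa [card_mul_index] at h ⊢) hd
    have h2 := (hp.pow_dvd_iff_le_factorization Nat.card_pos.ne').1 h1
    omega
  obtain ⟨g, k, hg⟩ := conj_zpowers P (Cfsg.Agent.H573.card_center_cube hP fun hc => hna ⟨⟨hc⟩⟩) hx hy (key x hx) (key y hy)
  exact hf (Cfsg.Agent.H573.fix_eq_of_conj φ hx hy hg)

/-- an involution whose centraliser has order not divisible by `4` -/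
theorem not_four_dvd [Finite S] {t : S} (ht : orderOf t = 2) (h : ¬ 4 ∣ Nat.card (centralizer ({t} : Set S))) :
    ¬ 4 ∣ Nat.card S := by
  have : Fact (Nat.Prime 2) := ⟨Nat.prime_two⟩
  intro h4
  have hpg : IsPGroup 2 (zpowers t) := IsPGroup.of_card (n := 1) (by rw [Nat.card_zpowers, ht, pow_one])
  obtain ⟨P, hP⟩ := hpg.exists_le_sylow
  have htP : t ∈ (P : Subgroup S) := hP (mem_zpowers t)
  have hnt : Nontrivial (P : Subgroup S) := by
    refine ⟨⟨⟨t, htP⟩, 1, ?_⟩⟩
    intro h1
    have h2 : t = 1 := congrArg Subtype.val h1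
    rw [h2, orderOf_one] at ht
    exact absurd ht (by norm_num)
  have h1 : Nontrivial (center (P : Subgroup S)) := (P.2 : IsPGroup 2 (P : Subgroup S)).center_nontrivial
  -- the centraliser of `t` in `P` has order two
  set D : Subgroup S := (P : Subgroup S) ⊓ centralizer ({t} : Set S) with hD
  have hD2 : Nat.card D ∣ 2 := by
    obtain ⟨n, hn⟩ := (P.2.to_le (inf_le_left : D ≤ (P : Subgroup S))).exists_card_eq
    have h2 : Nat.card D ∣ Nat.card (centralizer ({t} : Set S)) := card_dvd_of_le inf_le_right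
    rw [hn] at h2 ⊢
    have h3 : n ≤ 1 := by
      by_contra hlt
      exact h ((pow_dvd_pow 2 (by omega : 2 ≤ n)).trans h2)
    exact (pow_dvd_pow 2 h3).trans (by norm_num)
  have htD : zpowers t ≤ D := by
    rw [zpowers_le]
    exact ⟨htP, mem_centralizer_singleton_iff.2 rfl⟩
  have hDt : D = zpowers t := by
    refine (eq_of_le_of_card_ge htD ?_).symm
    rw [Nat.card_zpowers, ht]
    exact Nat.le_of_dvd (by norm_num) hD2
  -- the centre of `P` is `⟨t⟩`
  have hcent : ∀ y ∈ (P : Subgroup S), y * t = t * y := by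
    obtain ⟨⟨z, hz⟩, hz1⟩ := exists_ne (1 : center (P : Subgroup S))
    have hzD : (z : S) ∈ D := by
      refine ⟨z.2, mem_centralizer_singleton_iff.2 ?_⟩
      exact (congrArg Subtype.val (mem_center_iff.1 hz ⟨t, htP⟩)).symm
    rw [hDt, mem_zpowers_iff] at hzD
    obtain ⟨k, hk⟩ := hzD
    have hzt : (z : S) = t := by
      rcases Int.even_or_odd k with ⟨m, hm⟩ | ⟨m, hm⟩
      · exfalso
        apply hz1
        apply Subtype.ext
        apply Subtype.ext
        have h2 : t ^ (2 : ℤ) = 1 := by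
          rw [show (2 : ℤ) = ((2 : ℕ) : ℤ) from rfl, zpow_natCast, ← ht, pow_orderOf_eq_one]
        change (z : S) = 1
        rw [← hk, hm, ← two_mul, zpow_mul, h2, one_zpow]
      · have h2 : t ^ (2 : ℤ) = 1 := by
          rw [show (2 : ℤ) = ((2 : ℕ) : ℤ) from rfl, zpow_natCast, ← ht, pow_orderOf_eq_one]
        rw [← hk, hm, zpow_add, zpow_mul, h2, one_zpow, one_mul, zpow_one]
    intro y hy
    have h2 : y * (z : S) = (z : S) * y := congrArg Subtype.val (mem_center_iff.1 hz ⟨y, hy⟩)
    rwa [hzt] at h2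
  have h5 : (P : Subgroup S) ≤ D := fun y hy => ⟨hy, mem_centralizer_singleton_iff.2 (hcent y hy)⟩
  have h6 : Nat.card (P : Subgroup S) ∣ 2 := (card_dvd_of_le h5).trans hD2
  have h7 : 2 ^ 2 ∣ Nat.card (P : Subgroup S) := by
    rw [P.card_eq_multiplicity]
    exact pow_dvd_pow 2 ((Nat.prime_two.pow_dvd_iff_le_factorization Nat.card_pos.ne').1 h4)
  have h8 := Nat.le_of_dvd (by norm_num) (h7.trans h6)
  norm_num at h8

end Cfsg.Agent.H183.Oc
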