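import Cfsg.Agent.H183.SemisDet
import Cfsg.Agent.H183.RingIdem

/-!
# The centraliser ring of an element of order prime to the characteristic is regular;
elements of prescribed determinant in it
-/

set_option autoImplicit false

namespace Cfsg.Agent.H183.Semis

open Polynomial Cfsg.Agent.H183.RingIdem

section Reg

variable {F : Type*} [Field F]

theorem exists_reg {V : Type*} [AddCommGroup V] [Module F V] (x : Module.End F V) :
    ∃ y : Module.End F V, x * y * x = x := by
  obtain ⟨r, hr⟩ := LinearMap.exists_rightInverse_of_surjective x.rangeRestrict (LinearMap.range_rangeRestrict x)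
  obtain ⟨q, hq⟩ := Submodule.exists_isCompl (LinearMap.range x)
  refine ⟨r ∘ₗ Submodule.projectionOnto _ _ hq, LinearMap.ext fun v => ?_⟩
  simp only [Module.End.mul_apply, LinearMap.coe_comp, Function.comp_apply]
  have h1 : Submodule.projectionOnto _ _ hq (x v) = x.rangeRestrict v :=
    Submodule.projectionOnto_apply_left hq (x.rangeRestrict v)
  rw [h1]
  have h2 := LinearMap.congr_fun hr (x.rangeRestrict v)
  exact congrArg Subtype.val h2

theorem exists_reg_comm {M : Type*} [Ring M] [Algebra F M] (g g' : M) (hgg' : g * g' = 1) (hg'g : g' * g = 1) {N : ℕ}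
    (hN : g ^ N = 1) (hN0 : (N : F) ≠ 0) (x y : M) (hx : x * g = g * x) (hy : x * y * x = x) :
    ∃ z, z * g = g * z ∧ x * z * x = x := by
  have hcx : Commute x g := hx
  have hcx' : Commute x g' := by
    show x * g' = g' * x
    calc x * g' = (g' * g) * x * g' := by rw [hg'g, one_mul]
      _ = g' * (x * g) * g' := by rw [hx]; noncomm_ring
      _ = g' * x * (g * g') := by noncomm_ring
      _ = g' * x := by rw [hgg', mul_one]
  have hgg'c : Commute g g' := by show g * g' = g' * g; rw [hgg', hg'g]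
  have hpow : ∀ i, g ^ i * g' ^ i = 1 := fun i => by rw [← hgg'c.mul_pow, hgg', one_pow]
  have hpow' : ∀ i, g' ^ i * g ^ i = 1 := fun i => by rw [← hgg'c.symm.mul_pow, hg'g, one_pow]
  have hN' : g' ^ N = 1 := by
    have := hpow N
    rwa [hN, one_mul] at this
  let S := ∑ i ∈ Finset.range N, g ^ i * y * g' ^ i
  have hshift : g * S * g' = S := by
    have h1 : g * S * g' = ∑ i ∈ Finset.range N, g ^ (i + 1) * y * g' ^ (i + 1) := by
      simp only [S, Finset.mul_sum, Finset.sum_mul]
      refine Finset.sum_congr rfl fun i _ => ?_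
      rw [pow_succ' g, pow_succ g']
      noncomm_ring
    have h2 := Finset.sum_range_succ' (fun i => g ^ i * y * g' ^ i) N
    have h3 := Finset.sum_range_succ (fun i => g ^ i * y * g' ^ i) N
    rw [h3] at h2
    simp only [pow_zero, hN, hN'] at h2
    rw [h1]
    exact (add_right_cancel h2).symm
  have hSg : S * g = g * S := by
    calc S * g = g * S * g' * g := by rw [hshift]
      _ = g * S * (g' * g) := by noncomm_ring
      _ = g * S := by rw [hg'g, mul_one]
  refine ⟨(N : F)⁻¹ • S, by rw [smul_mul_assoc, mul_smul_comm, hSg], ?_⟩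
  have h4 : x * S * x = (N : F) • x := by
    simp only [S, Finset.mul_sum, Finset.sum_mul]
    have : ∀ i ∈ Finset.range N, x * (g ^ i * y * g' ^ i) * x = x := by
      intro i _
      calc x * (g ^ i * y * g' ^ i) * x = (x * g ^ i) * y * (g' ^ i * x) := by noncomm_ring
        _ = (g ^ i * x) * y * (x * g' ^ i) := by rw [(hcx.pow_right i).eq, (hcx'.pow_right i).eq]
        _ = g ^ i * (x * y * x) * g' ^ i := by noncomm_ring
        _ = g ^ i * (x * g' ^ i) := by rw [hy]; noncomm_ring
        _ = g ^ i * (g' ^ i * x) := by rw [(hcx'.pow_right i).eq]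
        _ = x := by rw [← mul_assoc, hpow, one_mul]
    rw [Finset.sum_congr rfl this, Finset.sum_const, Finset.card_range]
    rw [Nat.cast_smul_eq_nsmul]
  rw [mul_smul_comm, smul_mul_assoc, h4, smul_smul, inv_mul_cancel₀ hN0, one_smul]

end Reg

section Mat

variable {F : Type*} [Field F] {n : Type*} [Fintype n] [DecidableEq n]

theorem exists_reg_matrix (g g' : Matrix n n F) (hgg' : g * g' = 1) (hg'g : g' * g = 1) {N : ℕ}
    (hN : g ^ N = 1) (hN0 : (N : F) ≠ 0) (x : Matrix n n F) (hx : x * g = g * x) :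
    ∃ z, z * g = g * z ∧ x * z * x = x := by
  obtain ⟨y, hy⟩ := exists_reg (F := F) (Matrix.toLin' x)
  refine exists_reg_comm (F := F) g g' hgg' hg'g hN hN0 x (LinearMap.toMatrix' y) hx ?_
  have h1 := congrArg LinearMap.toMatrix' hy
  simp only [Module.End.mul_eq_comp, LinearMap.toMatrix'_comp, LinearMap.toMatrix'_toLin'] at h1
  exact h1

/-- an element of order prime to the characteristic is semisimple -/
theorem isSemisimple_of_pow (a : Matrix n n F) {N : ℕ} (hN : a ^ N = 1) (hN0 : (N : F) ≠ 0) :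
    Module.End.IsSemisimple (Matrix.toLin' a) := by
  have hsep : (X ^ N - 1 : F[X]).Separable := (X_pow_sub_one_separable_iff).2 hN0
  refine Module.End.isSemisimple_of_squarefree_aeval_eq_zero hsep.squarefree ?_
  rw [map_sub, map_pow, aeval_X, map_one, ← Matrix.toLin'_pow, hN, Matrix.toLin'_one, sub_eq_zero]
  rfl

theorem similar_of_charpoly (a b : Matrix n n F) {N N' : ℕ} (ha : a ^ N = 1) (hN : (N : F) ≠ 0)
    (hb : b ^ N' = 1) (hN' : (N' : F) ≠ 0) (h : a.charpoly = b.charpoly) :
    ∃ x : GL n F, (x : Matrix n n F) * a = b * x := by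
  obtain ⟨e, he⟩ := similar_aux _ (Matrix.toLin' a) (Matrix.toLin' b) rfl (isSemisimple_of_pow a ha hN)
    (isSemisimple_of_pow b hb hN') (by rw [Matrix.charpoly_toLin', Matrix.charpoly_toLin', h])
  refine ⟨⟨LinearMap.toMatrix' e.toLinearMap, LinearMap.toMatrix' e.symm.toLinearMap, ?_, ?_⟩, ?_⟩
  · rw [← LinearMap.toMatrix'_comp, LinearEquiv.comp_coe, LinearEquiv.symm_trans_self]
    exact LinearMap.toMatrix'_id
  · rw [← LinearMap.toMatrix'_comp, LinearEquiv.comp_coe, LinearEquiv.self_trans_symm]
    exact LinearMap.toMatrix'_id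
  · show LinearMap.toMatrix' e.toLinearMap * a = b * LinearMap.toMatrix' e.toLinearMap
    conv_lhs => rw [← LinearMap.toMatrix'_toLin' a]
    conv_rhs => rw [← LinearMap.toMatrix'_toLin' b]
    rw [← LinearMap.toMatrix'_comp, ← LinearMap.toMatrix'_comp]
    congr 1
    exact LinearMap.ext he

/-- a primitive idempotent `f` of the centraliser of `g` : all determinants are attained by `1 + (P(g) - 1) f` -/
theorem exists_det_matrix [Finite F] (g g' : Matrix n n F) (hgg' : g * g' = 1) (hg'g : g' * g = 1) {N : ℕ}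
    (hN : g ^ N = 1) (hN0 : (N : F) ≠ 0) (f : Matrix n n F) (hfg : f * g = g * f) (hf0 : f ≠ 0) (hff : f * f = f)
    (hprim : ∀ x, x * g = g * x → f * x * f ≠ 0 → ∃ y, (f * x * f) * (f * y * f) = f) (l : F) :
    ∃ P : F[X], (1 + (aeval g P - 1) * f).det = l := by
  have hl : ∀ x y : Matrix n n F, Matrix.toLin' (x * y) = Matrix.toLin' x * Matrix.toLin' y := fun x y => Matrix.toLin'_mul x y
  have hinj : ∀ x : Matrix n n F, Matrix.toLin' x = 0 → x = 0 := fun x hx => by
    apply (Matrix.toLin' (R := F) (m := n) (n := n)).injective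
    rw [hx, map_zero]
  have key : ∀ U : Submodule F (n → F), U ∈ Module.End.invtSubmodule (Matrix.toLin' g) →
      U ≤ LinearMap.range (Matrix.toLin' f) → U ≠ ⊥ → U = LinearMap.range (Matrix.toLin' f) := by
    intro U hU hUf hU0
    obtain ⟨q, hq, hc⟩ := Module.End.isSemisimple_iff.1 (isSemisimple_of_pow g hN hN0) U hU
    -- the projection onto `U` along `q`
    let π : Module.End F (n → F) := Submodule.projection U q hc
    have hπU : ∀ v, π v ∈ U := fun v => Submodule.projection_apply_mem hc v
    have hπ1 : ∀ v ∈ U, π v = v := fun v hv => Submodule.projection_apply_of_mem_left hc hv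
    have hπg : π * Matrix.toLin' g = Matrix.toLin' g * π := by
      refine LinearMap.ext fun v => ?_
      obtain ⟨u, hu, w, hw, rfl⟩ : ∃ u ∈ U, ∃ w ∈ q, u + w = v := by
        have : v ∈ U ⊔ q := by rw [hc.sup_eq_top]; exact Submodule.mem_top
        obtain ⟨u, hu, w, hw, h⟩ := Submodule.mem_sup.1 this
        exact ⟨u, hu, w, hw, h⟩
      have hq0 : ∀ w ∈ q, π w = 0 := fun w hw => (Submodule.projection_apply_eq_zero_iff hc).2 hw
      simp only [Module.End.mul_apply, map_add]
      rw [hπ1 u hu, hq0 w hw, hπ1 _ (hU hu), hq0 _ (hq hw), map_zero]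
    set p : Matrix n n F := LinearMap.toMatrix' π with hp
    have hpl : Matrix.toLin' p = π := Matrix.toLin'_toMatrix' π
    have hpg : p * g = g * p := by
      apply (Matrix.toLin' (R := F) (m := n) (n := n)).injective
      rw [hl, hl, hpl, hπg]
    -- `f p = p`
    have hfv : ∀ v ∈ LinearMap.range (Matrix.toLin' f), Matrix.toLin' f v = v := by
      rintro _ ⟨w, rfl⟩
      rw [← Module.End.mul_apply, ← hl, hff]
    have hfp : f * p = p := by
      apply (Matrix.toLin' (R := F) (m := n) (n := n)).injective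
      rw [hl, hpl]
      refine LinearMap.ext fun v => ?_
      exact hfv _ (hUf (hπU v))
    have hfpf : f * p * f ≠ 0 := by
      intro h
      apply hU0
      rw [eq_bot_iff]
      intro v hv
      have h1 : Matrix.toLin' (f * p * f) v = v := by
        rw [hl, hl, hpl, Module.End.mul_apply, Module.End.mul_apply, hfv v (hUf hv), hπ1 v hv, hfv v (hUf hv)]
      rw [h, map_zero] at h1
      exact (Submodule.mem_bot F).2 h1.symm
    obtain ⟨y, hy⟩ := hprim p hpg hfpf
    refine le_antisymm hUf ?_
    rintro _ ⟨v, rfl⟩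
    have h2 : p * (f * (f * y * f)) = f := by
      rw [hfp] at hy
      rw [← mul_assoc]
      exact hy
    have h3 : Matrix.toLin' f v = π (Matrix.toLin' (f * (f * y * f)) v) := by
      rw [← hpl, ← Module.End.mul_apply, ← hl, h2]
    rw [h3]
    exact hπU _
  obtain ⟨P, hP⟩ := exists_det (F := F) (Matrix.toLin' g) (Matrix.toLin' f) (by rw [← hl, hff])
    (by rw [← hl, ← hl, hfg]) (fun h => hf0 (hinj f h)) key l
  refine ⟨P, ?_⟩
  rw [← hP, ← LinearMap.det_toLin']
  congr 1
  rw [map_add, Matrix.toLin'_mul, map_sub, Matrix.toLin'_one]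
  have : Matrix.toLin' (aeval g P) = aeval (Matrix.toLin' g) P :=
    (Polynomial.aeval_algHom_apply (Matrix.toLinAlgEquiv' (R := F) (n := n)).toAlgHom g P).symm
  rw [this]
  rfl

/-- all determinants are attained in the centraliser of an element of order prime to the characteristic -/
theorem exists_comm_det [Finite F] [Nonempty n] (g g' : Matrix n n F) (hgg' : g * g' = 1) (hg'g : g' * g = 1) {N : ℕ}
    (hN : g ^ N = 1) (hN0 : (N : F) ≠ 0) (l : F) : ∃ c : Matrix n n F, c * g = g * c ∧ c.det = l := by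
  classical
  let R : Subring (Matrix n n F) := Subring.centralizer {g}
  have hR : ∀ x : Matrix n n F, x ∈ R ↔ x * g = g * x := by
    intro x
    rw [Subring.mem_centralizer_iff]
    simp only [Set.mem_singleton_iff, forall_eq]
    exact eq_comm
  have : Finite (Matrix n n F) := by unfold Matrix; infer_instance
  have : Nontrivial R := Subring.instNontrivialSubtypeMem R
  obtain ⟨f, hf⟩ := exists_prim (C := R) (by
    intro x
    obtain ⟨z, hz1, hz2⟩ := exists_reg_matrix g g' hgg' hg'g hN hN0 (x : Matrix n n F) ((hR _).1 x.2)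
    exact ⟨⟨z, (hR z).2 hz1⟩, Subtype.ext hz2⟩)
  obtain ⟨P, hP⟩ := exists_det_matrix g g' hgg' hg'g hN hN0 (f : Matrix n n F) ((hR _).1 f.2)
    (fun h => hf.1 (Subtype.ext h)) (congrArg Subtype.val hf.2.1) (by
      intro x hx hne
      obtain ⟨y, hy⟩ := hf.2.2 ⟨x, (hR x).2 hx⟩ (fun h => hne (congrArg Subtype.val h))
      exact ⟨y, congrArg Subtype.val hy⟩) l
  refine ⟨_, ?_, hP⟩
  have h1 : aeval g P * g = g * aeval g P := (aeval_comm (F := F) g g rfl P).symm
  have h2 : (f : Matrix n n F) * g = g * f := (hR _).1 f.2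
  calc (1 + (aeval g P - 1) * (f : Matrix n n F)) * g = g + (aeval g P - 1) * ((f : Matrix n n F) * g) := by noncomm_ring
    _ = g + (aeval g P * g) * (f : Matrix n n F) - g * f := by rw [h2]; noncomm_ring
    _ = g * (1 + (aeval g P - 1) * (f : Matrix n n F)) := by rw [h1]; noncomm_ring

theorem natCast_ne_zero (p : ℕ) [Fact p.Prime] [CharP F p] {N : ℕ} (h : N.Coprime p) : (N : F) ≠ 0 := by
  intro h0
  rw [CharP.cast_eq_zero_iff F p] at h0
  have := Nat.Coprime.eq_one_of_dvd h.symm h0
  exact (Fact.out : p.Prime).one_lt.ne' this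

/-- **Elements of order prime to the characteristic with the same characteristic polynomial are conjugate in `SL_n`**
(statement S2388). -/
theorem sl_isConj [Finite F] (p : ℕ) [Fact p.Prime] [CharP F p] (g h : Matrix.SpecialLinearGroup n F)
    (hg : (orderOf g).Coprime p) (hh : (orderOf h).Coprime p)
    (hc : (g : Matrix n n F).charpoly = (h : Matrix n n F).charpoly) : IsConj g h := by
  have hg1 : (g : Matrix n n F) ^ orderOf g = 1 := by
    rw [← Matrix.SpecialLinearGroup.coe_pow, pow_orderOf_eq_one]; rfl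
  have hh1 : (h : Matrix n n F) ^ orderOf h = 1 := by
    rw [← Matrix.SpecialLinearGroup.coe_pow, pow_orderOf_eq_one]; rfl
  rcases isEmpty_or_nonempty n with hn | hn
  · have : Subsingleton (Matrix.SpecialLinearGroup n F) := inferInstance
    rw [Subsingleton.elim g h]
  obtain ⟨x, hx⟩ := similar_of_charpoly _ _ hg1 (natCast_ne_zero p hg) hh1 (natCast_ne_zero p hh) hc
  obtain ⟨c, hc1, hc2⟩ := exists_comm_det (g : Matrix n n F) ((g⁻¹ : Matrix.SpecialLinearGroup n F) : Matrix n n F)
    (by rw [← Matrix.SpecialLinearGroup.coe_mul, mul_inv_cancel]; rfl)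
    (by rw [← Matrix.SpecialLinearGroup.coe_mul, inv_mul_cancel]; rfl) hg1 (natCast_ne_zero p hg)
    (x : Matrix n n F).det⁻¹
  have hxd : (x : Matrix n n F).det ≠ 0 := (Matrix.isUnits_det_units x).ne_zero
  let y : Matrix.SpecialLinearGroup n F := ⟨(x : Matrix n n F) * c, by rw [Matrix.det_mul, hc2, mul_inv_cancel₀ hxd]⟩
  rw [isConj_iff]
  refine ⟨y, ?_⟩
  rw [mul_inv_eq_iff_eq_mul]
  apply Subtype.ext
  show (x : Matrix n n F) * c * g = h * ((x : Matrix n n F) * c)
  rw [mul_assoc, hc1, ← mul_assoc, hx, mul_assoc]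

/-- the same in `GL_n` -/
theorem gl_isConj [Finite F] (p : ℕ) [Fact p.Prime] [CharP F p] (g h : GL n F)
    (hg : (orderOf g).Coprime p) (hh : (orderOf h).Coprime p)
    (hc : (g : Matrix n n F).charpoly = (h : Matrix n n F).charpoly) : IsConj g h := by
  have hg1 : (g : Matrix n n F) ^ orderOf g = 1 := by
    rw [← Units.val_pow_eq_pow_val, pow_orderOf_eq_one]; rfl
  have hh1 : (h : Matrix n n F) ^ orderOf h = 1 := by
    rw [← Units.val_pow_eq_pow_val, pow_orderOf_eq_one]; rfl
  obtain ⟨x, hx⟩ := similar_of_charpoly _ _ hg1 (natCast_ne_zero p hg) hh1 (natCast_ne_zero p hh) hc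
  rw [isConj_iff]
  refine ⟨x, ?_⟩
  rw [mul_inv_eq_iff_eq_mul]
  exact Units.ext hx

end Mat

end Cfsg.Agent.H183.Semis
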