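import Cfsg.Agent.H412.Tc.Defs

/-!
# S3621, lemma StepA (helper183)

The 3-closure of a solvable group with a nontrivial invariant equivalence relation.
-/

set_option autoImplicit false

namespace Cfsg.Agent.H183.TcStepA

open Equiv Cfsg.Agent.H412.Tc

universe u

theorem solvable_comap {A B : Type*} [Group A] [Group B] (f : A →* B) (hf : Function.Injective f) (G : Subgroup B)
    (hG : Group.IsSolvable G) : Group.IsSolvable (G.comap f) := by
  refine Group.isSolvable_of_isSolvable_injective (f := f.subgroupComap G) ?_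
  intro x y hxy
  apply Subtype.ext
  apply hf
  exact congrArg Subtype.val hxy

theorem solvable_of_range_ker {A B : Type*} [Group A] [Group B] (f : A →* B) (h1 : Group.IsSolvable f.range)
    (h2 : Group.IsSolvable f.ker) : Group.IsSolvable A := by
  refine (Group.isSolvable_iff_subgroup_quotient f.ker).2 ⟨h2, ?_⟩
  exact Group.isSolvable_of_isSolvable_injective (f := (QuotientGroup.quotientKerEquivRange f).toMonoidHom)
    (QuotientGroup.quotientKerEquivRange f).injective

section

variable {Ω : Type u} (H : Subgroup (Perm Ω)) (s : Setoid Ω) (hiff : ∀ h ∈ H, ∀ a b, s a b ↔ s (h a) (h b))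

/-- the action on the classes -/
def quo : H →* Perm (Quotient s) where
  toFun h := Quotient.congr h.1 (hiff h.1 h.2)
  map_one' := by
    ext q
    induction q using Quotient.inductionOn
    rfl
  map_mul' h k := by
    ext q
    induction q using Quotient.inductionOn
    rfl

theorem quo_mk (h : H) (a : Ω) : quo H s hiff h (Quotient.mk s a) = Quotient.mk s (h.1 a) := rfl

/-- the stabiliser of the class of `c` -/
def stab (c : Ω) : Subgroup H where
  carrier := {h | s (h.1 c) c}
  mul_mem' := by
    intro h k hh hk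
    have h1 : s (h.1 (k.1 c)) (h.1 c) := (hiff h.1 h.2 _ _).1 hk
    exact s.trans' h1 hh
  one_mem' := s.refl' c
  inv_mem' := by
    intro h hh
    have h1 : s (h.1⁻¹ (h.1 c)) (h.1⁻¹ c) := (hiff h.1⁻¹ (H.inv_mem h.2) _ _).1 hh
    have e : h.1⁻¹ (h.1 c) = c := h.1.symm_apply_apply c
    rw [e] at h1
    exact s.symm' h1

theorem mem_stab {c : Ω} {h : H} : h ∈ stab H s hiff c ↔ s (h.1 c) c := Iff.rfl

/-- the action of the stabiliser on the class -/
def act (c : Ω) : stab H s hiff c →* Perm {x // s x c} where
  toFun h := Perm.subtypePerm h.1.1 (fun x => ⟨fun hx =>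
      (hiff h.1.1 h.1.2 _ _).2 (s.trans' hx (s.symm' h.2)), fun hx => s.trans' ((hiff h.1.1 h.1.2 _ _).1 hx) h.2⟩)
  map_one' := by ext x; rfl
  map_mul' h k := by ext x; rfl

theorem act_apply (c : Ω) (h : stab H s hiff c) (x : {x // s x c}) : (act H s hiff c h x : Ω) = h.1.1 x := rfl

end

theorem StepA.main {Ω : Type u} [Finite Ω] (hI : IH.{u} (Nat.card Ω)) (G : Subgroup (Perm Ω))
    (hG : Group.IsSolvable G) (s : Setoid Ω) (hs : ∀ g ∈ G, ∀ a b, s a b → s (g a) (g b))
    (h1 : ∃ a b, a ≠ b ∧ s a b) (h2 : ∃ a b, ¬ s a b) : Group.IsSolvable (cl G) := by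
  have hcl : ∀ h ∈ cl G, ∀ a b, s a b → s (h a) (h b) := by
    intro h hh a b hab
    obtain ⟨g, hg, ha, hb, -⟩ := hh a b b
    rw [← ha, ← hb]; exact hs g hg a b hab
  have hiff : ∀ h ∈ cl G, ∀ a b, s a b ↔ s (h a) (h b) := by
    intro h hh a b
    refine ⟨hcl h hh a b, fun hab => ?_⟩
    have := hcl h⁻¹ ((cl G).inv_mem hh) _ _ hab
    simpa using this
  refine solvable_of_range_ker (quo (cl G) s hiff) ?_ ?_
  · have hcard : Nat.card (Quotient s) < Nat.card Ω := by
      by_contra hle
      push Not at hle
      obtain ⟨a, b, hab, hsab⟩ := h1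
      have hb := (Quotient.mk_surjective (s := s)).bijective_of_nat_card_le hle
      exact hab (hb.1 (Quotient.sound hsab))
    refine hI.act hcard (quo (cl G) s hiff) (G.comap (cl G).subtype) (solvable_comap _ (cl G).subtype_injective G hG) ?_
    intro h a b c
    induction a using Quotient.inductionOn with | _ a =>
    induction b using Quotient.inductionOn with | _ b =>
    induction c using Quotient.inductionOn with | _ c =>
    obtain ⟨g, hg, ha, hb, hc⟩ := h.2 a b c
    refine ⟨⟨g, le_cl G hg⟩, hg, ?_, ?_, ?_⟩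
    · rw [quo_mk, quo_mk, ← ha]
    · rw [quo_mk, quo_mk, ← hb]
    · rw [quo_mk, quo_mk, ← hc]
  · have hmem : ∀ c : Ω, (quo (cl G) s hiff).ker ≤ stab (cl G) s hiff c := by
      intro c n hn
      rw [MonoidHom.mem_ker] at hn
      have h3 : quo (cl G) s hiff n (Quotient.mk s c) = Quotient.mk s c := by rw [hn]; rfl
      rw [quo_mk] at h3
      exact Quotient.exact h3
    have hact : ∀ c : Ω, Group.IsSolvable (act (cl G) s hiff c).range := by
      intro c
      have hcard : Nat.card {x // s x c} < Nat.card Ω := by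
        obtain ⟨a, b, hab⟩ := h2
        by_cases hac : s a c
        · have hbc : ¬ s b c := fun h => hab (s.trans' hac (s.symm' h))
          exact Finite.card_subtype_lt hbc
        · exact Finite.card_subtype_lt hac
      refine hI.act hcard (act (cl G) s hiff c) (G.comap ((cl G).subtype.comp (stab (cl G) s hiff c).subtype))
        (solvable_comap _ (fun x y h => Subtype.ext (Subtype.ext h)) G hG) ?_
      intro h a b d
      obtain ⟨g, hg, ha, hb, hd⟩ := h.1.2 a b d
      have hgs : s (g c) c := by
        have h3 : s (g a) (g c) := hs g hg a c a.2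
        have h4 : s (h.1.1 a) c := (act (cl G) s hiff c h a).2
        rw [ha] at h3
        exact s.trans' (s.symm' h3) h4
      refine ⟨⟨⟨g, le_cl G hg⟩, hgs⟩, hg, Subtype.ext ?_, Subtype.ext ?_, Subtype.ext ?_⟩
      · rw [act_apply, act_apply]; exact ha
      · rw [act_apply, act_apply]; exact hb
      · rw [act_apply, act_apply]; exact hd
    refine solvable_of_family (ι := Ω) (fun c => (act (cl G) s hiff c).comp (Subgroup.inclusion (hmem c))) ?_ ?_
    · intro c
      refine solvable_of_le ?_ (hact c)
      rintro _ ⟨n, rfl⟩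
      exact ⟨_, rfl⟩
    · intro x hx
      apply Subtype.ext
      apply Subtype.ext
      ext c
      have h3 := congrArg (fun f : Perm {x // s x c} => ((f ⟨c, s.refl' c⟩ : {x // s x c}) : Ω)) (hx c)
      exact h3

end Cfsg.Agent.H183.TcStepA
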