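import Cfsg.Agent.H183.TcStepA

/-!
# S3621, lemma StepB (helper183)

Reduction of the main theorem to irreducible affine groups.
-/

set_option autoImplicit false

namespace Cfsg.Agent.H183.TcStepB

open Equiv Cfsg.Agent.H412.Tc
open scoped commutatorElement

universe u

/-- the automorphism group of `N` acts on `Additive N` -/
def toGV (N : Type*) [CommGroup N] : MulAut N →* GV (Additive N) where
  toFun φ :=
    { val := (MonoidHom.toAdditive φ.toMonoidHom)
      inv := (MonoidHom.toAdditive φ.symm.toMonoidHom)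
      val_inv := by
        ext x
        exact φ.apply_symm_apply _
      inv_val := by
        ext x
        exact φ.symm_apply_apply _ }
  map_one' := by
    apply Units.ext
    ext x
    rfl
  map_mul' φ ψ := by
    apply Units.ext
    ext x
    rfl

theorem toGV_smul {N : Type*} [CommGroup N] (φ : MulAut N) (x : N) :
    toGV N φ • (Additive.ofMul x) = Additive.ofMul (φ x) := rfl

/-- small degrees -/
theorem solvable_small {Ω : Type*} [Finite Ω] (h : Nat.card Ω ≤ 2) (G : Subgroup (Perm Ω)) : Group.IsSolvable G := by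
  classical
  have h1 : Nat.card (Perm Ω) ≤ 2 := by
    rw [Nat.card_perm]
    exact (Nat.factorial_le h).trans (by norm_num)
  have h0 : 0 < Nat.card (Perm Ω) := Nat.card_pos
  have hc : IsCyclic (Perm Ω) := by
    rcases (by omega : Nat.card (Perm Ω) = 1 ∨ Nat.card (Perm Ω) = 2) with h2 | h2
    · have : Subsingleton (Perm Ω) := (Nat.card_eq_one_iff_unique.1 h2).1
      exact isCyclic_of_subsingleton
    · have : Fact (Nat.Prime 2) := ⟨Nat.prime_two⟩
      exact isCyclic_of_prime_card h2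
  refine Group.isSolvable_of_comm ?_
  intro a b
  apply Subtype.ext
  have := IsCyclic.commGroup (α := Perm Ω)
  obtain ⟨g, hg⟩ := hc.exists_generator
  obtain ⟨i, hi⟩ := Subgroup.mem_zpowers_iff.1 (hg a.1)
  obtain ⟨j, hj⟩ := Subgroup.mem_zpowers_iff.1 (hg b.1)
  show a.1 * b.1 = b.1 * a.1
  rw [← hi, ← hj, ← zpow_add, ← zpow_add, add_comm]

/-- a nontrivial solvable group has a nontrivial abelian normal subgroup -/
theorem exists_abelian {G : Type*} [Group G] (hG : Group.IsSolvable G) (hne : ∃ g : G, g ≠ 1) :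
    ∃ N : Subgroup G, N.Normal ∧ N ≠ ⊥ ∧ ∀ a ∈ N, ∀ b ∈ N, a * b = b * a := by
  classical
  have h1 : ∃ n, derivedSeries G n = ⊥ := hG.solvable
  set m := Nat.find h1 with hm
  have hm1 : derivedSeries G m = ⊥ := Nat.find_spec h1
  have hm0 : m ≠ 0 := by
    intro h0
    rw [h0, derivedSeries_zero] at hm1
    obtain ⟨g, hg⟩ := hne
    exact hg ((Subgroup.mem_bot).1 (hm1 ▸ Subgroup.mem_top g))
  obtain ⟨k, hk⟩ := Nat.exists_eq_succ_of_ne_zero hm0
  refine ⟨derivedSeries G k, inferInstance, ?_, ?_⟩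
  · exact Nat.find_min h1 (m := k) (by rw [← hm]; omega)
  · intro a ha b hb
    have h2 : ⁅a, b⁆ ∈ derivedSeries G (k + 1) := by
      rw [derivedSeries_succ]
      exact Subgroup.commutator_mem_commutator ha hb
    rw [show k + 1 = m from hk.symm, hm1, Subgroup.mem_bot] at h2
    exact commutatorElement_eq_one_iff_mul_comm.1 h2

/-- the orbit relation of a subgroup -/
def orb {Ω : Type*} (N : Subgroup (Perm Ω)) : Setoid Ω where
  r a b := ∃ n ∈ N, n a = b
  iseqv := ⟨fun a => ⟨1, N.one_mem, rfl⟩,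
    fun {a b} ⟨n, hn, h⟩ => ⟨n⁻¹, N.inv_mem hn, by rw [← h]; exact n.symm_apply_apply a⟩,
    fun {a b c} ⟨n, hn, h⟩ ⟨k, hk, h'⟩ => ⟨k * n, N.mul_mem hk hn, by rw [Perm.mul_apply, h, h']⟩⟩

theorem orb_inv {Ω : Type*} {G N : Subgroup (Perm Ω)} (hn : ∀ g ∈ G, ∀ n ∈ N, g * n * g⁻¹ ∈ N) :
    ∀ g ∈ G, ∀ a b, orb N a b → orb N (g a) (g b) := by
  rintro g hg a b ⟨n, hn', rfl⟩
  refine ⟨g * n * g⁻¹, hn g hg n hn', ?_⟩
  rw [Perm.mul_apply, Perm.mul_apply]
  congr 2
  exact g.symm_apply_apply a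

theorem prim_case {Ω : Type u} [Finite Ω] (star : ∀ (V : Type u) [AddCommGroup V] [Finite V], 3 ≤ Nat.card V →
      IH.{u} (Nat.card V) → ∀ A : Subgroup (GV V), Group.IsSolvable A → Irr A →
      Group.IsSolvable (cl (Aff A))) (hI : IH.{u} (Nat.card Ω)) (h3 : 3 ≤ Nat.card Ω)
    (G : Subgroup (Perm Ω)) (hG : Group.IsSolvable G)
    (hprim : ∀ s : Setoid Ω, (∀ g ∈ G, ∀ a b, s a b → s (g a) (g b)) → (∀ a b, s a b → a = b) ∨ ∀ a b, s a b) :
    Group.IsSolvable (cl G) := by
  classical
  -- two different points, three different points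
  have : Nonempty Ω := (Nat.card_pos_iff.1 (by omega)).1
  obtain ⟨o⟩ : Nonempty Ω := inferInstance
  obtain ⟨p, hp⟩ : ∃ p : Ω, p ≠ o := by
    by_contra h
    push Not at h
    have : Subsingleton Ω := ⟨fun a b => by rw [h a, h b]⟩
    have := Nat.card_unique (α := Ω)
    omega
  obtain ⟨q, hqo, hqp⟩ : ∃ q : Ω, q ≠ o ∧ q ≠ p := by
    by_contra h
    push Not at h
    have h1 : Nat.card Ω ≤ 2 := by
      have h2 : (Set.univ : Set Ω) ⊆ {o, p} := by
        intro x _
        by_cases hx : x = o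
        · left; exact hx
        · right; exact h x hx
      have h4 := Set.ncard_le_ncard h2 (Set.toFinite _)
      rw [Set.ncard_univ] at h4
      exact h4.trans (Set.ncard_insert_le _ _ |>.trans (by rw [Set.ncard_singleton]))
    omega
  -- `G` is not trivial
  have hne : ∃ g : G, g ≠ 1 := by
    by_contra h
    push Not at h
    have hG1 : ∀ g ∈ G, g = 1 := fun g hg => congrArg Subtype.val (h ⟨g, hg⟩)
    -- the relation with classes `{o, p}` and singletons
    let s : Setoid Ω :=
      { r := fun a b => a = b ∨ ((a = o ∨ a = p) ∧ (b = o ∨ b = p))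
        iseqv := by
          refine ⟨fun a => Or.inl rfl, ?_, ?_⟩
          · rintro a b (h | ⟨h, h'⟩)
            · exact Or.inl h.symm
            · exact Or.inr ⟨h', h⟩
          · rintro a b c (rfl | ⟨h, h'⟩) (rfl | ⟨h'', h'''⟩)
            · exact Or.inl rfl
            · exact Or.inr ⟨h'', h'''⟩
            · exact Or.inr ⟨h, h'⟩
            · exact Or.inr ⟨h, h'''⟩ }
    rcases hprim s (fun g hg a b hab => by rw [hG1 g hg]; exact hab) with h1 | h1
    · exact hp (h1 p o (Or.inr ⟨Or.inr rfl, Or.inl rfl⟩))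
    · rcases h1 q o with h2 | ⟨h2 | h2, -⟩
      · exact hqo h2
      · exact hqo h2
      · exact hqp h2
  obtain ⟨N, hN, hN1, hNc⟩ := exists_abelian hG hne
  let _ : CommGroup N := { (inferInstance : Group N) with mul_comm := fun a b => Subtype.ext (hNc a a.2 b b.2) }
  -- subgroups of `N` normalised by `G`
  have key : ∀ U : Subgroup N, (∀ (g : G), ∀ u ∈ U, MulAut.conjNormal g u ∈ U) →
      U = ⊥ ∨ ∀ a b : Ω, ∃ u ∈ U, ((u : G) : Perm Ω) a = b := by
    intro U hU
    let U' : Subgroup (Perm Ω) := (U.map N.subtype).map G.subtype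
    have hU' : ∀ x, x ∈ U' ↔ ∃ u ∈ U, ((u : G) : Perm Ω) = x := by
      intro x
      constructor
      · rintro ⟨_, ⟨u, hu, rfl⟩, rfl⟩
        exact ⟨u, hu, rfl⟩
      · rintro ⟨u, hu, rfl⟩
        exact ⟨_, ⟨u, hu, rfl⟩, rfl⟩
    have h1 : ∀ g ∈ G, ∀ n ∈ U', g * n * g⁻¹ ∈ U' := by
      intro g hg n hn
      obtain ⟨u, hu, rfl⟩ := (hU' n).1 hn
      refine (hU' _).2 ⟨MulAut.conjNormal (⟨g, hg⟩ : G) u, hU _ u hu, ?_⟩
      rw [MulAut.conjNormal_apply]
      rfl
    rcases hprim (orb U') (orb_inv h1) with h2 | h2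
    · left
      rw [eq_bot_iff]
      intro u hu
      rw [Subgroup.mem_bot]
      apply Subtype.ext
      apply Subtype.ext
      ext a
      have h4 := h2 a (((u : G) : Perm Ω) a) ⟨_, (hU' _).2 ⟨u, hu, rfl⟩, rfl⟩
      exact h4.symm
    · right
      intro a b
      obtain ⟨n, hn, hnab⟩ := h2 a b
      obtain ⟨u, hu, rfl⟩ := (hU' n).1 hn
      exact ⟨u, hu, hnab⟩
  have htr : ∀ a b : Ω, ∃ u : N, ((u : G) : Perm Ω) a = b := by
    intro a b
    rcases key ⊤ (fun _ _ _ => Subgroup.mem_top _) with h1 | h1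
    · exfalso
      apply hN1
      rw [eq_bot_iff]
      intro n hn
      have h2 : (⟨n, hn⟩ : N) ∈ (⊥ : Subgroup N) := h1 ▸ Subgroup.mem_top _
      rw [Subgroup.mem_bot] at h2
      exact (Subgroup.mem_bot).2 (congrArg Subtype.val h2)
    · obtain ⟨u, -, hu⟩ := h1 a b
      exact ⟨u, hu⟩
  -- `N` is regular
  have hreg : ∀ (u v : N) (a : Ω), ((u : G) : Perm Ω) a = ((v : G) : Perm Ω) a → u = v := by
    intro u v a h
    apply Subtype.ext
    apply Subtype.ext
    ext b
    obtain ⟨m, rfl⟩ := htr a b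
    have h1 : ((u : G) : Perm Ω) * ((m : G) : Perm Ω) = ((m : G) : Perm Ω) * ((u : G) : Perm Ω) :=
      congrArg Subtype.val (hNc u u.2 m m.2)
    have h2 : ((v : G) : Perm Ω) * ((m : G) : Perm Ω) = ((m : G) : Perm Ω) * ((v : G) : Perm Ω) :=
      congrArg Subtype.val (hNc v v.2 m m.2)
    rw [← Perm.mul_apply, ← Perm.mul_apply, h1, h2, Perm.mul_apply, Perm.mul_apply, h]
  let e : Additive N ≃ Ω := Equiv.ofBijective (fun x => (((Additive.toMul x : N) : G) : Perm Ω) o) (by
    constructor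
    · intro x y hxy
      exact congrArg Additive.ofMul (hreg _ _ o hxy)
    · intro b
      obtain ⟨u, hu⟩ := htr o b
      exact ⟨Additive.ofMul u, hu⟩)
  have he : ∀ u : N, e (Additive.ofMul u) = ((u : G) : Perm Ω) o := fun u => rfl
  have hfin : Finite (Additive N) := Finite.of_equiv _ e.symm
  have hcard : Nat.card (Additive N) = Nat.card Ω := Nat.card_congr e
  let κ : G →* GV (Additive N) := (toGV N).comp MulAut.conjNormal
  have hsol : Group.IsSolvable κ.range := Group.isSolvable_of_surjective (f := κ.rangeRestrict) κ.rangeRestrict_surjective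
  have hirr : Irr κ.range := by
    intro U hU
    rcases key (AddSubgroup.toSubgroup' U) (fun g u hu => hU (κ g) ⟨g, rfl⟩ (Additive.ofMul u) hu) with h1 | h1
    · left
      rw [eq_bot_iff]
      intro x hx
      have h2 : (Additive.toMul x) ∈ (⊥ : Subgroup N) := by rw [← h1]; exact hx
      rw [Subgroup.mem_bot] at h2
      exact (AddSubgroup.mem_bot).2 (congrArg Additive.ofMul h2)
    · right
      rw [eq_top_iff]
      intro x _
      obtain ⟨u, hu, hux⟩ := h1 o (e x)
      have h2 : u = Additive.toMul x := hreg _ _ o hux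
      rw [h2] at hu
      exact hu
  have hs := star (Additive N) (by omega) (by rw [hcard]; exact hI) κ.range hsol hirr
  -- transport
  have haff : ∀ g ∈ G, (e.symm.permCongrHom g : Perm (Additive N)) ∈ Aff κ.range := by
    intro g hg
    refine ⟨κ ⟨g, hg⟩, ⟨_, rfl⟩, e.symm (g o), fun x => ?_⟩
    have h1 : (e.symm.permCongrHom g : Perm (Additive N)) x = e.symm (g (e x)) := rfl
    rw [h1]
    apply e.injective
    rw [e.apply_symm_apply]
    obtain ⟨t, ht⟩ : ∃ t : N, Additive.ofMul t = e.symm (g o) := ⟨Additive.toMul (e.symm (g o)), rfl⟩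
    have ht' : ((t : G) : Perm Ω) o = g o := by
      rw [← he t, ht, e.apply_symm_apply]
    rw [← ht]
    have h2 : κ ⟨g, hg⟩ • x = Additive.ofMul (MulAut.conjNormal (⟨g, hg⟩ : G) (Additive.toMul x)) := rfl
    rw [h2, ← ofMul_mul, he]
    have h5 : (((MulAut.conjNormal (⟨g, hg⟩ : G) (Additive.toMul x) * t : N) : G) : Perm Ω) =
        g * (((Additive.toMul x : N) : G) : Perm Ω) * g⁻¹ * ((t : G) : Perm Ω) := by
      have h6 : ((MulAut.conjNormal (⟨g, hg⟩ : G) (Additive.toMul x) * t : N) : G) =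
        (⟨g, hg⟩ : G) * ((Additive.toMul x : N) : G) * (⟨g, hg⟩ : G)⁻¹ * (t : G) := by
        rw [Subgroup.coe_mul, MulAut.conjNormal_apply]
      rw [h6]; rfl
    rw [h5, Perm.mul_apply, ht', Perm.mul_apply, Perm.mul_apply]
    have h7 : g⁻¹ (g o) = o := g.symm_apply_apply o
    rw [h7]
    rfl
  have hmem : ∀ h ∈ cl G, (e.symm.permCongrHom h : Perm (Additive N)) ∈ cl (Aff κ.range) := by
    intro h hh a b c
    obtain ⟨g, hg, ha, hb, hc⟩ := hh (e a) (e b) (e c)
    refine ⟨_, haff g hg, ?_, ?_, ?_⟩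
    · exact congrArg e.symm ha
    · exact congrArg e.symm hb
    · exact congrArg e.symm hc
  let Φ : cl G →* cl (Aff κ.range) := ((e.symm.permCongrHom : Perm Ω ≃* Perm (Additive N)).toMonoidHom.comp
    (cl G).subtype).codRestrict _ (fun h => hmem h h.2)
  refine Group.isSolvable_of_isSolvable_injective (f := Φ) ?_
  intro a b hab
  apply Subtype.ext
  exact e.symm.permCongrHom.injective (congrArg Subtype.val hab)

theorem StepB.main (star : ∀ (V : Type u) [AddCommGroup V] [Finite V], 3 ≤ Nat.card V →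
      IH.{u} (Nat.card V) → ∀ A : Subgroup (GV V), Group.IsSolvable A → Irr A →
      Group.IsSolvable (cl (Aff A))) {Ω : Type u} [Finite Ω]
    (G : Subgroup (Perm Ω)) (hG : Group.IsSolvable G) : Group.IsSolvable (cl G) := by
  obtain ⟨n, hn⟩ : ∃ n, n = Nat.card Ω := ⟨_, rfl⟩
  induction n using Nat.strong_induction_on generalizing Ω with
  | _ n ih =>
    have hI : IH.{u} (Nat.card Ω) := by
      intro X _ hX G' hG'
      exact ih (Nat.card X) (by rw [hn]; exact hX) G' hG' rfl
    by_cases h2 : Nat.card Ω ≤ 2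
    · exact solvable_small h2 _
    by_cases hprim : ∀ s : Setoid Ω, (∀ g ∈ G, ∀ a b, s a b → s (g a) (g b)) → (∀ a b, s a b → a = b) ∨ ∀ a b, s a b
    · exact prim_case star hI (by omega) G hG hprim
    · push Not at hprim
      obtain ⟨s, hs, ⟨a, b, hab, hne⟩, h3⟩ := hprim
      exact TcStepA.StepA.main hI G hG s hs ⟨a, b, hne, hab⟩ h3

end Cfsg.Agent.H183.TcStepB
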